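import Mathlib

/-!
# Two subgroups sharing an index two over the cores

A pair of finite subgroups with a common Sylow 2-subgroup, each dihedral of twice odd order modulo
the 2-core: basic facts about the modules spanned by the central involutions.
-/

set_option autoImplicit false
set_option linter.style.haveILetI false

namespace Cfsg.Agent.Solv.Amalgam

universe u

variable {G : Type u} [Group G]

/-- The quotient of `P` by `Q` is dihedral of twice odd order, with `T` over a reflection. -/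
structure Dih (P T Q : Subgroup G) : Prop where
  Q_le : Q ≤ T
  T_le : T ≤ P
  norm : P ≤ Subgroup.normalizer (Q : Set G)
  proper : ∃ t ∈ T, t ∉ Q
  two : ∀ s ∈ T, ∀ t ∈ T, s ∉ Q → t ∉ Q → s⁻¹ * t ∈ Q
  self : ∀ g ∈ P, (∀ t ∈ T, g * t * g⁻¹ ∈ T) → g ∈ T
  gen : ∃ g ∈ P, T ⊔ T.map (MulAut.conj g).toMonoidHom = P
  rot : ∀ h ∈ P, ∃ g ∈ P, g⁻¹ * h ∈ T ∧ (∃ N : ℕ, Odd N ∧ g ^ N ∈ Q) ∧
    ∀ t ∈ T, t ∉ Q → t * g * t⁻¹ * g ∈ Q

/-- Conjugate of a subgroup. -/
def cnj (g : G) (H : Subgroup G) : Subgroup G := H.map (MulAut.conj g).toMonoidHom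

theorem mem_cnj {g : G} {H : Subgroup G} {a : G} : a ∈ cnj g H ↔ g⁻¹ * a * g ∈ H := by
  rw [cnj]
  constructor
  · rintro ⟨b, hb, rfl⟩
    show g⁻¹ * (g * b * g⁻¹) * g ∈ H
    rwa [show g⁻¹ * (g * b * g⁻¹) * g = b by group]
  · exact fun h => ⟨_, h, show g * (g⁻¹ * a * g) * g⁻¹ = a by group⟩

theorem cnj_conj_mem {g : G} {H : Subgroup G} {a : G} : g * a * g⁻¹ ∈ cnj g H ↔ a ∈ H := by
  rw [mem_cnj, show g⁻¹ * (g * a * g⁻¹) * g = a by group]

theorem cnj_cnj (g h : G) (H : Subgroup G) : cnj g (cnj h H) = cnj (g * h) H := by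
  ext a
  rw [mem_cnj, mem_cnj, mem_cnj, mul_inv_rev]
  simp only [mul_assoc]

theorem cnj_one (H : Subgroup G) : cnj 1 H = H := by ext a; rw [mem_cnj]; simp

theorem cnj_mono (g : G) {H K : Subgroup G} (h : H ≤ K) : cnj g H ≤ cnj g K := Subgroup.map_mono h

theorem cnj_inf (g : G) (H K : Subgroup G) : cnj g (H ⊓ K) = cnj g H ⊓ cnj g K := by
  ext a; simp only [mem_cnj, Subgroup.mem_inf]

theorem cnj_le_cnj {g : G} {H K : Subgroup G} : cnj g H ≤ cnj g K ↔ H ≤ K :=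
  ⟨fun h a ha => cnj_conj_mem.1 (h (cnj_conj_mem.2 ha)), cnj_mono g⟩

theorem cnj_eq_of_mem_normalizer {g : G} {H : Subgroup G} (h : g ∈ Subgroup.normalizer (H : Set G)) :
    cnj g H = H := by
  ext a
  rw [mem_cnj, Subgroup.mem_normalizer_iff.1 h, show g * (g⁻¹ * a * g) * g⁻¹ = a by group]

theorem mem_normalizer_of_conj_mem [Finite G] {g : G} {H : Subgroup G} (h : ∀ a ∈ H, g * a * g⁻¹ ∈ H) :
    g ∈ Subgroup.normalizer (H : Set G) :=
  Subgroup.mem_normalizer_fintype h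

theorem mem_normalizer_of_finite {g : G} {H : Subgroup G} [Finite H] (h : ∀ a ∈ H, g * a * g⁻¹ ∈ H) :
    g ∈ Subgroup.normalizer (H : Set G) :=
  Subgroup.mem_normalizer_fintype h

/-- A subgroup normalized by `P` above `Q` that contains a reflection is everything. -/
theorem Dih.le_of_mem {P T Q : Subgroup G} (hD : Dih P T Q) {H : Subgroup G}
    (hn : ∀ g ∈ P, ∀ a ∈ H, g * a * g⁻¹ ∈ H) (hQ : Q ≤ H) {t : G} (ht : t ∈ T) (htQ : t ∉ Q) (htH : t ∈ H) :
    P ≤ H := by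
  have hT : T ≤ H := by
    intro s hs
    by_cases hsQ : s ∈ Q
    · exact hQ hsQ
    · have := H.mul_mem htH (hQ (hD.two t ht s hs htQ hsQ))
      rwa [mul_inv_cancel_left] at this
  obtain ⟨g, hg, hgen⟩ := hD.gen
  rw [← hgen]
  refine sup_le hT ?_
  rintro _ ⟨s, hs, rfl⟩
  exact hn g hg s (hT hs)

/-- The data of an amalgam. -/
structure Data (G : Type u) [Group G] where
  P : Bool → Subgroup G
  Q : Bool → Subgroup G
  T : Subgroup G
  fin : Finite T
  finP : ∀ i, Finite (P i)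
  pgroup : IsPGroup 2 T
  dih : ∀ i, Dih (P i) T (Q i)
  ne : Q false ≠ Q true
  faithful : ∀ N : Subgroup G, N ≤ T → (∀ i, ∀ g ∈ P i, ∀ n ∈ N, g * n * g⁻¹ ∈ N) → N = ⊥

namespace Data

variable (X : Data G)

/-- The central involutions of the common subgroup. -/
def Z : Set G := {z | z ∈ X.T ∧ z * z = 1 ∧ ∀ t ∈ X.T, t * z = z * t}

/-- The centre of both cores and no side centralizing. -/
structure Noncentral : Prop where
  Z_le : ∀ i, X.Z ⊆ (X.Q i : Set G)
  nc : ∀ i, ∃ g ∈ X.P i, ∃ z ∈ X.Z, g * z ≠ z * g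

/-- The module spanned by the conjugates of the central involutions. -/
def V (i : Bool) : Subgroup G :=
  Subgroup.closure {a | ∃ g ∈ X.P i, ∃ z ∈ X.Z, a = g * z * g⁻¹}

/-- The commutators of the module with the common subgroup. -/
def R (i : Bool) : Subgroup G :=
  Subgroup.closure {a | ∃ v ∈ X.V i, ∃ t ∈ X.T, a = v * t * v⁻¹ * t⁻¹}

theorem Q_ne (i : Bool) : X.Q i ≠ X.Q (!i) := by cases i <;> simp [X.ne, X.ne.symm]

theorem Q_not_le (i : Bool) : ¬ X.Q i ≤ X.Q (!i) := by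
  intro h
  refine X.Q_ne i (le_antisymm h fun s hs => ?_)
  by_contra hsQ
  obtain ⟨t, ht, htQ⟩ := (X.dih (!i)).proper
  have hti : t ∉ X.Q i := fun h' => htQ (h h')
  have h2 := (X.dih i).two s ((X.dih (!i)).Q_le hs) t ht hsQ hti
  refine htQ ?_
  have := (X.Q (!i)).mul_mem hs (h h2)
  rwa [mul_inv_cancel_left] at this

theorem Q_normal (i : Bool) {g q : G} (hg : g ∈ X.P i) (hq : q ∈ X.Q i) : g * q * g⁻¹ ∈ X.Q i :=
  (Subgroup.mem_normalizer_iff.1 ((X.dih i).norm hg) q).1 hq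

theorem sup_eq : X.Q false ⊔ X.Q true = X.T := by
  refine le_antisymm (sup_le (X.dih false).Q_le (X.dih true).Q_le) fun t ht => ?_
  by_cases h : t ∈ X.Q false
  · exact le_sup_left (a := X.Q false) h
  · obtain ⟨q, hq, hq0⟩ : ∃ q ∈ X.Q true, q ∉ X.Q false := SetLike.not_le_iff_exists.1 (X.Q_not_le true)
    have h2 := (X.dih false).two q ((X.dih true).Q_le hq) t ht hq0 h
    have := Subgroup.mul_mem _ (le_sup_right (a := X.Q false) hq) (le_sup_left (b := X.Q true) h2)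
    rwa [mul_inv_cancel_left] at this

theorem inf_eq : X.P false ⊓ X.P true = X.T := by
  refine le_antisymm (fun g hg => ?_) (le_inf (X.dih false).T_le (X.dih true).T_le)
  refine (X.dih false).self g hg.1 fun t ht => ?_
  have h : X.Q false ⊔ X.Q true ≤ X.T.comap (MulAut.conj g).toMonoidHom :=
    sup_le (fun a ha => (X.dih false).Q_le (X.Q_normal false hg.1 ha))
      fun a ha => (X.dih true).Q_le (X.Q_normal true hg.2 ha)
  exact h (X.sup_eq.symm ▸ ht)

theorem Z_conj_T {z t : G} (hz : z ∈ X.Z) (ht : t ∈ X.T) : t * z * t⁻¹ = z := by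
  rw [hz.2.2 t ht, mul_inv_cancel_right]

theorem Z_nontrivial : ∃ z ∈ X.Z, z ≠ 1 := by
  haveI := X.fin
  haveI : Nontrivial X.T := by
    obtain ⟨t, ht, htQ⟩ := (X.dih false).proper
    exact ⟨⟨t, ht⟩, 1, fun h => htQ (by rw [show t = 1 from congrArg Subtype.val h]; exact one_mem _)⟩
  haveI : Fact (Nat.Prime 2) := ⟨Nat.prime_two⟩
  have h2 : 2 ∣ Nat.card (Subgroup.center X.T) := by
    haveI := X.pgroup.center_nontrivial
    obtain ⟨k, hk, hk2⟩ := (X.pgroup.to_subgroup (Subgroup.center X.T)).nontrivial_iff_card.1 inferInstance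
    rw [hk2]
    exact dvd_pow_self 2 hk.ne'
  obtain ⟨z, hz⟩ := exists_prime_orderOf_dvd_card' 2 h2
  refine ⟨z.1.1, ⟨z.1.2, ?_, fun t ht => congrArg Subtype.val (Subgroup.mem_center_iff.1 z.2 ⟨t, ht⟩)⟩, ?_⟩
  · have := pow_orderOf_eq_one z
    rw [hz, pow_two] at this
    exact congrArg (fun w => w.1.1) this
  · intro h
    rw [show z = 1 from Subtype.ext (Subtype.ext h), orderOf_one] at hz
    omega

variable {X} (hX : X.Noncentral)
include hX

theorem gen_mem {i : Bool} {a : G} (ha : ∃ g ∈ X.P i, ∃ z ∈ X.Z, a = g * z * g⁻¹) :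
    a ∈ X.Q i ∧ a * a = 1 ∧ ∀ q ∈ X.Q i, q * a = a * q := by
  obtain ⟨g, hg, z, hz, rfl⟩ := ha
  refine ⟨X.Q_normal i hg (hX.Z_le i hz), by
    rw [show g * z * g⁻¹ * (g * z * g⁻¹) = g * (z * z) * g⁻¹ by group, hz.2.1, mul_one, mul_inv_cancel], fun q hq => ?_⟩
  have h1 := hz.2.2 _ ((X.dih i).Q_le (X.Q_normal i (inv_mem hg) hq))
  rw [inv_inv] at h1
  calc q * (g * z * g⁻¹) = g * (g⁻¹ * q * g * z) * g⁻¹ := by group
    _ = g * (z * (g⁻¹ * q * g)) * g⁻¹ := by rw [h1]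
    _ = _ := by group

theorem V_le (i : Bool) : X.V i ≤ X.Q i :=
  (Subgroup.closure_le _).2 fun _ ha => (gen_mem hX ha).1

theorem V_central {i : Bool} {v : G} (hv : v ∈ X.V i) {q : G} (hq : q ∈ X.Q i) : q * v = v * q := by
  induction hv using Subgroup.closure_induction with
  | mem a ha => exact (gen_mem hX ha).2.2 q hq
  | one => simp
  | mul a b _ _ ha hb => rw [← mul_assoc, ha, mul_assoc, hb, ← mul_assoc]
  | inv a _ ha => exact (Commute.inv_right ha).eq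

theorem V_comm {i : Bool} {v w : G} (hv : v ∈ X.V i) (hw : w ∈ X.V i) : v * w = w * v :=
  V_central hX hw (V_le hX i hv)

theorem V_sq {i : Bool} {v : G} (hv : v ∈ X.V i) : v * v = 1 := by
  induction hv using Subgroup.closure_induction with
  | mem a ha => exact (gen_mem hX ha).2.1
  | one => simp
  | mul a b ha' hb' ha hb =>
    rw [show a * b * (a * b) = a * (b * a) * b by group, V_comm hX hb' ha',
      show a * (a * b) * b = a * a * (b * b) by group, ha, hb, one_mul]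
  | inv a _ ha => rw [← mul_inv_rev, ha, inv_one]

theorem V_inv {i : Bool} {v : G} (hv : v ∈ X.V i) : v⁻¹ = v := inv_eq_of_mul_eq_one_right (V_sq hX hv)

omit hX in
theorem V_conj {i : Bool} {g v : G} (hg : g ∈ X.P i) (hv : v ∈ X.V i) : g * v * g⁻¹ ∈ X.V i := by
  induction hv using Subgroup.closure_induction with
  | mem a ha =>
    obtain ⟨h, hh, z, hz, rfl⟩ := ha
    exact Subgroup.subset_closure ⟨g * h, mul_mem hg hh, z, hz, by group⟩
  | one => simp
  | mul a b _ _ ha hb => rw [← conj_mul]; exact mul_mem ha hb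
  | inv a _ ha => rw [← conj_inv]; exact inv_mem ha

omit hX in
theorem Z_le_V (i : Bool) {z : G} (hz : z ∈ X.Z) : z ∈ X.V i :=
  Subgroup.subset_closure ⟨1, one_mem _, z, hz, by simp⟩

omit hX in
theorem V_finite (i : Bool) : Finite (X.V i) := by
  haveI := X.finP i
  have h : X.V i ≤ X.P i := (Subgroup.closure_le _).2 fun a ⟨g, hg, z, hz, e⟩ =>
    e ▸ mul_mem (mul_mem hg ((X.dih i).T_le hz.1)) (inv_mem hg)
  exact Finite.of_injective _ (Subgroup.inclusion_injective h)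

theorem cent {i : Bool} {t : G} (ht : t ∈ X.T) (h : ∀ v ∈ X.V i, t * v = v * t) : t ∈ X.Q i := by
  by_contra htQ
  obtain ⟨g, hg, z, hz, hne⟩ := hX.nc i
  refine hne ?_
  have hle : X.P i ≤ Subgroup.centralizer (X.V i : Set G) := by
    refine (X.dih i).le_of_mem (fun g hg a ha => ?_) (fun q hq => Subgroup.mem_centralizer_iff.2
      fun v hv => (V_central hX hv hq).symm) ht htQ (Subgroup.mem_centralizer_iff.2 fun v hv => (h v hv).symm)
    refine Subgroup.mem_centralizer_iff.2 fun v hv => ?_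
    have h1 := Subgroup.mem_centralizer_iff.1 ha _ (V_conj (inv_mem hg) hv)
    rw [inv_inv] at h1
    calc v * (g * a * g⁻¹) = g * (g⁻¹ * v * g * a) * g⁻¹ := by group
      _ = g * (a * (g⁻¹ * v * g)) * g⁻¹ := by rw [h1]
      _ = _ := by group
  exact (Subgroup.mem_centralizer_iff.1 (hle hg) z (Z_le_V i hz)).symm

theorem R_gen_mem {i : Bool} {v t : G} (hv : v ∈ X.V i) (ht : t ∈ X.T) :
    v * t * v⁻¹ * t⁻¹ ∈ X.V i ∧ v * t * v⁻¹ * t⁻¹ ∈ X.Z := by
  have htv : t * v * t⁻¹ ∈ X.V i := V_conj ((X.dih i).T_le ht) hv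
  have hV : v * t * v⁻¹ * t⁻¹ ∈ X.V i := by
    rw [show v * t * v⁻¹ * t⁻¹ = v * (t * v⁻¹ * t⁻¹) by group]
    exact mul_mem hv (V_conj ((X.dih i).T_le ht) (inv_mem hv))
  refine ⟨hV, (X.dih i).Q_le (V_le hX i hV), V_sq hX hV, ?_⟩
  intro s hs
  by_cases hsQ : s ∈ X.Q i
  · exact V_central hX hV hsQ
  by_cases htQ : t ∈ X.Q i
  · rw [show v * t * v⁻¹ * t⁻¹ = 1 by rw [← V_central hX hv htQ]; group, mul_one, one_mul]
  have hst := (X.dih i).two t ht s hs htQ hsQ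
  have htt : t * t ∈ X.Q i := by
    have h2 := (X.dih i).two _ (inv_mem ht) t ht (fun h => htQ (by simpa using inv_mem h)) htQ
    rwa [inv_inv] at h2
  have key : t * (v * t * v⁻¹ * t⁻¹) = v * t * v⁻¹ * t⁻¹ * t := by
    calc t * (v * t * v⁻¹ * t⁻¹) = t * v * t⁻¹ * ((t * t) * v⁻¹) * t⁻¹ := by group
      _ = t * v * t⁻¹ * (v⁻¹ * (t * t)) * t⁻¹ := by rw [V_central hX (inv_mem hv) htt]
      _ = (t * v * t⁻¹ * v⁻¹) * t := by group
      _ = (v * t * v⁻¹ * t⁻¹)⁻¹ * t := by group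
      _ = _ := by rw [V_inv hX hV]
  calc s * (v * t * v⁻¹ * t⁻¹) = t * ((t⁻¹ * s) * (v * t * v⁻¹ * t⁻¹)) := by group
    _ = t * ((v * t * v⁻¹ * t⁻¹) * (t⁻¹ * s)) := by rw [V_central hX hV hst]
    _ = (t * (v * t * v⁻¹ * t⁻¹)) * (t⁻¹ * s) := by group
    _ = _ := by rw [key]; group

theorem R_le (i : Bool) : X.R i ≤ X.V i :=
  (Subgroup.closure_le _).2 fun _ ⟨_, hv, _, ht, e⟩ => e ▸ (R_gen_mem hX hv ht).1

theorem R_T {i : Bool} {r t : G} (hr : r ∈ X.R i) (ht : t ∈ X.T) : t * r = r * t := by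
  induction hr using Subgroup.closure_induction with
  | mem a ha =>
    obtain ⟨v, hv, s, hs, rfl⟩ := ha
    exact (R_gen_mem hX hv hs).2.2.2 t ht
  | one => simp
  | mul a b _ _ ha hb => rw [← mul_assoc, ha, mul_assoc, hb, ← mul_assoc]
  | inv a _ ha => exact (Commute.inv_right ha).eq

theorem R_ne_bot (i : Bool) : X.R i ≠ ⊥ := by
  intro h
  obtain ⟨t, ht, htQ⟩ := (X.dih i).proper
  refine htQ (cent hX ht fun v hv => ?_)
  have h1 : v * t * v⁻¹ * t⁻¹ ∈ X.R i := Subgroup.subset_closure ⟨v, hv, t, ht, rfl⟩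
  rw [h, Subgroup.mem_bot] at h1
  calc t * v = (v * t * v⁻¹ * t⁻¹) * t * v := by rw [h1, one_mul]
    _ = v * t := by group

/-- Commutators of an elementary module with a transvection module are not fixed by the whole side. -/
theorem R_not_central {i : Bool} {c : G} (hc : ∀ r ∈ X.R i, r = 1 ∨ r = c) :
    ∃ g ∈ X.P i, ∃ r ∈ X.R i, g * r ≠ r * g := by
  by_contra hcon
  push Not at hcon
  obtain ⟨g₀, hg₀, z, hz, hne⟩ := hX.nc i
  refine hne ?_
  -- every element moves each vector within the commutators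
  have hmv : ∀ h ∈ X.P i, ∀ v ∈ X.V i, h * v * h⁻¹ * v⁻¹ ∈ X.R i := by
    let S : Subgroup G :=
      { carrier := {h | h ∈ X.P i ∧ ∀ v ∈ X.V i, h * v * h⁻¹ * v⁻¹ ∈ X.R i}
        mul_mem' := fun {a b} ha hb => ⟨mul_mem ha.1 hb.1, fun v hv => by
          have h1 := hb.2 v hv
          have h2 := ha.2 v hv
          have h3 : a * (b * v * b⁻¹ * v⁻¹) = (b * v * b⁻¹ * v⁻¹) * a := hcon a ha.1 _ h1
          rw [show a * b * v * (a * b)⁻¹ * v⁻¹ = a * (b * v * b⁻¹ * v⁻¹) * v * a⁻¹ * v⁻¹ by group, h3,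
            show (b * v * b⁻¹ * v⁻¹) * a * v * a⁻¹ * v⁻¹ = (b * v * b⁻¹ * v⁻¹) * (a * v * a⁻¹ * v⁻¹) by group]
          exact mul_mem h1 h2⟩
        one_mem' := ⟨one_mem _, fun v _ => by simp⟩
        inv_mem' := fun {a} ha => ⟨inv_mem ha.1, fun v hv => by
          have h1 := ha.2 v hv
          have h3 := hcon _ (inv_mem ha.1) _ h1
          rw [show a⁻¹ * v * a⁻¹⁻¹ * v⁻¹ = (a⁻¹ * (a * v * a⁻¹ * v⁻¹) * a)⁻¹ by group, h3,
            show (a * v * a⁻¹ * v⁻¹) * a⁻¹ * a = a * v * a⁻¹ * v⁻¹ by group]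
          exact inv_mem h1⟩ }
    have hT : X.T ≤ S := fun t ht => ⟨(X.dih i).T_le ht, fun v hv => by
      have h1 : v * t * v⁻¹ * t⁻¹ ∈ X.R i := Subgroup.subset_closure ⟨v, hv, t, ht, rfl⟩
      rw [show t * v * t⁻¹ * v⁻¹ = (v * t * v⁻¹ * t⁻¹)⁻¹ by group]
      exact inv_mem h1⟩
    obtain ⟨g, hg, hgen⟩ := (X.dih i).gen
    have hle : X.P i ≤ S := by
      rw [← hgen]
      refine sup_le hT ?_
      rintro _ ⟨t, ht, rfl⟩
      refine ⟨mul_mem (mul_mem hg ((X.dih i).T_le ht)) (inv_mem hg), fun v hv => ?_⟩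
      have h1 := (hT ht).2 _ (V_conj (inv_mem hg) hv)
      rw [inv_inv] at h1
      have h2 := hcon g hg _ h1
      show g * t * g⁻¹ * v * (g * t * g⁻¹)⁻¹ * v⁻¹ ∈ X.R i
      rw [show g * t * g⁻¹ * v * (g * t * g⁻¹)⁻¹ * v⁻¹ =
        g * (t * (g⁻¹ * v * g) * t⁻¹ * (g⁻¹ * v * g)⁻¹) * g⁻¹ by group, h2, mul_inv_cancel_right]
      exact h1
    exact fun h hh => (hle hh).2
  -- a rotation has odd order on the module
  obtain ⟨g, hg, hgT, ⟨N, hN, hgN⟩, -⟩ := (X.dih i).rot g₀ hg₀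
  set d := g * z * g⁻¹ * z⁻¹ with hd
  have hdR : d ∈ X.R i := hmv g hg z (Z_le_V i hz)
  have hpow : ∀ n : ℕ, g ^ n * z * (g ^ n)⁻¹ = d ^ n * z := by
    intro n
    induction n with
    | zero => simp
    | succ n ih =>
      have hn : g * d ^ n = d ^ n * g := (Commute.pow_right (hcon g hg d hdR) n).eq
      calc g ^ (n + 1) * z * (g ^ (n + 1))⁻¹ = g * (g ^ n * z * (g ^ n)⁻¹) * g⁻¹ := by
            rw [pow_succ']; group
        _ = g * d ^ n * z * g⁻¹ := by rw [ih]; group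
        _ = d ^ n * (g * z * g⁻¹) := by rw [hn]; group
        _ = d ^ n * d * z := by rw [hd]; group
        _ = d ^ (n + 1) * z := by rw [pow_succ]
  have h2 := hpow N
  rw [Z_conj_T X hz ((X.dih i).Q_le hgN)] at h2
  have h3 : d ^ N = 1 := mul_eq_right.1 h2.symm
  obtain ⟨k, rfl⟩ := hN
  have hd2 : d * d = 1 := V_sq hX (R_le hX i hdR)
  rw [pow_succ, pow_mul, pow_two, hd2, one_pow, one_mul] at h3
  have hgz : g * z = z * g := by
    calc g * z = d * z * g := by rw [hd]; group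
      _ = z * g := by rw [h3, one_mul]
  calc g₀ * z = g * ((g⁻¹ * g₀) * z) := by group
    _ = g * (z * (g⁻¹ * g₀)) := by rw [hz.2.2 _ hgT]
    _ = (g * z) * (g⁻¹ * g₀) := by group
    _ = _ := by rw [hgz]; group

end Data

end Cfsg.Agent.Solv.Amalgam
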