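import Mathlib
import Cfsg.Prelude.Def_CaseTheorems
import Cfsg.Agent.Lib.Solv.Cores
import Cfsg.Agent.Lib.Solv.Amalgam.Defs

/-!
# A subgroup with dihedral quotient over its 2-core
-/

set_option autoImplicit false
set_option linter.style.haveILetI false

namespace Cfsg.Agent.Solv.Amalgam

universe u

variable {G : Type u} [Group G]

theorem odd_of_iso {H : Type u} [Group H] [Finite H] {n : ℕ} (hn : n ≠ 0)
    (e : H ⧸ Cfsg.pCore 2 H ≃* DihedralGroup n) : Odd n := by
  haveI : Fact (Nat.Prime 2) := ⟨Nat.prime_two⟩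
  haveI := Cfsg.Agent.Solv.pCore_normal (G := H) 2
  by_contra hev
  rw [Nat.not_odd_iff_even] at hev
  obtain ⟨k, rfl⟩ := hev
  set x : DihedralGroup (k + k) := DihedralGroup.r (k : ZMod (k + k)) with hx
  have hkk : (k : ZMod (k + k)) + k = 0 := by rw [← Nat.cast_add]; exact ZMod.natCast_self _
  have hneg : -(k : ZMod (k + k)) = k := neg_eq_of_add_eq_zero_left hkk
  have hx1 : x ≠ 1 := by
    rw [hx, DihedralGroup.one_def]
    intro h
    have h' : ((k : ℕ) : ZMod (k + k)) = 0 := DihedralGroup.r.inj h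
    rw [ZMod.natCast_eq_zero_iff] at h'
    have := Nat.le_of_dvd (by omega) h'
    omega
  have hx2 : x * x = 1 := by rw [hx, DihedralGroup.r_mul_r, hkk, DihedralGroup.one_def]
  have hxc : ∀ y : DihedralGroup (k + k), y * x = x * y := by
    intro y
    cases y with
    | r i => simp only [hx, DihedralGroup.r_mul_r]; rw [add_comm i]
    | sr i => rw [hx, DihedralGroup.sr_mul_r, DihedralGroup.r_mul_sr, sub_eq_add_neg, hneg]
  haveI : (Subgroup.zpowers x).Normal := ⟨fun a ha g => by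
    obtain ⟨j, rfl⟩ := Subgroup.mem_zpowers_iff.1 ha
    have : g * x ^ j = x ^ j * g := (Commute.zpow_right (hxc g) j).eq
    rw [this, mul_inv_cancel_right]
    exact zpow_mem (Subgroup.mem_zpowers x) j⟩
  set ψ := e.toMonoidHom.comp (QuotientGroup.mk' (Cfsg.pCore 2 H)) with hψ
  have hsurj : Function.Surjective ψ := e.surjective.comp (QuotientGroup.mk'_surjective _)
  have hp : IsPGroup 2 ((Subgroup.zpowers x).comap ψ) := by
    refine IsPGroup.comap_of_ker_isPGroup (IsPGroup.of_card (n := 1) ?_) ψ ?_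
    · rw [Nat.card_zpowers, pow_one]
      exact orderOf_eq_prime (by rw [pow_two]; exact hx2) hx1
    · have : ψ.ker = Cfsg.pCore 2 H := by
        ext h
        rw [MonoidHom.mem_ker, ← QuotientGroup.eq_one_iff (N := Cfsg.pCore 2 H) h]
        exact ⟨fun h' => e.injective (h'.trans e.map_one.symm), fun h' => by
          show e ((h : H ⧸ Cfsg.pCore 2 H)) = 1
          rw [h', map_one]⟩
      rw [this]
      exact Cfsg.Agent.Solv.pCore_isPGroup 2
  haveI : ((Subgroup.zpowers x).comap ψ).Normal := Subgroup.Normal.comap inferInstance ψ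
  obtain ⟨h, hh⟩ := hsurj x
  have h1 := Cfsg.Agent.Solv.normal_le_pCore hp (show h ∈ (Subgroup.zpowers x).comap ψ by
    rw [Subgroup.mem_comap, hh]; exact Subgroup.mem_zpowers x)
  refine hx1 ?_
  rw [← hh]
  show e ((h : H ⧸ Cfsg.pCore 2 H)) = 1
  rw [(QuotientGroup.eq_one_iff h).2 h1, map_one]

theorem dih_of_iso (H P : Subgroup G) [Finite H] (hPH : P ≤ H) (hP : IsPGroup 2 P)
    (hidx : ¬ 2 ∣ P.relIndex H) {n : ℕ} (hn : n ≠ 0)
    (e : ↥H ⧸ Cfsg.pCore 2 ↥H ≃* DihedralGroup n) : Dih H P ((Cfsg.pCore 2 ↥H).map H.subtype) := by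
  haveI : Fact (Nat.Prime 2) := ⟨Nat.prime_two⟩
  haveI : NeZero n := ⟨hn⟩
  haveI := Cfsg.Agent.Solv.pCore_normal (G := ↥H) 2
  have hodd := odd_of_iso hn e
  set ψ := e.toMonoidHom.comp (QuotientGroup.mk' (Cfsg.pCore 2 ↥H)) with hψ
  have hsurj : Function.Surjective ψ := e.surjective.comp (QuotientGroup.mk'_surjective _)
  have hmemQ : ∀ h : ↥H, (h : G) ∈ (Cfsg.pCore 2 ↥H).map H.subtype ↔ ψ h = 1 := by
    intro h
    show H.subtype h ∈ _ ↔ _
    rw [Subgroup.mem_map_iff_mem H.subtype_injective]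
    refine ⟨fun h' => ?_, fun h' => ?_⟩
    · show e ((h : ↥H ⧸ Cfsg.pCore 2 ↥H)) = 1
      rw [(QuotientGroup.eq_one_iff h).2 h', map_one]
    · exact (QuotientGroup.eq_one_iff h).1 (e.injective (h'.trans e.map_one.symm))
  set P' := P.subgroupOf H with hP'
  have hP'p : IsPGroup 2 P' := hP.of_equiv (Subgroup.subgroupOfEquivOfLe hPH).symm
  have hQP : (Cfsg.pCore 2 ↥H).map H.subtype ≤ P := by
    have h1 : Cfsg.pCore 2 ↥H ≤ (hP'p.toSylow hidx : Subgroup ↥H) :=
      le_sup_left.trans ((hP'p.toSylow hidx).3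
        ((Cfsg.Agent.Solv.pCore_isPGroup (G := ↥H) 2).to_sup_of_normal_left (hP'p.toSylow hidx).2) le_sup_right).le
    rintro _ ⟨q, hq, rfl⟩
    exact h1 hq
  -- the image of the subgroup
  have hcard : Nat.card (P'.map ψ) = 2 := by
    have hi : ¬ 2 ∣ (P'.map ψ).index := fun h => hidx (h.trans (Subgroup.index_map_dvd P' hsurj))
    obtain ⟨k, hk⟩ := (hP'p.map ψ).exists_card_eq
    have h1 := (P'.map ψ).card_mul_index
    rw [DihedralGroup.nat_card, hk] at h1
    rcases k with _ | _ | k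
    · exfalso
      rw [pow_zero, one_mul] at h1
      exact hi ⟨n, h1⟩
    · exact hk
    · exfalso
      rw [pow_succ, pow_succ, mul_assoc (2 ^ k) 2 2] at h1
      obtain ⟨j, rfl⟩ := hodd
      have : 2 ∣ 2 * j + 1 := ⟨2 ^ k * (P'.map ψ).index, by
        nlinarith [h1]⟩
      omega
  obtain ⟨a, hT⟩ : ∃ a : ZMod n, ∀ y, y ∈ P'.map ψ ↔ y = 1 ∨ y = DihedralGroup.sr a := by
    obtain ⟨x, hx, hx1⟩ : ∃ x ∈ P'.map ψ, x ≠ 1 := by
      by_contra h
      push Not at h
      rw [(Subgroup.eq_bot_iff_forall _).2 h, Subgroup.card_bot] at hcard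
      omega
    have hx2 : x * x = 1 := by
      have := pow_card_eq_one' (x := (⟨x, hx⟩ : P'.map ψ))
      rw [hcard, pow_two] at this
      exact congrArg Subtype.val this
    have hall : ∀ y ∈ P'.map ψ, y = 1 ∨ y = x := by
      intro y hy
      by_contra h
      push Not at h
      have hle : Nat.card (Fin 3) ≤ Nat.card (P'.map ψ) := Nat.card_le_card_of_injective
        ![⟨1, one_mem _⟩, ⟨x, hx⟩, ⟨y, hy⟩] (by
          intro i j hij
          fin_cases i <;> fin_cases j <;>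
            first
            | rfl
            | simp [Subtype.ext_iff, hx1, h.1, h.2, Ne.symm hx1, Ne.symm h.1, Ne.symm h.2] at hij)
      rw [hcard, Nat.card_fin] at hle
      omega
    cases x with
    | r i =>
      exfalso
      rw [DihedralGroup.r_mul_r, DihedralGroup.one_def] at hx2
      have h2 : i + i = 0 := DihedralGroup.r.inj hx2
      apply hx1
      rw [DihedralGroup.one_def]
      congr 1
      obtain ⟨j, hj⟩ := hodd
      have h3 : ((2 * j + 1 : ℕ) : ZMod n) * i = 0 := by rw [← hj, ZMod.natCast_self, zero_mul]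
      push_cast at h3
      calc i = (2 * (j : ZMod n) + 1) * i - (j : ZMod n) * (i + i) := by ring
        _ = 0 := by rw [h2, mul_zero, sub_zero]; exact h3
    | sr i => exact ⟨i, fun y => ⟨hall y, fun hy => by rcases hy with rfl | rfl; exacts [one_mem _, hx]⟩⟩
  have hPiff : ∀ h : ↥H, (h : G) ∈ P ↔ ψ h = 1 ∨ ψ h = DihedralGroup.sr a := by
    intro h
    rw [← hT]
    refine ⟨fun hh => ⟨h, hh, rfl⟩, fun ⟨p, hp, hpe⟩ => ?_⟩
    have h1 : ψ (p⁻¹ * h) = 1 := by rw [map_mul, map_inv, hpe, inv_mul_cancel]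
    have := P.mul_mem hp (hQP ((hmemQ _).2 h1))
    simpa using this
  obtain ⟨t, ht⟩ := hsurj (DihedralGroup.sr a)
  have hsa : DihedralGroup.sr a ≠ 1 := by rw [DihedralGroup.one_def]; exact fun h => by cases h
  have hnot : ∀ h : ↥H, (h : G) ∈ P → (h : G) ∉ (Cfsg.pCore 2 ↥H).map H.subtype →
      ψ h = DihedralGroup.sr a := fun h hh hn' => ((hPiff h).1 hh).resolve_left fun e' => hn' ((hmemQ h).2 e')
  refine ⟨hQP, hPH, ?_, ⟨(t : G), (hPiff t).2 (Or.inr ht), fun h => hsa (ht.symm.trans ((hmemQ t).1 h))⟩,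
    ?_, ?_, ?_, ?_⟩
  · intro g hg
    haveI : Finite ((Cfsg.pCore 2 ↥H).map H.subtype) := Finite.of_surjective
      (fun q : Cfsg.pCore 2 ↥H => (⟨_, q, q.2, rfl⟩ : (Cfsg.pCore 2 ↥H).map H.subtype))
      (fun ⟨_, q, hq, e'⟩ => ⟨⟨q, hq⟩, Subtype.ext e'⟩)
    refine mem_normalizer_of_finite ?_
    rintro _ ⟨q, hq, rfl⟩
    exact ⟨_, (Cfsg.Agent.Solv.pCore_normal (G := ↥H) 2).conj_mem q hq ⟨g, hg⟩, rfl⟩
  · intro s hs u hu hsQ huQ
    refine (hmemQ (⟨s, hPH hs⟩⁻¹ * ⟨u, hPH hu⟩)).2 ?_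
    rw [map_mul, map_inv, hnot ⟨s, hPH hs⟩ hs hsQ, hnot ⟨u, hPH hu⟩ hu huQ, inv_mul_cancel]
  · intro g hg hconj
    have h1 := (hPiff (⟨g, hg⟩ * t * ⟨g, hg⟩⁻¹)).1 (hconj t ((hPiff t).2 (Or.inr ht)))
    rw [map_mul, map_mul, map_inv, ht] at h1
    refine (hPiff ⟨g, hg⟩).2 ?_
    rcases h1 with h1 | h1
    · exact absurd (conj_eq_one_iff.1 h1) hsa
    rw [mul_inv_eq_iff_eq_mul] at h1
    generalize ψ ⟨g, hg⟩ = x at h1 ⊢
    cases x with
    | r i =>
      rw [DihedralGroup.r_mul_sr, DihedralGroup.sr_mul_r] at h1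
      have h2 : a - i = a + i := DihedralGroup.sr.inj h1
      left
      rw [DihedralGroup.one_def]
      congr 1
      have h3 : i + i = 0 := by linear_combination -h2
      obtain ⟨j, hj⟩ := hodd
      have h4 : ((2 * j + 1 : ℕ) : ZMod n) * i = 0 := by rw [← hj, ZMod.natCast_self, zero_mul]
      push_cast at h4
      linear_combination h4 - (j : ZMod n) * h3
    | sr i =>
      rw [DihedralGroup.sr_mul_sr, DihedralGroup.sr_mul_sr] at h1
      have h2 : a - i = i - a := DihedralGroup.r.inj h1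
      right
      congr 1
      have h3 : (i - a) + (i - a) = 0 := by linear_combination -h2
      obtain ⟨j, hj⟩ := hodd
      have h4 : ((2 * j + 1 : ℕ) : ZMod n) * (i - a) = 0 := by rw [← hj, ZMod.natCast_self, zero_mul]
      push_cast at h4
      linear_combination h4 - (j : ZMod n) * h3
  · obtain ⟨j, hj⟩ := hodd
    obtain ⟨g, hg⟩ := hsurj (DihedralGroup.r ((j + 1 : ℕ) : ZMod n))
    refine ⟨g, g.2, le_antisymm (sup_le hPH ?_) ?_⟩
    · rintro _ ⟨p, hp, rfl⟩
      exact mul_mem (mul_mem g.2 (hPH hp)) (inv_mem g.2)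
    set U := P ⊔ P.map (MulAut.conj (g : G)).toMonoidHom with hU
    have hQU : ∀ h : ↥H, ψ h ∈ (U.subgroupOf H).map ψ → (h : G) ∈ U := by
      rintro h ⟨u, hu, hue⟩
      have h1 : ψ (u⁻¹ * h) = 1 := by rw [map_mul, map_inv, hue, inv_mul_cancel]
      have := U.mul_mem hu ((le_sup_left : P ≤ U) (hQP ((hmemQ _).2 h1)))
      simpa using this
    intro h hh
    refine hQU ⟨h, hh⟩ ?_
    have hs : DihedralGroup.sr a ∈ (U.subgroupOf H).map ψ :=
      ⟨t, (le_sup_left : P ≤ U) ((hPiff t).2 (Or.inr ht)), ht⟩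
    have hs' : ψ g * DihedralGroup.sr a * (ψ g)⁻¹ ∈ (U.subgroupOf H).map ψ :=
      ⟨g * t * g⁻¹, (le_sup_right : P.map _ ≤ U) ⟨t, (hPiff t).2 (Or.inr ht), rfl⟩, by
        rw [map_mul, map_mul, map_inv, ht]⟩
    have hr1 : DihedralGroup.r (1 : ZMod n) ∈ (U.subgroupOf H).map ψ := by
      have := mul_mem hs' hs
      rw [hg, DihedralGroup.inv_r, DihedralGroup.r_mul_sr, DihedralGroup.sr_mul_r, DihedralGroup.sr_mul_sr] at this
      have e1 : a - (a - ((j + 1 : ℕ) : ZMod n) + -((j + 1 : ℕ) : ZMod n)) = 1 := by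
        have h4 : ((2 * j + 1 : ℕ) : ZMod n) = 0 := by rw [← hj, ZMod.natCast_self]
        push_cast at h4 ⊢
        linear_combination h4
      rwa [e1] at this
    generalize ψ ⟨h, hh⟩ = x
    have hr : ∀ i : ZMod n, DihedralGroup.r i ∈ (U.subgroupOf H).map ψ := by
      intro i
      have := pow_mem hr1 i.val
      rwa [DihedralGroup.r_one_pow, ZMod.natCast_zmod_val] at this
    cases x with
    | r i => exact hr i
    | sr i =>
      have := mul_mem hs (hr (i - a))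
      rwa [DihedralGroup.sr_mul_r, add_sub_cancel] at this
  · intro h hh
    obtain ⟨i, hi⟩ : ∃ i, (DihedralGroup.r i)⁻¹ * ψ ⟨h, hh⟩ = 1 ∨
        (DihedralGroup.r i)⁻¹ * ψ ⟨h, hh⟩ = DihedralGroup.sr a := by
      generalize ψ ⟨h, hh⟩ = x
      cases x with
      | r i => exact ⟨i, Or.inl (inv_mul_cancel _)⟩
      | sr i => exact ⟨a - i, Or.inr (by rw [DihedralGroup.inv_r, DihedralGroup.r_mul_sr]; congr 1; ring)⟩
    obtain ⟨g, hg⟩ := hsurj (DihedralGroup.r i)
    refine ⟨g, g.2, (hPiff (g⁻¹ * ⟨h, hh⟩)).2 (by rw [map_mul, map_inv, hg]; exact hi), ⟨n, hodd, ?_⟩, ?_⟩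
    · refine (hmemQ (g ^ n)).2 ?_
      rw [map_pow, hg]
      have : ∀ m : ℕ, DihedralGroup.r i ^ m = DihedralGroup.r ((m : ZMod n) * i) := by
        intro m
        induction m with
        | zero => rw [pow_zero, Nat.cast_zero, zero_mul, DihedralGroup.one_def]
        | succ m ih => rw [pow_succ, ih, DihedralGroup.r_mul_r, Nat.cast_succ, add_mul, one_mul]
      rw [this, ZMod.natCast_self, zero_mul, DihedralGroup.one_def]
    · intro u hu huQ
      refine (hmemQ (⟨u, hPH hu⟩ * g * ⟨u, hPH hu⟩⁻¹ * g)).2 ?_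
      rw [map_mul, map_mul, map_mul, map_inv, hnot ⟨u, hPH hu⟩ hu huQ, hg, DihedralGroup.inv_sr,
        DihedralGroup.sr_mul_r, DihedralGroup.sr_mul_sr, DihedralGroup.r_mul_r, DihedralGroup.one_def]
      congr 1
      ring

end Cfsg.Agent.Solv.Amalgam
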