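import Mathlib
import Cfsg.Agent.Lib.Solv.Amalgam.Defs

/-!
# The coset graph of an amalgam
-/

set_option autoImplicit false
set_option linter.style.haveILetI false

namespace Cfsg.Agent.Solv.Amalgam

universe u

variable {G : Type u} [Group G]

namespace Data

variable (X : Data G)

/-- Vertices: the cosets of the two sides. -/
abbrev Vtx : Type u := Σ i : Bool, G ⧸ X.P i

/-- The vertex of a group element and a side. -/
def vtx (i : Bool) (g : G) : X.Vtx := ⟨i, (g : G ⧸ X.P i)⟩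

/-- Translation of vertices. -/
def act (g : G) (v : X.Vtx) : X.Vtx := ⟨v.1, g • v.2⟩

/-- Transport of a subgroup of each side to the vertices. -/
noncomputable def lift (F : Bool → Subgroup G) (v : X.Vtx) : Subgroup G := cnj v.2.out (F v.1)

/-- Stabiliser of a vertex. -/
noncomputable def St (v : X.Vtx) : Subgroup G := X.lift X.P v

/-- Core of a vertex. -/
noncomputable def Qv (v : X.Vtx) : Subgroup G := X.lift X.Q v

/-- Module of a vertex. -/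
noncomputable def Zv (v : X.Vtx) : Subgroup G := X.lift X.V v

/-- Adjacency. -/
def Adj (v w : X.Vtx) : Prop := ∃ g i, v = X.vtx i g ∧ w = X.vtx (!i) g

/-- Stabiliser of a pair. -/
noncomputable def Tv (v w : X.Vtx) : Subgroup G := X.St v ⊓ X.St w

/-- Commutators of the module of the first vertex with the pair stabiliser. -/
noncomputable def Rv (v w : X.Vtx) : Subgroup G :=
  Subgroup.closure {a | ∃ z ∈ X.Zv v, ∃ t ∈ X.Tv v w, a = z * t * z⁻¹ * t⁻¹}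

variable {X}

theorem lift_vtx {F : Bool → Subgroup G} (hF : ∀ i, ∀ p ∈ X.P i, cnj p (F i) = F i) (i : Bool) (g : G) :
    X.lift F (X.vtx i g) = cnj g (F i) := by
  obtain ⟨p, hp⟩ := QuotientGroup.mk_out_eq_mul (X.P i) g
  show cnj ((g : G ⧸ X.P i)).out (F i) = _
  rw [hp, ← cnj_cnj, hF i p p.2]

theorem lift_act {F : Bool → Subgroup G} (hF : ∀ i, ∀ p ∈ X.P i, cnj p (F i) = F i) (g : G) (v : X.Vtx) :
    X.lift F (X.act g v) = cnj g (X.lift F v) := by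
  obtain ⟨i, c⟩ := v
  induction c using QuotientGroup.induction_on with
  | _ a =>
    show X.lift F (X.vtx i (g * a)) = cnj g (X.lift F (X.vtx i a))
    rw [lift_vtx hF, lift_vtx hF, cnj_cnj]

theorem cnj_P (i : Bool) (p : G) (hp : p ∈ X.P i) : cnj p (X.P i) = X.P i :=
  cnj_eq_of_mem_normalizer (Subgroup.le_normalizer hp)

theorem cnj_Q (i : Bool) (p : G) (hp : p ∈ X.P i) : cnj p (X.Q i) = X.Q i :=
  cnj_eq_of_mem_normalizer ((X.dih i).norm hp)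

theorem cnj_V (i : Bool) (p : G) (hp : p ∈ X.P i) : cnj p (X.V i) = X.V i := by
  ext a
  rw [mem_cnj]
  constructor
  · intro h
    have := V_conj hp h
    rwa [show p * (p⁻¹ * a * p) * p⁻¹ = a by group] at this
  · intro h
    simpa using V_conj (inv_mem hp) h

theorem St_vtx (i : Bool) (g : G) : X.St (X.vtx i g) = cnj g (X.P i) := lift_vtx cnj_P i g

theorem Qv_vtx (i : Bool) (g : G) : X.Qv (X.vtx i g) = cnj g (X.Q i) := lift_vtx cnj_Q i g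

theorem Zv_vtx (i : Bool) (g : G) : X.Zv (X.vtx i g) = cnj g (X.V i) := lift_vtx cnj_V i g

theorem St_act (g : G) (v : X.Vtx) : X.St (X.act g v) = cnj g (X.St v) := lift_act cnj_P g v

theorem Qv_act (g : G) (v : X.Vtx) : X.Qv (X.act g v) = cnj g (X.Qv v) := lift_act cnj_Q g v

theorem Zv_act (g : G) (v : X.Vtx) : X.Zv (X.act g v) = cnj g (X.Zv v) := lift_act cnj_V g v

theorem act_vtx (g a : G) (i : Bool) : X.act g (X.vtx i a) = X.vtx i (g * a) := rfl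

theorem act_act (g h : G) (v : X.Vtx) : X.act g (X.act h v) = X.act (g * h) v := by
  obtain ⟨i, c⟩ := v
  induction c using QuotientGroup.induction_on with
  | _ a =>
    show X.vtx i (g * (h * a)) = X.vtx i (g * h * a)
    rw [mul_assoc]

theorem act_one (v : X.Vtx) : X.act 1 v = v := by
  obtain ⟨i, c⟩ := v
  show (⟨i, (1 : G) • c⟩ : X.Vtx) = ⟨i, c⟩
  rw [one_smul]

theorem act_vtx_eq_iff (i : Bool) (g h : G) : X.act h (X.vtx i g) = X.vtx i g ↔ h ∈ cnj g (X.P i) := by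
  rw [mem_cnj, act_vtx]
  constructor
  · intro e
    have h1 : ((h * g : G) : G ⧸ X.P i) = (g : G ⧸ X.P i) := eq_of_heq (Sigma.mk.inj_iff.1 e).2
    have h2 := inv_mem (QuotientGroup.eq.1 h1)
    simpa [mul_assoc] using h2
  · intro e
    refine Sigma.ext rfl (heq_of_eq ?_)
    show ((h * g : G) : G ⧸ X.P i) = (g : G ⧸ X.P i)
    rw [QuotientGroup.eq]
    have h2 := inv_mem e
    simpa [mul_assoc] using h2

theorem exists_vtx (v : X.Vtx) : ∃ i g, v = X.vtx i g := by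
  obtain ⟨i, c⟩ := v
  exact ⟨i, c.out, by show _ = (⟨i, _⟩ : X.Vtx); rw [QuotientGroup.out_eq']⟩

theorem mem_St_iff {v : X.Vtx} {h : G} : h ∈ X.St v ↔ X.act h v = v := by
  obtain ⟨i, g, rfl⟩ := X.exists_vtx v
  rw [St_vtx, act_vtx_eq_iff]

theorem adj_symm {v w : X.Vtx} (h : X.Adj v w) : X.Adj w v := by
  obtain ⟨g, i, rfl, rfl⟩ := h
  exact ⟨g, !i, rfl, by rw [Bool.not_not]⟩

theorem adj_act {v w : X.Vtx} (h : X.Adj v w) (a : G) : X.Adj (X.act a v) (X.act a w) := by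
  obtain ⟨g, i, rfl, rfl⟩ := h
  exact ⟨a * g, i, act_vtx _ _ _, act_vtx _ _ _⟩

theorem adj_type {v w : X.Vtx} (h : X.Adj v w) : w.1 = !v.1 := by
  obtain ⟨g, i, rfl, rfl⟩ := h
  rfl

theorem Tv_vtx (g : G) (i : Bool) : X.Tv (X.vtx i g) (X.vtx (!i) g) = cnj g X.T := by
  rw [Tv, St_vtx, St_vtx, ← cnj_inf]
  congr 1
  cases i
  · exact X.inf_eq
  · rw [Bool.not_true, inf_comm]; exact X.inf_eq

theorem Tv_act (a : G) (v w : X.Vtx) : X.Tv (X.act a v) (X.act a w) = cnj a (X.Tv v w) := by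
  rw [Tv, Tv, St_act, St_act, cnj_inf]

theorem Tv_comm (v w : X.Vtx) : X.Tv v w = X.Tv w v := inf_comm _ _

theorem Rv_act (a : G) (v w : X.Vtx) : X.Rv (X.act a v) (X.act a w) = cnj a (X.Rv v w) := by
  rw [Rv, Rv, cnj, MonoidHom.map_closure, Zv_act, Tv_act]
  congr 1
  ext b
  constructor
  · rintro ⟨z, hz, t, ht, rfl⟩
    rw [mem_cnj] at hz ht
    refine ⟨_, ⟨_, hz, _, ht, rfl⟩, ?_⟩
    show a * _ * a⁻¹ = _
    group
  · rintro ⟨_, ⟨z, hz, t, ht, rfl⟩, rfl⟩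
    refine ⟨a * z * a⁻¹, cnj_conj_mem.2 hz, a * t * a⁻¹, cnj_conj_mem.2 ht, ?_⟩
    show a * _ * a⁻¹ = _
    group

theorem Rv_vtx (g : G) (i : Bool) : X.Rv (X.vtx i g) (X.vtx (!i) g) = cnj g (X.R i) := by
  have h : X.Rv (X.vtx i 1) (X.vtx (!i) 1) = X.R i := by
    rw [Rv, R, Zv_vtx, Tv_vtx, cnj_one, cnj_one]
  rw [← h, ← Rv_act, act_vtx, act_vtx, mul_one]

/-- Two edges with the same kind of first vertex are conjugate. -/
theorem exists_act_edge {v w v' w' : X.Vtx} (h : X.Adj v w) (h' : X.Adj v' w') (ht : v.1 = v'.1) :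
    ∃ a, X.act a v = v' ∧ X.act a w = w' := by
  obtain ⟨g, i, rfl, rfl⟩ := h
  obtain ⟨g', i', rfl, rfl⟩ := h'
  obtain rfl : i = i' := ht
  exact ⟨g' * g⁻¹, by rw [act_vtx, inv_mul_cancel_right], by rw [act_vtx, inv_mul_cancel_right]⟩

/-- The stabiliser is transitive on the neighbours. -/
theorem exists_act_nbr {v w w' : X.Vtx} (h : X.Adj v w) (h' : X.Adj v w') :
    ∃ a ∈ X.St v, X.act a w = w' := by
  obtain ⟨a, ha, ha'⟩ := exists_act_edge h h' rfl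
  exact ⟨a, mem_St_iff.2 ha, ha'⟩

theorem St_finite (v : X.Vtx) : Finite (X.St v) := by
  obtain ⟨i, g, rfl⟩ := X.exists_vtx v
  rw [St_vtx]
  haveI := X.finP i
  exact Finite.of_equiv _ ((X.P i).equivMapOfInjective _ (MulAut.conj g).injective).toEquiv

theorem Qv_normal {v : X.Vtx} {h q : G} (hh : h ∈ X.St v) (hq : q ∈ X.Qv v) : h * q * h⁻¹ ∈ X.Qv v := by
  have e := congrArg X.Qv (mem_St_iff.1 hh)
  rw [Qv_act] at e
  rw [← e]
  exact cnj_conj_mem.2 hq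

theorem Zv_normal {v : X.Vtx} {h z : G} (hh : h ∈ X.St v) (hz : z ∈ X.Zv v) : h * z * h⁻¹ ∈ X.Zv v := by
  have e := congrArg X.Zv (mem_St_iff.1 hh)
  rw [Zv_act] at e
  rw [← e]
  exact cnj_conj_mem.2 hz

variable (hX : X.Noncentral)
include hX

theorem Zv_le (v : X.Vtx) : X.Zv v ≤ X.Qv v := cnj_mono _ (V_le hX v.1)

theorem Zv_central {v : X.Vtx} {z q : G} (hz : z ∈ X.Zv v) (hq : q ∈ X.Qv v) : q * z = z * q := by
  obtain ⟨i, g, rfl⟩ := X.exists_vtx v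
  rw [Zv_vtx, mem_cnj] at hz
  rw [Qv_vtx, mem_cnj] at hq
  have h := V_central hX hz hq
  calc q * z = g * ((g⁻¹ * q * g) * (g⁻¹ * z * g)) * g⁻¹ := by group
    _ = g * ((g⁻¹ * z * g) * (g⁻¹ * q * g)) * g⁻¹ := by rw [h]
    _ = _ := by group

theorem Zv_sq {v : X.Vtx} {z : G} (hz : z ∈ X.Zv v) : z * z = 1 := by
  obtain ⟨i, g, rfl⟩ := X.exists_vtx v
  rw [Zv_vtx, mem_cnj] at hz
  have h := V_sq hX hz
  calc z * z = g * ((g⁻¹ * z * g) * (g⁻¹ * z * g)) * g⁻¹ := by group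
    _ = 1 := by rw [h, mul_one, mul_inv_cancel]

theorem Zv_inv {v : X.Vtx} {z : G} (hz : z ∈ X.Zv v) : z⁻¹ = z := inv_eq_of_mul_eq_one_right (Zv_sq hX hz)

theorem Zv_comm {v : X.Vtx} {z z' : G} (hz : z ∈ X.Zv v) (hz' : z' ∈ X.Zv v) : z * z' = z' * z :=
  Zv_central hX hz' (Zv_le hX v hz)

variable {v w : X.Vtx} (h : X.Adj v w)
include h

omit hX in
theorem Qv_le_Tv : X.Qv v ≤ X.Tv v w := by
  obtain ⟨g, i, rfl, rfl⟩ := h
  rw [Tv_vtx, Qv_vtx]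
  exact cnj_mono g (X.dih i).Q_le

omit hX in
theorem Tv_le_St : X.Tv v w ≤ X.St v ∧ X.Tv v w ≤ X.St w := ⟨inf_le_left, inf_le_right⟩

omit hX in
theorem Qv_le_St_nbr : X.Qv v ≤ X.St w := (Qv_le_Tv h).trans inf_le_right

omit hX in
theorem Qv_proper : ∃ t ∈ X.Tv v w, t ∉ X.Qv v := by
  obtain ⟨g, i, rfl, rfl⟩ := h
  obtain ⟨t, ht, htQ⟩ := (X.dih i).proper
  exact ⟨g * t * g⁻¹, by rw [Tv_vtx]; exact cnj_conj_mem.2 ht, by rw [Qv_vtx, cnj_conj_mem]; exact htQ⟩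

omit hX in
theorem Qv_two {s t : G} (hs : s ∈ X.Tv v w) (ht : t ∈ X.Tv v w) (hsQ : s ∉ X.Qv v) (htQ : t ∉ X.Qv v) :
    s⁻¹ * t ∈ X.Qv v := by
  obtain ⟨g, i, rfl, rfl⟩ := h
  rw [Tv_vtx, mem_cnj] at hs ht
  rw [Qv_vtx, mem_cnj] at hsQ htQ ⊢
  have := (X.dih i).two _ hs _ ht hsQ htQ
  rwa [show g⁻¹ * (s⁻¹ * t) * g = (g⁻¹ * s * g)⁻¹ * (g⁻¹ * t * g) by group]

omit hX in
theorem Qv_not_le : ¬ X.Qv v ≤ X.Qv w := by
  obtain ⟨g, i, rfl, rfl⟩ := h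
  rw [Qv_vtx, Qv_vtx, cnj_le_cnj]
  exact X.Q_not_le i

theorem Tv_cent {t : G} (ht : t ∈ X.Tv v w) (hc : ∀ z ∈ X.Zv v, t * z = z * t) : t ∈ X.Qv v := by
  obtain ⟨g, i, rfl, rfl⟩ := h
  rw [Tv_vtx, mem_cnj] at ht
  rw [Qv_vtx, mem_cnj]
  refine cent hX ht fun z hz => ?_
  have h1 := hc (g * z * g⁻¹) (by rw [Zv_vtx, cnj_conj_mem]; exact hz)
  calc g⁻¹ * t * g * z = g⁻¹ * (t * (g * z * g⁻¹)) * g := by group
    _ = g⁻¹ * ((g * z * g⁻¹) * t) * g := by rw [h1]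
    _ = _ := by group

theorem Rv_le : X.Rv v w ≤ X.Zv v := by
  obtain ⟨g, i, rfl, rfl⟩ := h
  rw [Rv_vtx, Zv_vtx]
  exact cnj_mono g (R_le hX i)

theorem Rv_T {r t : G} (hr : r ∈ X.Rv v w) (ht : t ∈ X.Tv v w) : t * r = r * t := by
  obtain ⟨g, i, rfl, rfl⟩ := h
  rw [Rv_vtx, mem_cnj] at hr
  rw [Tv_vtx, mem_cnj] at ht
  have h1 := R_T hX hr ht
  calc t * r = g * ((g⁻¹ * t * g) * (g⁻¹ * r * g)) * g⁻¹ := by group
    _ = g * ((g⁻¹ * r * g) * (g⁻¹ * t * g)) * g⁻¹ := by rw [h1]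
    _ = _ := by group

theorem Rv_le_nbr : X.Rv v w ≤ X.Zv w := by
  obtain ⟨g, i, rfl, rfl⟩ := h
  rw [Rv_vtx, Zv_vtx]
  refine cnj_mono g ((Subgroup.closure_le _).2 ?_)
  rintro _ ⟨z, hz, t, ht, rfl⟩
  exact Z_le_V (!i) (R_gen_mem hX hz ht).2

theorem Rv_ne_bot : X.Rv v w ≠ ⊥ := by
  obtain ⟨g, i, rfl, rfl⟩ := h
  rw [Rv_vtx]
  intro e
  exact R_ne_bot hX i (Subgroup.map_eq_bot_iff_of_injective _ (MulAut.conj g).injective |>.1 e)

theorem Rv_moved {c : G} (hc : ∀ r ∈ X.Rv v w, r = 1 ∨ r = c) :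
    ∃ a ∈ X.St v, ∃ r ∈ X.Rv v w, a * r ≠ r * a := by
  obtain ⟨g, i, rfl, rfl⟩ := h
  obtain ⟨a, ha, r, hr, hne⟩ := R_not_central hX (i := i) (c := g⁻¹ * c * g) (fun r hr => by
    rcases hc (g * r * g⁻¹) (by rw [Rv_vtx]; exact cnj_conj_mem.2 hr) with e | e
    · exact Or.inl (by rwa [conj_eq_one_iff] at e)
    · exact Or.inr (by rw [← e]; group))
  refine ⟨g * a * g⁻¹, by rw [St_vtx]; exact cnj_conj_mem.2 ha, g * r * g⁻¹,
    by rw [Rv_vtx]; exact cnj_conj_mem.2 hr, fun e => hne ?_⟩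
  calc a * r = g⁻¹ * (g * a * g⁻¹ * (g * r * g⁻¹)) * g := by group
    _ = g⁻¹ * (g * r * g⁻¹ * (g * a * g⁻¹)) * g := by rw [e]
    _ = _ := by group

omit hX in
theorem le_of_mem_edge {H : Subgroup G} (hn : ∀ a ∈ X.St v, ∀ b ∈ H, a * b * a⁻¹ ∈ H) (hQ : X.Qv v ≤ H)
    {t : G} (ht : t ∈ X.Tv v w) (htQ : t ∉ X.Qv v) (htH : t ∈ H) : X.St v ≤ H := by
  obtain ⟨g, i, rfl, rfl⟩ := h
  have key : X.P i ≤ cnj g⁻¹ H := by
    refine (X.dih i).le_of_mem (t := g⁻¹ * t * g) (fun a ha b hb => ?_) (fun q hq => ?_) ?_ ?_ ?_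
    · rw [mem_cnj, inv_inv] at hb ⊢
      have := hn (g * a * g⁻¹) (by rw [St_vtx]; exact cnj_conj_mem.2 ha) _ hb
      convert this using 1
      group
    · rw [mem_cnj, inv_inv]
      exact hQ (by rw [Qv_vtx]; exact cnj_conj_mem.2 hq)
    · rw [Tv_vtx, mem_cnj] at ht; exact ht
    · rw [Qv_vtx, mem_cnj] at htQ; exact htQ
    · rw [mem_cnj, inv_inv]
      convert htH using 1
      group
  intro a ha
  rw [St_vtx, mem_cnj] at ha
  have := key ha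
  rw [mem_cnj, inv_inv] at this
  convert this using 1
  group

omit hX in
/-- No nontrivial subgroup of an edge group is normalized by both ends. -/
theorem edge_faithful {N : Subgroup G} (hN : N ≤ X.Tv v w) (hv : ∀ a ∈ X.St v, ∀ n ∈ N, a * n * a⁻¹ ∈ N)
    (hw : ∀ a ∈ X.St w, ∀ n ∈ N, a * n * a⁻¹ ∈ N) : N = ⊥ := by
  obtain ⟨g, i, rfl, rfl⟩ := h
  rw [Tv_vtx] at hN
  have hb : cnj g⁻¹ N = ⊥ := by
    refine X.faithful _ (fun n hn => ?_) fun j a ha n hn => ?_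
    · rw [mem_cnj, inv_inv] at hn
      exact cnj_conj_mem.1 (hN hn)
    · rw [mem_cnj, inv_inv] at hn ⊢
      have hj : j = i ∨ j = !i := by cases i <;> cases j <;> simp
      rcases hj with rfl | rfl
      · have := hv (g * a * g⁻¹) (by rw [St_vtx]; exact cnj_conj_mem.2 ha) _ hn
        convert this using 1; group
      · have := hw (g * a * g⁻¹) (by rw [St_vtx]; exact cnj_conj_mem.2 ha) _ hn
        convert this using 1; group
  exact (Subgroup.map_eq_bot_iff_of_injective _ (MulAut.conj g⁻¹).injective).1 hb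

omit hX in
/-- A neighbour whose edge group generates the stabiliser together with the given one. -/
theorem exists_generic : ∃ d, X.Adj v d ∧ X.Tv v w ⊔ X.Tv v d = X.St v := by
  obtain ⟨g, i, rfl, rfl⟩ := h
  obtain ⟨a, ha, hgen⟩ := (X.dih i).gen
  refine ⟨X.vtx (!i) (g * a), ⟨g * a, i, ?_, rfl⟩, ?_⟩
  · have e := (act_vtx_eq_iff (X := X) i g (g * a * g⁻¹)).2 (cnj_conj_mem.2 ha)
    rw [act_vtx, inv_mul_cancel_right] at e
    exact e.symm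
  · have e := (act_vtx_eq_iff (X := X) i g (g * a * g⁻¹)).2 (cnj_conj_mem.2 ha)
    rw [act_vtx, inv_mul_cancel_right] at e
    rw [Tv_vtx, ← e, Tv_vtx, St_vtx, ← cnj_cnj, ← cnj_cnj, cnj_P i a ha]
    show cnj g X.T ⊔ cnj g (cnj a X.T) = cnj g (X.P i)
    rw [cnj, cnj, cnj, ← Subgroup.map_sup]
    exact congrArg _ hgen

omit hX in
/-- Rotations at a vertex. -/
theorem exists_rotation {w' : X.Vtx} (h' : X.Adj v w') : ∃ g ∈ X.St v, X.act g w = w' ∧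
    (∃ N : ℕ, Odd N ∧ g ^ N ∈ X.Qv v) ∧ ∀ t ∈ X.Tv v w, t ∉ X.Qv v → t * g * t⁻¹ * g ∈ X.Qv v := by
  obtain ⟨b, hb, hbw⟩ := exists_act_nbr h h'
  obtain ⟨g, i, rfl, rfl⟩ := h
  rw [St_vtx, mem_cnj] at hb
  obtain ⟨r, hr, hrT, ⟨N, hN, hrN⟩, hinv⟩ := (X.dih i).rot _ hb
  have hrS : g * r * g⁻¹ ∈ X.St (X.vtx i g) := by rw [St_vtx]; exact cnj_conj_mem.2 hr
  refine ⟨g * r * g⁻¹, hrS, ?_, ⟨N, hN, ?_⟩, fun t ht htQ => ?_⟩
  · have ht : b⁻¹ * (g * r * g⁻¹) ∈ X.Tv (X.vtx i g) (X.vtx (!i) g) := by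
      rw [Tv_vtx, mem_cnj, show g⁻¹ * (b⁻¹ * (g * r * g⁻¹)) * g = (r⁻¹ * (g⁻¹ * b * g))⁻¹ by group]
      exact inv_mem hrT
    have := mem_St_iff.1 ((Tv_le_St (v := X.vtx i g) (w := X.vtx (!i) g) ⟨g, i, rfl, rfl⟩).2 ht)
    rw [← hbw]
    conv_rhs => rw [← this]
    rw [act_act, mul_inv_cancel_left]
  · rw [conj_pow, Qv_vtx]
    exact cnj_conj_mem.2 hrN
  · rw [Tv_vtx, mem_cnj] at ht
    rw [Qv_vtx, mem_cnj] at htQ ⊢
    have := hinv _ ht htQ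
    convert this using 1
    group

end Data

end Cfsg.Agent.Solv.Amalgam
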