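import Mathlib
import Cfsg.Agent.Lib.Solv.Amalgam.Graph

/-!
# Critical pairs in the coset graph
-/

set_option autoImplicit false
set_option linter.style.haveILetI false

namespace Cfsg.Agent.Solv.Amalgam

universe u

variable {G : Type u} [Group G]

theorem cnj_sup (g : G) (H K : Subgroup G) : cnj g (H ⊔ K) = cnj g H ⊔ cnj g K := Subgroup.map_sup _ _ _

namespace Data

variable (X : Data G)

/-- A walk of the given length. -/
def Walk (f : ℕ → X.Vtx) (n : ℕ) : Prop := ∀ k < n, X.Adj (f k) (f (k + 1))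

/-- Modules lie in cores at distance less than `b`. -/
def Near (b : ℕ) : Prop := ∀ f n, n < b → X.Walk f n → X.Zv (f 0) ≤ X.Qv (f n)

/-- A critical walk. -/
def Crit (b : ℕ) (f : ℕ → X.Vtx) : Prop := X.Walk f b ∧ ¬ X.Zv (f 0) ≤ X.Qv (f b)

/-- The commutators on the other side are central at vertices of this kind. -/
def Cen (i : Bool) : Prop :=
  ∀ v w, X.Adj v w → v.1 = i → ∀ r ∈ X.Rv w v, ∀ a ∈ X.St v, a * r = r * a

/-- The symmetry of the two sides. -/
def SymHyp : Prop := ∀ i, X.Cen i → X.Cen (!i)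

/-- A vertex put in front of a walk. -/
def cons (a : X.Vtx) (f : ℕ → X.Vtx) : ℕ → X.Vtx
  | 0 => a
  | k + 1 => f k

variable {X}

theorem walk_cons {a : X.Vtx} {f : ℕ → X.Vtx} {n : ℕ} (ha : X.Adj a (f 0)) (hf : X.Walk f n) :
    X.Walk (X.cons a f) (n + 1) := by
  intro k hk
  rcases k with _ | k
  · exact ha
  · exact hf k (by omega)

theorem walk_rev {f : ℕ → X.Vtx} {n : ℕ} (hf : X.Walk f n) : X.Walk (fun k => f (n - k)) n := by
  intro k hk
  show X.Adj (f (n - k)) (f (n - (k + 1)))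
  rw [show n - k = n - (k + 1) + 1 by omega]
  exact adj_symm (hf _ (by omega))

theorem walk_le {f : ℕ → X.Vtx} {m n : ℕ} (hf : X.Walk f n) (h : m ≤ n) : X.Walk f m :=
  fun k hk => hf k (by omega)

theorem walk_shift {f : ℕ → X.Vtx} {m n : ℕ} (hf : X.Walk f (m + n)) : X.Walk (fun k => f (m + k)) n :=
  fun k hk => hf (m + k) (by omega)

/-- Elements covering an edge group. -/
theorem Tv_le_of_mem {v w : X.Vtx} (h : X.Adj v w) {H : Subgroup G} (hQ : X.Qv v ≤ H) {t : G}
    (ht : t ∈ X.Tv v w) (htQ : t ∉ X.Qv v) (htH : t ∈ H) : X.Tv v w ≤ H := by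
  intro s hs
  by_cases hsQ : s ∈ X.Qv v
  · exact hQ hsQ
  · have := H.mul_mem htH (hQ (Qv_two h ht hs htQ hsQ))
    rwa [mul_inv_cancel_left] at this

/-- Generation by two edge groups, the first given by one element. -/
theorem St_le_of_generic {v w d : X.Vtx} (h : X.Adj v w) (hd : X.Adj v d)
    (hgen : X.Tv v w ⊔ X.Tv v d = X.St v) {H : Subgroup G} {t : G} (ht : t ∈ X.Tv v w) (htQ : t ∉ X.Qv v)
    (htH : t ∈ H) (hT : X.Tv v d ≤ H) : X.St v ≤ H := by
  rw [← hgen]
  exact sup_le (Tv_le_of_mem h ((Qv_le_Tv hd).trans hT) ht htQ htH) hT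

variable (hX : X.Noncentral)
include hX

/-- The least distance. -/
theorem exists_crit : ∃ b, 1 ≤ b ∧ X.Near b ∧ ∃ f, X.Crit b f := by
  classical
  have hex : ∃ b, ∃ f, X.Crit b f := by
    by_contra hcon
    push Not at hcon
    have hall : ∀ f n, X.Walk f n → X.Zv (f 0) ≤ X.Qv (f n) := fun f n hf => by
      by_contra h
      exact hcon n f ⟨hf, h⟩
    set S : Set G := {a | ∃ f n, X.Walk f n ∧ f 0 = X.vtx false 1 ∧ a ∈ X.Zv (f n)} with hS
    have hN : Subgroup.closure S ≤ X.T := by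
      rw [Subgroup.closure_le]
      rintro a ⟨f, n, hf, h0, ha⟩
      have h1 := hall _ n (walk_rev hf)
      simp only [Nat.sub_zero, Nat.sub_self, h0] at h1
      have h2 := h1 ha
      rw [Qv_vtx, cnj_one] at h2
      exact (X.dih false).Q_le h2
    have hinv : ∀ i, ∀ g ∈ X.P i, ∀ n ∈ Subgroup.closure S, g * n * g⁻¹ ∈ Subgroup.closure S := by
      intro i g hg n hn
      refine (Subgroup.closure_le ((Subgroup.closure S).comap (MulAut.conj g).toMonoidHom)).2 ?_ hn
      rintro a ⟨f, m, hf, h0, ha⟩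
      have hga : g * a * g⁻¹ ∈ X.Zv (X.act g (f m)) := by rw [Zv_act]; exact cnj_conj_mem.2 ha
      have hwf : X.Walk (fun k => X.act g (f k)) m := fun k hk => adj_act (hf k hk) g
      refine Subgroup.subset_closure ?_
      cases i
      · refine ⟨fun k => X.act g (f k), m, hwf, ?_, hga⟩
        show X.act g (f 0) = _
        rw [h0, act_vtx_eq_iff, cnj_one]
        exact hg
      · have he : X.act g (X.vtx true 1) = X.vtx true 1 := by rw [act_vtx_eq_iff, cnj_one]; exact hg
        have a1 : X.Adj (X.vtx false 1) (X.vtx true 1) := ⟨1, false, rfl, rfl⟩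
        have a2 : X.Adj (X.vtx true 1) (X.act g (f 0)) := by
          rw [h0]
          have := adj_act (adj_symm a1) g
          rwa [he] at this
        exact ⟨X.cons (X.vtx false 1) (X.cons (X.vtx true 1) fun k => X.act g (f k)), m + 1 + 1,
          walk_cons a1 (walk_cons a2 hwf), rfl, hga⟩
    have hb := X.faithful _ hN hinv
    obtain ⟨z, hz, hz1⟩ := X.Z_nontrivial
    refine hz1 ?_
    have hzS : z ∈ Subgroup.closure S := Subgroup.subset_closure ⟨fun _ => X.vtx false 1, 0,
      fun k hk => absurd hk (Nat.not_lt_zero k), rfl, by rw [Zv_vtx, cnj_one]; exact Z_le_V false hz⟩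
    rwa [hb, Subgroup.mem_bot] at hzS
  refine ⟨Nat.find hex, ?_, ?_, Nat.find_spec hex⟩
  · by_contra h
    obtain ⟨f, -, hf⟩ := Nat.find_spec hex
    rw [show Nat.find hex = 0 by omega] at hf
    exact hf (Zv_le hX _)
  · intro f n hn hf
    by_contra h
    exact Nat.find_min hex hn ⟨f, hf, h⟩

variable {b : ℕ} (hb : X.Near b)
include hb

theorem comm_near {f : ℕ → X.Vtx} {n : ℕ} (hn : n < b) (hf : X.Walk f n) {z z' : G} (hz : z ∈ X.Zv (f 0))
    (hz' : z' ∈ X.Zv (f n)) : z * z' = z' * z :=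
  Zv_central hX hz' (hb f n hn hf hz)

omit hX in
theorem crit_left {f : ℕ → X.Vtx} (hb1 : 1 ≤ b) (hf : X.Crit b f) :
    X.Zv (f 0) ≤ X.Tv (f b) (f (b - 1)) := by
  have h1 := hb f (b - 1) (by omega) (walk_le hf.1 (by omega))
  have ha : X.Adj (f (b - 1)) (f b) := by
    have := hf.1 (b - 1) (by omega)
    rwa [show b - 1 + 1 = b by omega] at this
  rw [Tv_comm]
  exact h1.trans (Qv_le_Tv ha)

theorem crit_symm {f : ℕ → X.Vtx} (hb1 : 1 ≤ b) (hf : X.Crit b f) : X.Crit b (fun k => f (b - k)) := by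
  refine ⟨walk_rev hf.1, fun h => hf.2 fun z hz => ?_⟩
  simp only [Nat.sub_zero, Nat.sub_self] at h
  have ha : X.Adj (f b) (f (b - 1)) := by
    have := hf.1 (b - 1) (by omega)
    rw [show b - 1 + 1 = b by omega] at this
    exact adj_symm this
  exact Tv_cent hX ha (crit_left hb hb1 hf hz) fun z' hz' => (Zv_central hX hz (h hz')).symm

theorem crit_right {f : ℕ → X.Vtx} (hb1 : 1 ≤ b) (hf : X.Crit b f) :
    X.Zv (f b) ≤ X.Tv (f 0) (f 1) := by
  have h := crit_left hb hb1 (crit_symm hX hb hb1 hf)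
  simp only [Nat.sub_zero, Nat.sub_self, show b - (b - 1) = 1 by omega] at h
  exact h

/-- The ends of a critical walk act on each other as transvections with a common centre. -/
theorem crit_R {f : ℕ → X.Vtx} (hb1 : 1 ≤ b) (hf : X.Crit b f) :
    ∃ c, c ≠ 1 ∧ (∀ r, r ∈ X.Rv (f 0) (f 1) ↔ r = 1 ∨ r = c) ∧
      ∀ r, r ∈ X.Rv (f b) (f (b - 1)) ↔ r = 1 ∨ r = c := by
  have key : ∀ {f : ℕ → X.Vtx}, X.Crit b f → ∀ z0 ∈ X.Zv (f 0), z0 ∉ X.Qv (f b) → ∀ x ∈ X.Zv (f b),
      x ∉ X.Qv (f 0) → ∀ r ∈ X.Rv (f 0) (f 1), r = 1 ∨ r = z0 * x * z0⁻¹ * x⁻¹ := by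
    intro f hf z0 hz0 hz0Q x hx hxQ r hr
    have hadj : X.Adj (f b) (f (b - 1)) := by
      have := hf.1 (b - 1) (by omega)
      rw [show b - 1 + 1 = b by omega] at this
      exact adj_symm this
    have hxT := crit_right hX hb hb1 hf hx
    set c := z0 * x * z0⁻¹ * x⁻¹ with hc
    have hcZ : c ∈ X.Zv (f 0) := by
      rw [hc, show z0 * x * z0⁻¹ * x⁻¹ = z0 * (x * z0⁻¹ * x⁻¹) by group]
      exact mul_mem hz0 (Zv_normal hxT.1 (inv_mem hz0))
    induction hr using Subgroup.closure_induction with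
    | mem a ha =>
      obtain ⟨z, hz, t, ht, rfl⟩ := ha
      by_cases htQ : t ∈ X.Qv (f 0)
      · refine Or.inl ?_
        rw [← Zv_central hX hz htQ]; group
      have hq := Qv_two (hf.1 0 (by omega)) hxT ht hxQ htQ
      have e : z * t * z⁻¹ * t⁻¹ = z * x * z⁻¹ * x⁻¹ := by
        calc z * t * z⁻¹ * t⁻¹ = z * x * ((x⁻¹ * t) * z⁻¹) * (x⁻¹ * t)⁻¹ * x⁻¹ := by group
          _ = z * x * (z⁻¹ * (x⁻¹ * t)) * (x⁻¹ * t)⁻¹ * x⁻¹ := by rw [Zv_central hX (inv_mem hz) hq]
          _ = _ := by group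
      rw [e]
      by_cases hzQ : z ∈ X.Qv (f b)
      · refine Or.inl ?_
        rw [Zv_central hX hx hzQ]; group
      · refine Or.inr ?_
        have hw := Qv_two hadj (crit_left hb hb1 hf hz0) (crit_left hb hb1 hf hz) hz0Q hzQ
        calc z * x * z⁻¹ * x⁻¹ = z0 * ((z0⁻¹ * z) * x) * (z0⁻¹ * z)⁻¹ * z0⁻¹ * x⁻¹ := by group
          _ = z0 * (x * (z0⁻¹ * z)) * (z0⁻¹ * z)⁻¹ * z0⁻¹ * x⁻¹ := by rw [Zv_central hX hx hw]
          _ = c := by rw [hc]; group
    | one => exact Or.inl rfl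
    | mul a a' _ _ h1 h2 =>
      rcases h1 with rfl | rfl <;> rcases h2 with rfl | rfl
      · exact Or.inl (one_mul 1)
      · exact Or.inr (one_mul _)
      · exact Or.inr (mul_one _)
      · exact Or.inl (Zv_sq hX hcZ)
    | inv a _ h1 =>
      rcases h1 with rfl | rfl
      · exact Or.inl inv_one
      · exact Or.inr (Zv_inv hX hcZ)
  obtain ⟨z0, hz0, hz0Q⟩ := SetLike.not_le_iff_exists.1 hf.2
  have hrev := crit_symm hX hb hb1 hf
  have hrev2 := hrev.2
  simp only [Nat.sub_zero, Nat.sub_self] at hrev2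
  obtain ⟨x, hx, hxQ⟩ := SetLike.not_le_iff_exists.1 hrev2
  have k1 := key hf z0 hz0 hz0Q x hx hxQ
  have k2 := key hrev x (by simpa using hx) (by simpa using hxQ) z0 (by simpa using hz0) (by simpa using hz0Q)
  simp only [Nat.sub_zero] at k2
  set c := z0 * x * z0⁻¹ * x⁻¹ with hc
  have hmem : c ∈ X.Rv (f 0) (f 1) :=
    Subgroup.subset_closure ⟨z0, hz0, x, crit_right hX hb hb1 hf hx, rfl⟩
  have hne : c ≠ 1 := by
    intro h
    obtain ⟨r, hr, hr1⟩ := (Subgroup.ne_bot_iff_exists_ne_one).1 (Rv_ne_bot hX (hf.1 0 (by omega)))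
      |> fun ⟨r, hr⟩ => (⟨r.1, r.2, fun e => hr (Subtype.ext e)⟩ : ∃ r, r ∈ X.Rv (f 0) (f 1) ∧ r ≠ 1)
    rcases k1 r hr with e | e
    · exact hr1 e
    · exact hr1 (e.trans h)
  have hinv : x * z0 * x⁻¹ * z0⁻¹ = c := by
    rw [show x * z0 * x⁻¹ * z0⁻¹ = c⁻¹ by rw [hc]; group]
    exact Zv_inv hX (Rv_le hX (hf.1 0 (by omega)) hmem)
  rw [hinv] at k2
  refine ⟨c, hne, fun r => ⟨k1 r, ?_⟩, fun r => ⟨k2 r, ?_⟩⟩
  · rintro (rfl | rfl)
    · exact one_mem _
    · exact hmem
  · rintro (rfl | rfl)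
    · exact one_mem _
    · rw [← hinv]
      exact Subgroup.subset_closure ⟨x, hx, z0, crit_left hb hb1 hf hz0, rfl⟩

theorem exists_x {f : ℕ → X.Vtx} (hb1 : 1 ≤ b) (hf : X.Crit b f) :
    ∃ x ∈ X.Zv (f b), x ∈ X.Tv (f 0) (f 1) ∧ x ∉ X.Qv (f 0) := by
  have hrev := (crit_symm hX hb hb1 hf).2
  simp only [Nat.sub_zero, Nat.sub_self] at hrev
  obtain ⟨x, hx, hxQ⟩ := SetLike.not_le_iff_exists.1 hrev
  exact ⟨x, hx, crit_right hX hb hb1 hf hx, hxQ⟩

omit hb hX in
/-- Centrality passes along the edges of one kind. -/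
theorem cen_of_edge {v w : X.Vtx} (h : X.Adj v w) (hc : ∀ r ∈ X.Rv w v, ∀ a ∈ X.St v, a * r = r * a) :
    X.Cen v.1 := by
  intro v' w' h' ht r hr a ha
  obtain ⟨g, rfl, rfl⟩ := exists_act_edge h h' ht.symm
  rw [Rv_act, mem_cnj] at hr
  rw [St_act, mem_cnj] at ha
  have h1 := hc _ hr _ ha
  calc a * r = g * ((g⁻¹ * a * g) * (g⁻¹ * r * g)) * g⁻¹ := by group
    _ = g * ((g⁻¹ * r * g) * (g⁻¹ * a * g)) * g⁻¹ := by rw [h1]
    _ = _ := by group

/-- At the start of a critical walk the commutators of the other side are central. -/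
theorem cen_start {f : ℕ → X.Vtx} (hb2 : 2 ≤ b) (hf : X.Crit b f) : X.Cen (f 0).1 := by
  have hadj : X.Adj (f 0) (f 1) := hf.1 0 (by omega)
  have hlast : X.Adj (f b) (f (b - 1)) := by
    have := hf.1 (b - 1) (by omega)
    rw [show b - 1 + 1 = b by omega] at this
    exact adj_symm this
  obtain ⟨x, hx, hxT, hxQ⟩ := exists_x hX hb (by omega) hf
  obtain ⟨d, hd, hgen⟩ := exists_generic hadj
  refine cen_of_edge hd ?_
  by_cases hI : X.Zv d ≤ X.Qv (f (b - 1))
  · -- the module of the start and of the neighbour generate a normal subgroup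
    obtain ⟨c, hc1, hc, hc'⟩ := crit_R hX hb (by omega) hf
    have hZ0 : X.Zv (f 0) ≤ X.Qv d := hb (X.cons (f 0) (fun _ => d)) 1 (by omega)
      (fun k hk => by obtain rfl : k = 0 := by omega
                      exact hd)
    have hdQ : X.Zv d ≤ X.Qv (f 0) := hb (X.cons d (fun _ => f 0)) 1 (by omega)
      (fun k hk => by obtain rfl : k = 0 := by omega
                      exact adj_symm hd)
    set W := X.Zv (f 0) ⊔ X.Zv d with hW
    haveI : Finite W := by
      haveI := X.St_finite (f 0)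
      exact Finite.of_injective _ (Subgroup.inclusion_injective (show W ≤ X.St (f 0) from
        sup_le ((Zv_le hX _).trans ((Qv_le_Tv hd).trans inf_le_left)) (hdQ.trans ((Qv_le_Tv hd).trans inf_le_left))))
    have hTn : X.Tv (f 0) d ≤ Subgroup.normalizer (W : Set G) := by
      intro t ht
      refine mem_normalizer_of_finite fun n hn => ?_
      refine (show W ≤ W.comap (MulAut.conj t).toMonoidHom from sup_le ?_ ?_) hn
      · exact fun z hz => (le_sup_left : X.Zv (f 0) ≤ W) (Zv_normal ht.1 hz)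
      · exact fun z hz => (le_sup_right : X.Zv d ≤ W) (Zv_normal ht.2 hz)
    have hxn : x ∈ Subgroup.normalizer (W : Set G) := by
      refine mem_normalizer_of_finite fun n hn => ?_
      refine (show W ≤ W.comap (MulAut.conj x).toMonoidHom from sup_le ?_ ?_) hn
      · exact fun z hz => (le_sup_left : X.Zv (f 0) ≤ W) (Zv_normal hxT.1 hz)
      · intro z hz
        show x * z * x⁻¹ ∈ W
        have hzT : z ∈ X.Tv (f b) (f (b - 1)) := by
          rw [Tv_comm]; exact Qv_le_Tv (adj_symm hlast) (hI hz)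
        have hr : x * z * x⁻¹ * z⁻¹ ∈ X.Rv (f b) (f (b - 1)) := Subgroup.subset_closure ⟨x, hx, z, hzT, rfl⟩
        rw [show x * z * x⁻¹ = (x * z * x⁻¹ * z⁻¹) * z by group]
        refine mul_mem ?_ ((le_sup_right : X.Zv d ≤ W) hz)
        refine (le_sup_left : X.Zv (f 0) ≤ W) (Rv_le hX hadj ((hc _).2 ((hc' _).1 hr)))
    have hSt : X.St (f 0) ≤ Subgroup.normalizer (W : Set G) :=
      St_le_of_generic hadj hd hgen hxT hxQ hxn hTn
    -- commutators with the core
    set C : Subgroup G := Subgroup.centralizer (X.Rv d (f 0) : Set G) with hC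
    have hRn : ∀ a ∈ X.St (f 0), ∀ r ∈ X.Rv d (f 0), a * r * a⁻¹ ∈ X.Rv d (f 0) := by
      intro a ha r hr
      refine (Subgroup.closure_le ((X.Rv d (f 0)).comap (MulAut.conj a).toMonoidHom)).2 ?_ hr
      rintro _ ⟨z, hz, t, ht, rfl⟩
      show a * (z * t * z⁻¹ * t⁻¹) * a⁻¹ ∈ X.Rv d (f 0)
      -- reduce the second entry into the core
      obtain ⟨q, hq, hqt⟩ : ∃ q ∈ X.Qv (f 0), z * t * z⁻¹ * t⁻¹ = z * q * z⁻¹ * q⁻¹ := by
        by_cases htQ : t ∈ X.Qv d
        · exact ⟨1, one_mem _, by rw [← Zv_central hX hz htQ]; group⟩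
        obtain ⟨q, hq, hqd⟩ := SetLike.not_le_iff_exists.1 (Qv_not_le hd)
        have h2 := Qv_two (adj_symm hd) ((Tv_comm (f 0) d) ▸ Qv_le_Tv hd hq) ht hqd htQ
        refine ⟨q, hq, ?_⟩
        calc z * t * z⁻¹ * t⁻¹ = z * q * ((q⁻¹ * t) * z⁻¹) * (q⁻¹ * t)⁻¹ * q⁻¹ := by group
          _ = z * q * (z⁻¹ * (q⁻¹ * t)) * (q⁻¹ * t)⁻¹ * q⁻¹ := by rw [Zv_central hX (inv_mem hz) h2]
          _ = _ := by group
      rw [hqt]
      have hw : a * z * a⁻¹ ∈ W := (Subgroup.mem_normalizer_iff.1 (hSt ha) z).1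
        ((le_sup_right : X.Zv d ≤ W) hz)
      have hq' : a * q * a⁻¹ ∈ X.Qv (f 0) := Qv_normal ha hq
      rw [show a * (z * q * z⁻¹ * q⁻¹) * a⁻¹ =
        (a * z * a⁻¹) * (a * q * a⁻¹) * (a * z * a⁻¹)⁻¹ * (a * q * a⁻¹)⁻¹ by group]
      have hqT : a * q * a⁻¹ ∈ X.Tv d (f 0) := (Tv_comm (f 0) d) ▸ Qv_le_Tv hd hq'
      revert hw
      generalize a * z * a⁻¹ = w
      intro hw
      have hWd : W ≤ ((X.Zv (f 0)) ⊔ X.Zv d) := le_of_eq hW
      have hzd : ∀ u ∈ X.Zv d, ∀ u' ∈ X.Zv (f 0), u * u' = u' * u := fun u hu u' hu' =>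
        Zv_central hX hu' (hdQ hu)
      obtain ⟨u', hu', u, hu, rfl⟩ : ∃ u' ∈ X.Zv (f 0), ∃ u ∈ X.Zv d, u' * u = w := by
        have hle : X.Zv d ≤ Subgroup.normalizer (X.Zv (f 0) : Set G) := by
          intro u hu
          haveI : Finite (X.Zv (f 0)) := by
            haveI := X.St_finite (f 0)
            exact Finite.of_injective _ (Subgroup.inclusion_injective
              (show X.Zv (f 0) ≤ X.St (f 0) from (Zv_le hX _).trans ((Qv_le_Tv hd).trans inf_le_left)))
          refine mem_normalizer_of_finite fun n hn => ?_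
          rw [hzd u hu n hn, mul_inv_cancel_right]
          exact hn
        have := hWd hw
        rw [← SetLike.mem_coe, Subgroup.coe_mul_of_right_le_normalizer_left _ _ hle] at this
        exact this
      have e : u' * u * (a * q * a⁻¹) * (u' * u)⁻¹ * (a * q * a⁻¹)⁻¹ =
          u * (a * q * a⁻¹) * u⁻¹ * (a * q * a⁻¹)⁻¹ := by
        have hr : u * (a * q * a⁻¹) * u⁻¹ ∈ X.Qv (f 0) :=
          Qv_normal ((Qv_le_Tv hd).trans inf_le_left (hdQ hu)) hq'
        calc u' * u * (a * q * a⁻¹) * (u' * u)⁻¹ * (a * q * a⁻¹)⁻¹ =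
            (u' * (u * (a * q * a⁻¹) * u⁻¹)) * u'⁻¹ * (a * q * a⁻¹)⁻¹ := by group
          _ = ((u * (a * q * a⁻¹) * u⁻¹) * u') * u'⁻¹ * (a * q * a⁻¹)⁻¹ := by rw [← Zv_central hX hu' hr]
          _ = _ := by group
      rw [e]
      exact Subgroup.subset_closure ⟨u, hu, _, hqT, rfl⟩
    have hCn : ∀ a ∈ X.St (f 0), ∀ g ∈ C, a * g * a⁻¹ ∈ C := by
      intro a ha g hg
      rw [hC, Subgroup.mem_centralizer_iff] at hg ⊢
      intro r hr
      have h1 := hg _ (hRn _ (inv_mem ha) r hr)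
      rw [inv_inv] at h1
      calc r * (a * g * a⁻¹) = a * ((a⁻¹ * r * a) * g) * a⁻¹ := by group
        _ = a * (g * (a⁻¹ * r * a)) * a⁻¹ := by rw [h1]
        _ = _ := by group
    obtain ⟨t, ht, htQ⟩ := Qv_proper hd
    have hTC : X.Tv (f 0) d ≤ C := fun t ht => Subgroup.mem_centralizer_iff.2 fun r hr =>
      (Rv_T hX (adj_symm hd) hr ((Tv_comm (f 0) d) ▸ ht)).symm
    have := le_of_mem_edge hd hCn ((Qv_le_Tv hd).trans hTC) ht htQ (hTC ht)
    exact fun r hr a ha => (Subgroup.mem_centralizer_iff.1 (this ha) r hr).symm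
  · -- the neighbour starts a critical walk
    have hg : X.Crit b (X.cons d f) := by
      refine ⟨walk_le (walk_cons (adj_symm hd) hf.1) (by omega), ?_⟩
      rw [show b = (b - 1) + 1 by omega]
      exact hI
    obtain ⟨c, hc1, hc, hc'⟩ := crit_R hX hb (by omega) hg
    intro r hr a ha
    have hrc : r ∈ X.Zv (f (b - 1)) := by
      have h2 : r ∈ X.Rv (X.cons d f b) (X.cons d f (b - 1)) := (hc' r).2 ((hc r).1 hr)
      have hadj' : X.Adj (X.cons d f b) (X.cons d f (b - 1)) := by
        have := hg.1 (b - 1) (by omega)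
        rw [show b - 1 + 1 = b by omega] at this
        exact adj_symm this
      have := Rv_le hX hadj' h2
      rw [show b = (b - 1) + 1 by omega] at this
      exact this
    have hxr : x * r = r * x := (comm_near hX hb (f := X.cons (f (b - 1)) (fun _ => f b)) (n := 1) (by omega)
      (fun k hk => by
        obtain rfl : k = 0 := by omega
        exact adj_symm hlast) hrc hx).symm
    have hle : X.St (f 0) ≤ Subgroup.centralizer ({r} : Set G) :=
      St_le_of_generic hadj hd hgen hxT hxQ (Subgroup.mem_centralizer_singleton_iff.2 hxr) fun t ht =>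
        Subgroup.mem_centralizer_singleton_iff.2 (Rv_T hX (adj_symm hd) hr ((Tv_comm (f 0) d) ▸ ht))
    exact Subgroup.mem_centralizer_singleton_iff.1 (hle ha)

omit hb in
/-- With both kinds central the commutators are constant around a vertex. -/
theorem Rv_const (hC : ∀ i, X.Cen i) {a v d : X.Vtx} (ha : X.Adj a d) (hv : X.Adj v d) :
    X.Rv a d = X.Rv v d := by
  obtain ⟨h, hh, he⟩ := exists_act_nbr (adj_symm hv) (adj_symm ha)
  conv_lhs => rw [← he, ← mem_St_iff.1 hh]
  rw [Rv_act]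
  ext r
  rw [mem_cnj]
  constructor
  · intro hr
    have := hC _ d v (adj_symm hv) rfl _ hr h hh
    rw [show h * (h⁻¹ * r * h) = r * h by group] at this
    rwa [← mul_right_cancel this] at hr
  · intro hr
    rw [show h⁻¹ * r * h = r by rw [mul_assoc, ← hC _ d v (adj_symm hv) rfl r hr h hh, inv_mul_cancel_left]]
    exact hr

/-- Distance at least three is impossible. -/
theorem b_le_two (hC : ∀ i, X.Cen i) {f : ℕ → X.Vtx} (hb3 : 3 ≤ b) (hf : X.Crit b f) : False := by
  -- a neighbour in general position never stays in the core at the other end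
  have hII : ∀ {f : ℕ → X.Vtx}, X.Crit b f → ∀ d, X.Adj (f 0) d → X.Tv (f 0) (f 1) ⊔ X.Tv (f 0) d = X.St (f 0) →
      ¬ X.Zv d ≤ X.Qv (f (b - 1)) := by
    intro f hf d hd hgen hI
    have hadj : X.Adj (f 0) (f 1) := hf.1 0 (by omega)
    have hlast : X.Adj (f b) (f (b - 1)) := by
      have := hf.1 (b - 1) (by omega)
      rw [show b - 1 + 1 = b by omega] at this
      exact adj_symm this
    obtain ⟨x, hx, hxT, hxQ⟩ := exists_x hX hb (by omega) hf
    obtain ⟨c, hc1, hc, hc'⟩ := crit_R hX hb (by omega) hf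
    obtain ⟨h0, hh0, hd1⟩ := exists_act_nbr hadj hd
    -- commutators at the edge of the neighbour
    have hRd : ∀ a, X.Adj a d → ∀ r, r ∈ X.Rv a d ↔ r = 1 ∨ r = h0 * c * h0⁻¹ := by
      intro a ha r
      rw [Rv_const hX hC ha hd, ← hd1]
      conv_lhs => rw [← mem_St_iff.1 hh0]
      rw [Rv_act, mem_cnj, hc]
      constructor
      · rintro (e | e)
        · exact Or.inl (by rw [← conj_eq_one_iff (a := h0⁻¹) (b := r)] <;> simpa using e)
        · exact Or.inr (by rw [← e]; group)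
      · rintro (rfl | rfl)
        · exact Or.inl (by group)
        · exact Or.inr (by group)
    have hfix : ∀ r ∈ X.Rv (f 0) d, x * r = r * x → r = 1 := by
      intro r hr hxr
      by_contra hr1
      have hle : X.St (f 0) ≤ Subgroup.centralizer ({r} : Set G) :=
        St_le_of_generic hadj hd hgen hxT hxQ (Subgroup.mem_centralizer_singleton_iff.2 hxr) fun t ht =>
          Subgroup.mem_centralizer_singleton_iff.2 (Rv_T hX hd hr ht)
      obtain ⟨a, ha, r', hr', hne⟩ := Rv_moved hX hd (c := h0 * c * h0⁻¹)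
        (fun r hr => (hRd (f 0) hd r).1 hr)
      rcases (hRd (f 0) hd r).1 hr with e | e
      · exact hr1 e
      rcases (hRd (f 0) hd r').1 hr' with e' | e'
      · exact hne (by rw [e', mul_one, one_mul])
      · exact hne (by rw [e', ← e]; exact Subgroup.mem_centralizer_singleton_iff.1 (hle ha))
    -- no module around the neighbour reaches the far end
    set N : Subgroup G := Subgroup.closure {z | ∃ a, X.Adj a d ∧ z ∈ X.Zv a} with hN
    have hNQ : N ≤ X.Qv d := by
      rw [hN, Subgroup.closure_le]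
      rintro z ⟨a, ha, hz⟩
      exact hb (X.cons a (fun _ => d)) 1 (by omega) (fun k hk => by
        obtain rfl : k = 0 := by omega
        exact ha) hz
    haveI : Finite N := by
      haveI := X.St_finite d
      exact Finite.of_injective _ (Subgroup.inclusion_injective (show N ≤ X.St d from
        hNQ.trans ((Qv_le_Tv (adj_symm hd)).trans inf_le_left)))
    have hxN : x ∈ Subgroup.normalizer (N : Set G) := by
      refine mem_normalizer_of_finite fun n hn => ?_
      refine (Subgroup.closure_le (N.comap (MulAut.conj x).toMonoidHom)).2 ?_ hn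
      rintro z ⟨a, ha, hz⟩
      show x * z * x⁻¹ ∈ N
      have hw2 : X.Walk (X.cons a (X.cons d f)) b :=
        walk_le (walk_cons ha (walk_cons (adj_symm hd) hf.1)) (by omega)
      have hzQ2 : z ∈ X.Qv (f (b - 2)) := by
        by_contra hzn
        have hcr : X.Crit b (X.cons a (X.cons d f)) := ⟨hw2, fun hle => hzn (by
          have := hle hz
          rw [show b = (b - 2) + 1 + 1 by omega] at this
          exact this)⟩
        obtain ⟨c2, hc21, hc2, hc2'⟩ := crit_R hX hb (by omega) hcr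
        have hce : h0 * c * h0⁻¹ ∈ X.Rv a d := (hRd a ha _).2 (Or.inr rfl)
        have hmem : h0 * c * h0⁻¹ ∈ X.Zv (f (b - 2)) := by
          have h2 := (hc2' _).2 ((hc2 _).1 hce)
          have hadj' : X.Adj (X.cons a (X.cons d f) b) (X.cons a (X.cons d f) (b - 1)) := by
            have := hw2 (b - 1) (by omega)
            rw [show b - 1 + 1 = b by omega] at this
            exact adj_symm this
          have := Rv_le hX hadj' h2
          rw [show b = (b - 2) + 1 + 1 by omega] at this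
          exact this
        have hxr : x * (h0 * c * h0⁻¹) = h0 * c * h0⁻¹ * x := by
          refine (comm_near hX hb (f := fun k => f (b - 2 + k)) (n := 2) (by omega)
            (walk_shift (walk_le hf.1 (by omega))) (by simpa using hmem) ?_).symm
          show x ∈ X.Zv (f (b - 2 + 2))
          rwa [show b - 2 + 2 = b by omega]
        have := hfix _ ((hRd (f 0) hd _).2 (Or.inr rfl)) hxr
        exact hc1 (conj_eq_one_iff.1 this)
      by_cases hzQ1 : z ∈ X.Qv (f (b - 1))
      · have hzT : z ∈ X.Tv (f b) (f (b - 1)) := by rw [Tv_comm]; exact Qv_le_Tv (adj_symm hlast) hzQ1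
        have hr : x * z * x⁻¹ * z⁻¹ ∈ X.Rv (f b) (f (b - 1)) := Subgroup.subset_closure ⟨x, hx, z, hzT, rfl⟩
        rw [show x * z * x⁻¹ = (x * z * x⁻¹ * z⁻¹) * z by group]
        exact mul_mem (Subgroup.subset_closure ⟨f 0, hd, Rv_le hX hadj ((hc _).2 ((hc' _).1 hr))⟩)
          (Subgroup.subset_closure ⟨a, ha, hz⟩)
      · exfalso
        have hadj2 : X.Adj (f (b - 2)) (f (b - 1)) := by
          have := hf.1 (b - 2) (by omega)
          rwa [show b - 2 + 1 = b - 1 by omega] at this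
        have hzT : z ∈ X.Tv (f (b - 1)) (f (b - 2)) := by rw [Tv_comm]; exact Qv_le_Tv hadj2 hzQ2
        obtain ⟨z', hz', hne⟩ : ∃ z' ∈ X.Zv (f (b - 1)), z * z' ≠ z' * z := by
          by_contra h
          push Not at h
          exact hzQ1 (Tv_cent hX (adj_symm hadj2) hzT h)
        have hz'Q : z' ∈ X.Qv d := by
          by_contra hn
          have hw1 : X.Walk (X.cons d f) b := walk_le (walk_cons (adj_symm hd) hf.1) (by omega)
          have hg : X.Crit b (fun k => X.cons d f (b - k)) := ⟨walk_rev hw1, fun hle => by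
            simp only [Nat.sub_zero, Nat.sub_self] at hle
            refine hn (hle ?_)
            rw [show b = (b - 1) + 1 by omega]
            exact hz'⟩
          have h2 := (crit_symm hX hb (by omega) hg).2
          simp only [Nat.sub_zero, Nat.sub_self] at h2
          refine h2 ?_
          rw [show b = (b - 1) + 1 by omega]
          exact hI
        have hz'T : z' ∈ X.Tv a d := by rw [Tv_comm]; exact Qv_le_Tv (adj_symm ha) hz'Q
        have hr : z * z' * z⁻¹ * z'⁻¹ ∈ X.Rv a d := Subgroup.subset_closure ⟨z, hz, z', hz'T, rfl⟩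
        have hrZ : z * z' * z⁻¹ * z'⁻¹ ∈ X.Zv (f (b - 1)) :=
          mul_mem (Zv_normal hzT.1 hz') (inv_mem hz')
        have hr1 : z * z' * z⁻¹ * z'⁻¹ ≠ 1 := fun e => hne (by
          calc z * z' = (z * z' * z⁻¹ * z'⁻¹) * z' * z := by group
            _ = z' * z := by rw [e, one_mul])
        rcases (hRd a ha _).1 hr with e | e
        · exact hr1 e
        · have hxr : x * (h0 * c * h0⁻¹) = h0 * c * h0⁻¹ * x := by
            rw [← e]
            exact (comm_near hX hb (f := X.cons (f (b - 1)) (fun _ => f b)) (n := 1) (by omega)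
              (fun k hk => by
                obtain rfl : k = 0 := by omega
                exact adj_symm hlast) hrZ hx).symm
          exact hr1 (e.trans (hfix _ ((hRd (f 0) hd _).2 (Or.inr rfl)) hxr))
    have hTn : X.Tv (f 0) d ≤ Subgroup.normalizer (N : Set G) := fun t ht => by
      refine mem_normalizer_of_finite fun n hn => ?_
      refine (Subgroup.closure_le (N.comap (MulAut.conj t).toMonoidHom)).2 ?_ hn
      rintro z ⟨a, ha, hz⟩
      refine Subgroup.subset_closure ⟨X.act t a, ?_, by rw [Zv_act]; exact cnj_conj_mem.2 hz⟩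
      have := adj_act ha t
      rwa [mem_St_iff.1 ht.2] at this
    have hSt := St_le_of_generic hadj hd hgen hxT hxQ hxN hTn
    have hbot : N = ⊥ := edge_faithful hd (by rw [Tv_comm]; exact hNQ.trans (Qv_le_Tv (adj_symm hd)))
      (fun a ha n hn => (Subgroup.mem_normalizer_iff.1 (hSt ha) n).1 hn) (fun a ha n hn => by
        refine (Subgroup.closure_le (N.comap (MulAut.conj a).toMonoidHom)).2 ?_ hn
        rintro z ⟨a', ha', hz⟩
        refine Subgroup.subset_closure ⟨X.act a a', ?_, by rw [Zv_act]; exact cnj_conj_mem.2 hz⟩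
        have := adj_act ha' a
        rwa [mem_St_iff.1 ha] at this)
    have hcm : c ∈ N := Subgroup.subset_closure ⟨f 0, hd, Rv_le hX hadj ((hc c).2 (Or.inr rfl))⟩
    rw [hbot, Subgroup.mem_bot] at hcm
    exact hc1 hcm
  -- two shifts give periodicity
  have hper : ∀ d, X.Adj (f 0) d → X.Tv (f 0) (f 1) ⊔ X.Tv (f 0) d = X.St (f 0) →
      X.Rv (f 0) d = X.Rv (f (b - 2)) (f (b - 3)) := by
    intro d hd hgen
    have hw : X.Walk (X.cons d f) b := walk_le (walk_cons (adj_symm hd) hf.1) (by omega)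
    have hg : X.Crit b (X.cons d f) := ⟨hw, by
      rw [show b = (b - 1) + 1 by omega]
      exact hII hf d hd hgen⟩
    obtain ⟨e, he, hegen⟩ := exists_generic (adj_symm hd : X.Adj d (f 0))
    have hk : X.Crit b (X.cons e (X.cons d f)) := ⟨walk_le (walk_cons (adj_symm he) hw) (by omega), by
      have := hII hg e he hegen
      rw [show b = (b - 1) + 1 by omega]
      exact this⟩
    obtain ⟨c, hc1, hc, hc'⟩ := crit_R hX hb (by omega) hk
    have e1 : X.Rv (X.cons e (X.cons d f) 0) (X.cons e (X.cons d f) 1) =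
        X.Rv (X.cons e (X.cons d f) b) (X.cons e (X.cons d f) (b - 1)) := by
      ext r; rw [hc, hc']
    have i1 : X.cons e (X.cons d f) b = f (b - 2) := by
      conv_lhs => rw [show b = (b - 2) + 1 + 1 by omega]
      rfl
    have i2 : X.cons e (X.cons d f) (b - 1) = f (b - 3) := by
      rw [show b - 1 = (b - 3) + 1 + 1 by omega]
      rfl
    rw [i1, i2] at e1
    rw [← Rv_const hX hC (adj_symm he) hd]
    exact e1
  have hadj : X.Adj (f 0) (f 1) := hf.1 0 (by omega)
  obtain ⟨x, hx, hxT, hxQ⟩ := exists_x hX hb (by omega) hf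
  obtain ⟨d, hd, hgen⟩ := exists_generic hadj
  have hd' : X.Adj (f 0) (X.act x d) := by
    have := adj_act hd x
    rwa [mem_St_iff.1 hxT.1] at this
  have hgen' : X.Tv (f 0) (f 1) ⊔ X.Tv (f 0) (X.act x d) = X.St (f 0) := by
    have := congrArg (cnj x) hgen
    rw [cnj_sup, ← Tv_act, ← Tv_act, ← St_act, mem_St_iff.1 hxT.1,
      mem_St_iff.1 hxT.2] at this
    exact this
  have hsame : cnj x (X.Rv (f 0) d) = X.Rv (f 0) d := by
    rw [← Rv_act, mem_St_iff.1 hxT.1, hper _ hd' hgen', hper _ hd hgen]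
  obtain ⟨h0, hh0, hd1⟩ := exists_act_nbr hadj hd
  obtain ⟨c, hc1, hc, hc'⟩ := crit_R hX hb (by omega) hf
  have hRd : ∀ r ∈ X.Rv (f 0) d, r = 1 ∨ r = h0 * c * h0⁻¹ := by
    intro r hr
    rw [← hd1, ← mem_St_iff.1 hh0, Rv_act, mem_cnj] at hr
    rcases (hc _).1 hr with e | e
    · exact Or.inl (by simpa [mul_assoc] using congrArg (fun u => h0 * u * h0⁻¹) e)
    · exact Or.inr (by rw [← e]; group)
  obtain ⟨a, ha, r, hr, hne⟩ := Rv_moved hX hd hRd
  refine hne ?_
  rcases hRd r hr with e | e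
  · rw [e, mul_one, one_mul]
  · have h1 : x * r * x⁻¹ ∈ X.Rv (f 0) d := by rw [← hsame]; exact cnj_conj_mem.2 hr
    have hxr : x * r = r * x := by
      rcases hRd _ h1 with e' | e'
      · rw [show r = 1 from conj_eq_one_iff.1 e', mul_one, one_mul]
      · rw [← e] at e'
        exact mul_inv_eq_iff_eq_mul.1 e'
    have hle : X.St (f 0) ≤ Subgroup.centralizer ({r} : Set G) :=
      St_le_of_generic hadj hd hgen hxT hxQ (Subgroup.mem_centralizer_singleton_iff.2 hxr) fun t ht =>
        Subgroup.mem_centralizer_singleton_iff.2 (Rv_T hX hd hr ht)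
    exact Subgroup.mem_centralizer_singleton_iff.1 (hle ha)

end Data

end Cfsg.Agent.Solv.Amalgam
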