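import Mathlib
import Cfsg.Agent.Lib.Solv.Amalgam.Critical

/-!
# Distance two is impossible when both kinds are central
-/

set_option autoImplicit false
set_option linter.style.haveILetI false

namespace Cfsg.Agent.Solv.Amalgam

universe u

variable {G : Type u} [Group G]

namespace Data

variable {X : Data G}

/-- A walk with a single edge. -/
theorem walk_one {v w : X.Vtx} (h : X.Adj v w) : X.Walk (X.cons v fun _ => w) 1 := by
  intro k hk
  obtain rfl : k = 0 := by omega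
  exact h

/-- Vertex stabilisers act on the vertices next to the vertex. -/
theorem adj_act_of_mem {a v : X.Vtx} (ha : X.Adj a v) {g : G} (hg : g ∈ X.St v) :
    X.Adj (X.act g a) v := by
  have := adj_act ha g
  rwa [mem_St_iff.1 hg] at this

/-- The core fixes all neighbours. -/
theorem act_Qv {a v : X.Vtx} (ha : X.Adj a v) {q : G} (hq : q ∈ X.Qv v) : X.act q a = a :=
  mem_St_iff.1 (Qv_le_St_nbr (adj_symm ha) hq)

theorem Qv_two_nbr {a v : X.Vtx} (ha : X.Adj a v) {s t : G} (hs : s ∈ X.Qv v) (ht : t ∈ X.Qv v)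
    (hsa : s ∉ X.Qv a) (hta : t ∉ X.Qv a) : s⁻¹ * t ∈ X.Qv a :=
  Qv_two ha ((Tv_comm v a) ▸ Qv_le_Tv (adj_symm ha) hs) ((Tv_comm v a) ▸ Qv_le_Tv (adj_symm ha) ht) hsa hta

variable (hX : X.Noncentral)
include hX

theorem Zv_le_nbr {b : ℕ} (hb : X.Near b) (hb2 : 2 ≤ b) {v w : X.Vtx} (h : X.Adj v w) :
    X.Zv v ≤ X.Qv w :=
  hb (X.cons v fun _ => w) 1 (by omega) (walk_one h)

variable (hb : X.Near 2)
include hb

theorem Zv_le_symm {a w v : X.Vtx} (ha : X.Adj a v) (hw : X.Adj w v) (h : X.Zv w ≤ X.Qv a) :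
    X.Zv a ≤ X.Qv w := fun z hz => by
  refine Tv_cent hX hw ?_ fun z' hz' => (Zv_central hX hz (h hz')).symm
  rw [Tv_comm]
  exact Qv_le_Tv (adj_symm hw) (Zv_le_nbr hX hb le_rfl ha hz)

/-- An element of a module fixed by a transvection is fixed by the edge group. -/
theorem mem_Qv_of_comm {a v w : X.Vtx} (ha : X.Adj a v) (hw : X.Adj w v) {z t : G} (hz : z ∈ X.Zv a)
    (ht : t ∈ X.Tv a v) (htQ : t ∉ X.Qv a) (hzt : z * t = t * z) : z ∈ X.Qv w := by
  refine Tv_cent hX hw ?_ fun z' hz' => ?_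
  · rw [Tv_comm]
    exact Qv_le_Tv (adj_symm hw) (Zv_le_nbr hX hb le_rfl ha hz)
  · have h1 : X.Tv a v ≤ Subgroup.centralizer ({z} : Set G) :=
      Tv_le_of_mem ha (fun q hq => Subgroup.mem_centralizer_singleton_iff.2 (Zv_central hX hz hq)) ht htQ
        (Subgroup.mem_centralizer_singleton_iff.2 hzt.symm)
    have h2 : z' ∈ X.Tv a v := by
      rw [Tv_comm]; exact Qv_le_Tv (adj_symm ha) (Zv_le_nbr hX hb le_rfl hw hz')
    exact (Subgroup.mem_centralizer_singleton_iff.1 (h1 h2)).symm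

/-- The neighbour in general position lies in the core: impossible. -/
theorem case_one (hC : ∀ i, X.Cen i) {α β α' δ : X.Vtx} (hαβ : X.Adj α β) (hα' : X.Adj α' β)
    (hd : X.Adj α δ) (hgen : X.Tv α β ⊔ X.Tv α δ = X.St α) {c : G}
    (hR : ∀ r, r ∈ X.Rv α β ↔ r = 1 ∨ r = c) {x : G} (hx : x ∈ X.Zv α') (hxQ : x ∉ X.Qv α)
    (hI : X.Zv δ ≤ X.Qv β) : False := by
  have hxβ : x ∈ X.Qv β := Zv_le_nbr hX hb le_rfl hα' hx
  have hxT : x ∈ X.Tv α β := by rw [Tv_comm]; exact Qv_le_Tv (adj_symm hαβ) hxβ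
  have hcZ : c ∈ X.Zv α := Rv_le hX hαβ ((hR c).2 (Or.inr rfl))
  have hRa : ∀ a, X.Adj a β → ∀ z ∈ X.Zv a, ∀ q ∈ X.Qv β,
      z * q * z⁻¹ * q⁻¹ = 1 ∨ z * q * z⁻¹ * q⁻¹ = c := by
    intro a ha z hz q hq
    refine (hR _).1 ?_
    rw [← Rv_const hX hC ha hαβ]
    exact Subgroup.subset_closure ⟨z, hz, q, by rw [Tv_comm]; exact Qv_le_Tv (adj_symm ha) hq, rfl⟩
  -- the intersection is normal
  haveI := X.St_finite α
  haveI : Finite ↥(X.Qv α ⊓ X.Qv δ) := Finite.of_injective _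
    (Subgroup.inclusion_injective (show X.Qv α ⊓ X.Qv δ ≤ X.St α from
      inf_le_left.trans ((Qv_le_Tv hαβ).trans inf_le_left)))
  have hxn : x ∈ Subgroup.normalizer ((X.Qv α ⊓ X.Qv δ : Subgroup G) : Set G) := by
    refine mem_normalizer_of_finite fun d hdd => ?_
    have h1 : x * d * x⁻¹ ∈ X.Qv α := Qv_normal hxT.1 hdd.1
    refine ⟨h1, Tv_cent hX (adj_symm hd) ((Tv_comm α δ) ▸ Qv_le_Tv hd h1) fun z hz => ?_⟩
    have hq : x⁻¹ * z * x⁻¹⁻¹ * z⁻¹ ∈ X.Zv α := by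
      rcases hRa α' hα' x⁻¹ (inv_mem hx) z (hI hz) with e | e <;> rw [e]
      · exact one_mem _
      · exact hcZ
    have hcm : d * (x⁻¹ * z * x) = x⁻¹ * z * x * d := by
      have e : x⁻¹ * z * x = (x⁻¹ * z * x⁻¹⁻¹ * z⁻¹) * z := by group
      rw [e]
      exact Commute.mul_right (Zv_central hX hq hdd.1) (Zv_central hX hz hdd.2)
    calc x * d * x⁻¹ * z = x * (d * (x⁻¹ * z * x)) * x⁻¹ := by group
      _ = x * (x⁻¹ * z * x * d) * x⁻¹ := by rw [hcm]
      _ = _ := by group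
  have hTn : X.Tv α δ ≤ Subgroup.normalizer ((X.Qv α ⊓ X.Qv δ : Subgroup G) : Set G) := fun t ht =>
    mem_normalizer_of_finite fun d hdd => ⟨Qv_normal ht.1 hdd.1, Qv_normal ht.2 hdd.2⟩
  have hStn := St_le_of_generic hαβ hd hgen hxT hxQ hxn hTn
  obtain ⟨h, hh, hhd⟩ := exists_act_nbr hαβ hd
  have hDeq : X.Qv α ⊓ X.Qv δ = X.Qv α ⊓ X.Qv β := by
    have e1 : X.Qv α ⊓ X.Qv δ = cnj h (X.Qv α ⊓ X.Qv β) := by
      rw [cnj_inf, ← Qv_act, ← Qv_act, mem_St_iff.1 hh, hhd]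
    have e2 := cnj_eq_of_mem_normalizer (hStn (inv_mem hh))
    conv_lhs at e2 => rw [e1, cnj_cnj, inv_mul_cancel, cnj_one]
    exact e2.symm
  set D := X.Qv α ⊓ X.Qv β with hD
  have hDn : ∀ n ∈ X.St α, ∀ d ∈ D, n * d * n⁻¹ ∈ D := by
    intro n hn d hdd
    rw [← hDeq] at hdd ⊢
    exact (Subgroup.mem_normalizer_iff.1 (hStn hn) d).1 hdd
  -- the conjugate transvection
  set u := h * x * h⁻¹ with hu
  set c₁ := h * c * h⁻¹ with hc₁
  have huδ : u ∈ X.Qv δ := by rw [← hhd, Qv_act]; exact cnj_conj_mem.2 hxβ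
  have huT : u ∈ X.Tv α δ := by rw [Tv_comm]; exact Qv_le_Tv (adj_symm hd) huδ
  have huQ : u ∉ X.Qv α := fun e => hxQ (by
    have := Qv_normal (inv_mem hh) e
    rwa [inv_inv, show h⁻¹ * (h * x * h⁻¹) * h = x by group] at this)
  have hR₁ : ∀ r, r ∈ X.Rv α δ ↔ r = 1 ∨ r = c₁ := by
    intro r
    conv_lhs => rw [← mem_St_iff.1 hh, ← hhd]
    rw [Rv_act, mem_cnj, hR]
    constructor
    · rintro (e | e)
      · left
        rw [show r = h * (h⁻¹ * r * h) * h⁻¹ by group, e]; group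
      · right
        rw [hc₁, ← e]; group
    · rintro (rfl | rfl)
      · exact Or.inl (by group)
      · exact Or.inr (by rw [hc₁]; group)
  have hc₁Z : c₁ ∈ X.Zv α := Rv_le hX hd ((hR₁ c₁).2 (Or.inr rfl))
  have hcQ : ∀ {z}, z ∈ X.Zv α → z ∈ D := fun hz => ⟨Zv_le hX α hz, Zv_le_nbr hX hb le_rfl hαβ hz⟩
  have hxD : ∀ d ∈ D, x * d * x⁻¹ * d⁻¹ = 1 ∨ x * d * x⁻¹ * d⁻¹ = c := fun d hdd => hRa α' hα' x hx d hdd.2
  have huD : ∀ d ∈ D, u * d * u⁻¹ * d⁻¹ = 1 ∨ u * d * u⁻¹ * d⁻¹ = c₁ := by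
    intro d hdd
    have h1 := hxD _ (hDn _ (inv_mem hh) d hdd)
    rw [inv_inv] at h1
    have e : u * d * u⁻¹ * d⁻¹ = h * (x * (h⁻¹ * d * h) * x⁻¹ * (h⁻¹ * d * h)⁻¹) * h⁻¹ := by
      rw [hu]; group
    rcases h1 with h1 | h1 <;> rw [e, h1]
    · exact Or.inl (by group)
    · exact Or.inr hc₁.symm
  -- neither commutator is fixed by the whole stabiliser
  have hnc : ∀ r, (r = c ∧ u * r = r * u) ∨ (r = c₁ ∧ x * r = r * x) → False := by
    intro r hr
    have hle : X.St α ≤ Subgroup.centralizer ({r} : Set G) := by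
      rcases hr with ⟨rfl, hur⟩ | ⟨rfl, hxr⟩
      · rw [← hgen]
        refine sup_le (fun t ht => Subgroup.mem_centralizer_singleton_iff.2
          (Rv_T hX hαβ ((hR _).2 (Or.inr rfl)) ht)) ?_
        exact Tv_le_of_mem hd (fun q hq => Subgroup.mem_centralizer_singleton_iff.2 (Zv_central hX hcZ hq))
          huT huQ (Subgroup.mem_centralizer_singleton_iff.2 hur)
      · exact St_le_of_generic hαβ hd hgen hxT hxQ (Subgroup.mem_centralizer_singleton_iff.2 hxr) fun t ht =>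
          Subgroup.mem_centralizer_singleton_iff.2 (Rv_T hX hd ((hR₁ _).2 (Or.inr rfl)) ht)
    rcases hr with ⟨rfl, -⟩ | ⟨rfl, -⟩
    · obtain ⟨a, ha, r', hr', hne⟩ := Rv_moved hX hαβ (fun r hr => (hR r).1 hr)
      rcases (hR r').1 hr' with rfl | rfl
      · exact hne (by simp)
      · exact hne (Subgroup.mem_centralizer_singleton_iff.1 (hle ha))
    · obtain ⟨a, ha, r', hr', hne⟩ := Rv_moved hX hd (fun r hr => (hR₁ r).1 hr)
      rcases (hR₁ r').1 hr' with rfl | rfl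
      · exact hne (by simp)
      · exact hne (Subgroup.mem_centralizer_singleton_iff.1 (hle ha))
  -- the part of the intersection fixed by both
  have hsplit : ∀ d ∈ D, ∃ z ∈ X.Zv α, ∃ e ∈ D, x * e = e * x ∧ u * e = e * u ∧ d = z * e := by
    intro d hdd
    obtain ⟨z, hz, hzx⟩ : ∃ z ∈ X.Zv α, x * (z * d) = z * d * x ∧
        (u * (z * d) * u⁻¹ * (z * d)⁻¹ = 1 ∨ u * (z * d) * u⁻¹ * (z * d)⁻¹ = c₁) := by
      rcases hxD d hdd with e | e
      · exact ⟨1, one_mem _, by rw [one_mul]; exact mul_inv_eq_iff_eq_mul.1 (mul_inv_eq_one.1 e),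
          huD _ (D.mul_mem (one_mem _) hdd)⟩
      · refine ⟨c₁, hc₁Z, ?_, huD _ (D.mul_mem (hcQ hc₁Z) hdd)⟩
        have e1 : x * c₁ * x⁻¹ * c₁⁻¹ = c := (hxD _ (hcQ hc₁Z)).resolve_left fun e' =>
          hnc c₁ (Or.inr ⟨rfl, mul_inv_eq_iff_eq_mul.1 (mul_inv_eq_one.1 e')⟩)
        have hcc : c₁ * c = c * c₁ := Zv_comm hX hc₁Z hcZ
        have hc2 : c * c = 1 := Zv_sq hX hcZ
        calc x * (c₁ * d) = (x * c₁ * x⁻¹ * c₁⁻¹) * c₁ * (x * d * x⁻¹ * d⁻¹) * d * x := by group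
          _ = c * (c₁ * c) * d * x := by rw [e1, e]; group
          _ = c * c * (c₁ * d) * x := by rw [hcc]; group
          _ = _ := by rw [hc2, one_mul]
    obtain ⟨hzx, hzu⟩ := hzx
    have hzdD : z * d ∈ D := D.mul_mem (hcQ hz) hdd
    rcases hzu with e | e
    · exact ⟨z⁻¹, inv_mem hz, z * d, hzdD, hzx, mul_inv_eq_iff_eq_mul.1 (mul_inv_eq_one.1 e), by group⟩
    · refine ⟨z⁻¹ * c⁻¹, mul_mem (inv_mem hz) (inv_mem hcZ), c * (z * d), D.mul_mem (hcQ hcZ) hzdD, ?_, ?_,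
        by group⟩
      · have hxc : x * c = c * x := Rv_T hX hαβ ((hR c).2 (Or.inr rfl)) hxT
        calc x * (c * (z * d)) = (x * c) * (z * d) := by group
          _ = c * (x * (z * d)) := by rw [hxc]; group
          _ = _ := by rw [hzx]; group
      · have e1 : u * c * u⁻¹ * c⁻¹ = c₁ := (huD _ (hcQ hcZ)).resolve_left fun e' =>
          hnc c (Or.inl ⟨rfl, mul_inv_eq_iff_eq_mul.1 (mul_inv_eq_one.1 e')⟩)
        have hcc : c * c₁ = c₁ * c := Zv_comm hX hcZ hc₁Z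
        have hc2 : c₁ * c₁ = 1 := Zv_sq hX hc₁Z
        calc u * (c * (z * d)) =
            (u * c * u⁻¹ * c⁻¹) * c * (u * (z * d) * u⁻¹ * (z * d)⁻¹) * (z * d) * u := by group
          _ = c₁ * (c * c₁) * (z * d) * u := by rw [e1, e]; group
          _ = c₁ * c₁ * (c * (z * d)) * u := by rw [hcc]; group
          _ = _ := by rw [hc2, one_mul]
  have hcC : ¬ (u * c = c * u) := fun e => hnc c (Or.inl ⟨rfl, e⟩)
  -- the fixed part is in every core around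
  have hE : ∀ e ∈ D, x * e = e * x → u * e = e * u → ∀ v, X.Adj v β → e ∈ X.Qv v := by
    intro e he hxe hue v hv
    refine Tv_cent hX hv ?_ fun w hw => ?_
    · rw [Tv_comm]; exact Qv_le_Tv (adj_symm hv) he.2
    have hwβ : w ∈ X.Qv β := Zv_le_nbr hX hb le_rfl hv hw
    rcases hRa v hv w hw e he.2 with h1 | h1
    · exact (mul_inv_eq_iff_eq_mul.1 (mul_inv_eq_one.1 h1)).symm
    exfalso
    obtain ⟨d, hdd, hwd⟩ : ∃ d ∈ D, w * e * w⁻¹ * e⁻¹ = d * e * d⁻¹ * e⁻¹ := by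
      by_cases hwQ : w ∈ X.Qv α
      · exact ⟨w, ⟨hwQ, hwβ⟩, rfl⟩
      · refine ⟨w⁻¹⁻¹ * x, ⟨Qv_two_nbr hαβ (inv_mem hwβ) hxβ (fun e' => hwQ (by simpa using inv_mem e')) hxQ,
          mul_mem (by simpa using hwβ) hxβ⟩, ?_⟩
        calc w * e * w⁻¹ * e⁻¹ = w * (e * x) * x⁻¹ * w⁻¹ * e⁻¹ := by group
          _ = w * (x * e) * x⁻¹ * w⁻¹ * e⁻¹ := by rw [hxe]
          _ = _ := by group
    obtain ⟨z, hz, e', he', hxe', hue', rfl⟩ := hsplit d hdd
    rw [hwd] at h1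
    have hz' : ∀ q ∈ X.Qv α, q * z = z * q := fun q hq => Zv_central hX hz hq
    have e2 : z * e' * e * (z * e')⁻¹ * e⁻¹ = e' * e * e'⁻¹ * e⁻¹ := by
      calc z * e' * e * (z * e')⁻¹ * e⁻¹ = z * (e' * e * e'⁻¹) * z⁻¹ * e⁻¹ := by group
        _ = (e' * e * e'⁻¹) * z * z⁻¹ * e⁻¹ := by
          rw [hz' _ (mul_mem (mul_mem he'.1 he.1) (inv_mem he'.1))]
        _ = _ := by group
    rw [e2] at h1
    refine hcC ?_
    have hC0 : ∀ {a : G}, u * a = a * u → a ∈ Subgroup.centralizer ({u} : Set G) := fun ha =>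
      Subgroup.mem_centralizer_singleton_iff.2 ha.symm
    have := mul_mem (mul_mem (mul_mem (hC0 hue') (hC0 hue)) (inv_mem (hC0 hue'))) (inv_mem (hC0 hue))
    rw [h1] at this
    exact (Subgroup.mem_centralizer_singleton_iff.1 this).symm
  -- squares
  set S : Subgroup G :=
    Subgroup.closure {a | ∃ e ∈ X.Qv β, (∀ v, X.Adj v β → e ∈ X.Qv v) ∧ a = e * e} with hS
  have hsqD : ∀ d ∈ D, d * d ∈ S := by
    intro d hdd
    obtain ⟨z, hz, e, he, hxe, hue, rfl⟩ := hsplit d hdd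
    refine Subgroup.subset_closure ⟨e, he.2, hE e he hxe hue, ?_⟩
    calc z * e * (z * e) = z * (e * z) * e := by group
      _ = z * z * (e * e) := by rw [Zv_central hX hz he.1]; group
      _ = _ := by rw [Zv_sq hX hz, one_mul]
  have hSbot : S = ⊥ := by
    refine edge_faithful hαβ ?_ ?_ ?_
    · rw [hS, Subgroup.closure_le]
      rintro a ⟨e, he, -, rfl⟩
      rw [Tv_comm]
      exact mul_mem (Qv_le_Tv (adj_symm hαβ) he) (Qv_le_Tv (adj_symm hαβ) he)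
    · intro n hn a ha
      refine (Subgroup.closure_le (S.comap (MulAut.conj n).toMonoidHom)).2 ?_ ha
      rintro _ ⟨e, he, hev, rfl⟩
      show n * (e * e) * n⁻¹ ∈ S
      rw [← conj_mul]
      exact hsqD _ (hDn n hn e ⟨hev α hαβ, he⟩)
    · intro n hn a ha
      refine (Subgroup.closure_le (S.comap (MulAut.conj n).toMonoidHom)).2 ?_ ha
      rintro _ ⟨e, he, hev, rfl⟩
      show n * (e * e) * n⁻¹ ∈ S
      refine Subgroup.subset_closure ⟨n * e * n⁻¹, Qv_normal hn he, fun v hv => ?_, conj_mul.symm⟩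
      have h1 := hev _ (adj_act_of_mem hv (inv_mem hn))
      rw [Qv_act, mem_cnj, inv_inv] at h1
      exact h1
  have hel : ∀ a, X.Adj a β → ∀ d ∈ X.Qv a, d ∈ X.Qv β → d * d = 1 := by
    intro a ha d hda hdβ
    obtain ⟨n, hn, rfl⟩ := exists_act_nbr (adj_symm hαβ) (adj_symm ha)
    rw [Qv_act, mem_cnj] at hda
    have hdβ' : n⁻¹ * d * n ∈ X.Qv β := by
      have := Qv_normal (inv_mem hn) hdβ
      rwa [inv_inv] at this
    have h1 := hsqD _ ⟨hda, hdβ'⟩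
    rw [hSbot, Subgroup.mem_bot] at h1
    calc d * d = n * ((n⁻¹ * d * n) * (n⁻¹ * d * n)) * n⁻¹ := by group
      _ = 1 := by rw [h1, mul_one, mul_inv_cancel]
  have hab : ∀ a, X.Adj a β → ∀ p q : G, p ∈ X.Qv a → p ∈ X.Qv β → q ∈ X.Qv a → q ∈ X.Qv β → p * q = q * p := by
    intro a ha p q hp hp' hq hq'
    have hinv : ∀ {d}, d ∈ X.Qv a → d ∈ X.Qv β → d⁻¹ = d := fun h1 h2 =>
      inv_eq_of_mul_eq_one_right (hel a ha _ h1 h2)
    calc p * q = (p * q)⁻¹ := (hinv (mul_mem hp hq) (mul_mem hp' hq')).symm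
      _ = q⁻¹ * p⁻¹ := mul_inv_rev _ _
      _ = q * p := by rw [hinv hq hq', hinv hp hp']
  -- three subgroups
  obtain ⟨g, hg, hga, ⟨N, hN, hgN⟩, -⟩ := exists_rotation (adj_symm hαβ) (adj_symm hα')
  set α'' := X.act g α' with hα''def
  have hα'' : X.Adj α'' β := adj_act_of_mem hα' hg
  have hxα' : x ∈ X.Qv α' := Zv_le hX α' hx
  have hxd : ∀ d ∈ D, x * d = d * x := by
    intro d hdd
    by_cases hdα' : d ∈ X.Qv α'
    · exact hab α' hα' x d hxα' hxβ hdα' hdd.2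
    by_cases hx'' : x ∈ X.Qv α''
    · obtain ⟨w, hw, hwβ, hwn⟩ : ∃ w, w ∈ X.Qv α'' ∧ w ∈ X.Qv β ∧ w ∉ X.Qv α' := by
        refine ⟨g * x * g⁻¹, by rw [hα''def, Qv_act]; exact cnj_conj_mem.2 hxα', Qv_normal hg hxβ, ?_⟩
        rw [← hga, Qv_act, cnj_conj_mem]
        exact hxQ
      have h1 := hab α'' hα'' x w hx'' hxβ hw hwβ
      have h2 := hab α' hα' x (w⁻¹ * d) hxα' hxβ (Qv_two_nbr hα' hwβ hdd.2 hwn hdα')
        (mul_mem (inv_mem hwβ) hdd.2)
      calc x * d = (x * w) * (w⁻¹ * d) := by group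
        _ = w * (x * (w⁻¹ * d)) := by rw [h1]; group
        _ = d * x := by rw [h2]; group
    by_cases hd'' : d ∈ X.Qv α''
    · obtain ⟨w, hw, hwn⟩ : ∃ w ∈ X.Qv α'' ⊓ X.Qv β, w ∉ X.Qv α := by
        by_contra hcon
        push Not at hcon
        haveI : Finite D := Finite.of_injective _
          (Subgroup.inclusion_injective (show D ≤ X.St α from inf_le_left.trans ((Qv_le_Tv hαβ).trans inf_le_left)))
        have hg2 : g * g ∈ Subgroup.normalizer (D : Set G) := by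
          refine mem_normalizer_of_finite fun a ha => ?_
          have h1 : g * g * a * (g * g)⁻¹ ∈ X.Qv α'' ⊓ X.Qv β := by
            refine ⟨?_, Qv_normal (mul_mem hg hg) ha.2⟩
            rw [hα''def, ← hga, act_act, Qv_act]
            exact cnj_conj_mem.2 ha.1
          exact ⟨hcon _ h1, h1.2⟩
        have hgNn : g ^ N ∈ Subgroup.normalizer (D : Set G) :=
          mem_normalizer_of_finite fun a ha =>
            ⟨Qv_normal (Qv_le_St_nbr (adj_symm hαβ) hgN) ha.1, Qv_normal (pow_mem hg N) ha.2⟩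
        obtain ⟨j, rfl⟩ := hN
        have hgn : g ∈ Subgroup.normalizer (D : Set G) := by
          have := mul_mem (pow_mem hg2 (j + 1)) (inv_mem hgNn)
          rwa [← pow_two, ← pow_mul, show 2 * (j + 1) = 1 + (2 * j + 1) by ring, pow_add, pow_one,
            mul_inv_cancel_right] at this
        have h2 : x ∈ cnj g D := by
          rw [hD, cnj_inf, ← Qv_act, hga, ← Qv_act, mem_St_iff.1 hg]
          exact ⟨hxα', hxβ⟩
        rw [cnj_eq_of_mem_normalizer hgn] at h2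
        exact hxQ h2.1
      have h1 := hab α'' hα'' d w hd'' hdd.2 hw.1 hw.2
      have h2 := hab α hαβ d (w⁻¹ * x) hdd.1 hdd.2 (Qv_two_nbr hαβ hw.2 hxβ hwn hxQ)
        (mul_mem (inv_mem hw.2) hxβ)
      calc x * d = w * ((w⁻¹ * x) * d) := by group
        _ = w * (d * (w⁻¹ * x)) := by rw [h2]
        _ = (w * d) * (w⁻¹ * x) := by group
        _ = (d * w) * (w⁻¹ * x) := by rw [h1]
        _ = d * x := by group
    · have h1 := hel α'' hα'' _ (Qv_two_nbr hα'' hxβ hdd.2 hx'' hd'') (mul_mem (inv_mem hxβ) hdd.2)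
      rw [Zv_inv hX hx] at h1
      calc x * d = (x * d)⁻¹ := (inv_eq_of_mul_eq_one_right h1).symm
        _ = d * x := by
          rw [mul_inv_rev, Zv_inv hX hx, inv_eq_of_mul_eq_one_right (hel α hαβ d hdd.1 hdd.2)]
  exact hxQ (Tv_cent hX hαβ hxT fun z hz => hxd z (hcQ hz))

/-- The neighbour in general position starts a critical walk: impossible. -/
theorem case_two (hC : ∀ i, X.Cen i) {α β α' δ : X.Vtx} (hαβ : X.Adj α β) (hα' : X.Adj α' β)
    (hd : X.Adj α δ) {c : G} (hR : ∀ r, r ∈ X.Rv α β ↔ r = 1 ∨ r = c)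
    (hαα' : ¬ X.Zv α ≤ X.Qv α') {x : G} (hx : x ∈ X.Zv α') (hxQ : x ∉ X.Qv α)
    (hII : ¬ X.Zv δ ≤ X.Qv β) : False := by
  have hcr : X.Crit 2 (X.cons δ (X.cons α fun _ => β)) :=
    ⟨walk_cons (adj_symm hd) (walk_one hαβ), hII⟩
  obtain ⟨c', hc'1, hR', hR''⟩ := crit_R hX hb (by omega) hcr
  change ∀ r, r ∈ X.Rv δ α ↔ r = 1 ∨ r = c' at hR'
  change ∀ r, r ∈ X.Rv β α ↔ r = 1 ∨ r = c' at hR''
  have hc'Z : c' ∈ X.Zv β := Rv_le hX (adj_symm hαβ) ((hR'' c').2 (Or.inr rfl))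
  have hne : c' ≠ c := by
    rintro rfl
    obtain ⟨a, ha, r, hr, hne⟩ := Rv_moved hX hαβ (fun r hr => (hR r).1 hr)
    exact hne (hC _ α δ hd rfl r ((hR' r).2 ((hR r).1 hr)) a ha)
  obtain ⟨y, hy, hyQ⟩ := SetLike.not_le_iff_exists.1 hII
  have hyT : y ∈ X.Tv β α := crit_left hb (by omega) hcr hy
  have hyα : y ∈ X.Qv α := Zv_le_nbr hX hb le_rfl (adj_symm hd) hy
  have hy2 : y * y = 1 := Zv_sq hX hy
  -- moving by the element
  have hstep : ∀ w z, X.Adj w β → X.Adj z β → X.Zv w ≤ X.Qv α → X.Zv w ≤ X.Qv z →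
      X.Zv (X.act y w) ≤ X.Qv z := by
    intro w z hw hz h1 h2 v hv
    rw [Zv_act, mem_cnj] at hv
    have hr : y * (y⁻¹ * v * y) * y⁻¹ * (y⁻¹ * v * y)⁻¹ ∈ X.Rv δ α := Subgroup.subset_closure
      ⟨y, hy, y⁻¹ * v * y, by rw [Tv_comm]; exact Qv_le_Tv hd (h1 hv), rfl⟩
    have hmem : y * (y⁻¹ * v * y) * y⁻¹ * (y⁻¹ * v * y)⁻¹ ∈ X.Qv z := by
      rcases (hR' _).1 hr with e | e <;> rw [e]
      · exact one_mem _
      · exact Zv_le_nbr hX hb le_rfl (adj_symm hz) hc'Z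
    have := mul_mem hmem (h2 hv)
    rwa [inv_mul_cancel_right, show y * (y⁻¹ * v * y) * y⁻¹ = v by group] at this
  obtain ⟨g, hg, hga, ⟨N, hN, hgN⟩, hinv⟩ := exists_rotation (adj_symm hαβ) (adj_symm hα')
  have hyg : ∀ w, X.Adj w β → X.act y (X.act g w) = X.act g⁻¹ (X.act y w) := by
    intro w hw
    have hq := hinv y hyT hyQ
    have hadj : X.Adj (X.act g⁻¹ (X.act y w)) β := adj_act_of_mem (adj_act_of_mem hw hyT.1) (inv_mem hg)
    have := act_Qv hadj hq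
    simp only [act_act] at this ⊢
    rw [← this]
    congr 1
    group
  have hyfix : X.act y α = α := mem_St_iff.1 hyT.2
  set a : ℤ → X.Vtx := fun n => X.act (g ^ n) α with ha_def
  have hadj : ∀ n, X.Adj (a n) β := fun n => adj_act_of_mem hαβ (zpow_mem hg n)
  have hsucc : ∀ n : ℤ, X.act g (a n) = a (n + 1) := fun n => by
    show X.act g (X.act (g ^ n) α) = X.act (g ^ (n + 1)) α
    rw [act_act, add_comm, zpow_one_add]
  have ha0 : a 0 = α := by simp [ha_def, show g ^ (0 : ℤ) = 1 from zpow_zero g, act_one]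
  have ha1 : a 1 = α' := by simp [ha_def, hga]
  have hpred : ∀ n : ℤ, X.act g⁻¹ (a n) = a (n - 1) := fun n => by
    show X.act g⁻¹ (X.act (g ^ n) α) = X.act (g ^ (n - 1)) α
    rw [act_act, show n - 1 = -1 + n by ring, zpow_add, zpow_neg_one]
  have hy1 : X.act y α' = a (-1) := by
    rw [← hga, hyg α hαβ, hyfix]
    show _ = X.act (g ^ (-1 : ℤ)) α
    rw [zpow_neg_one]
  have hy2' : X.act y (a 2) = a (-2) := by
    rw [show a 2 = X.act g α' by rw [← ha1, hsucc]; rfl, hyg α' hα', hy1, hpred]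
    rfl
  have hshift : ∀ m n k : ℤ, X.Zv (a m) ≤ X.Qv (a n) → X.Zv (a (m + k)) ≤ X.Qv (a (n + k)) := by
    intro m n k hle
    have e : ∀ j, a (j + k) = X.act (g ^ k) (a j) := fun j => by
      show X.act (g ^ (j + k)) α = X.act (g ^ k) (X.act (g ^ j) α)
      rw [act_act, ← zpow_add, add_comm]
    rw [e, e, Zv_act, Qv_act]
    exact cnj_mono _ hle
  -- the two outer neighbours are critical
  have hne2 : ¬ X.Zv (a 2) ≤ X.Qv (a 0) := by
    intro h2
    have hdown : ∀ m : ℤ, X.Zv (a m) ≤ X.Qv (a 0) → X.Zv (a (m - 4)) ≤ X.Qv (a 0) := by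
      intro m hm
      have h1 := hshift m 0 (2 - m) hm
      rw [show m + (2 - m) = 2 by ring, show 0 + (2 - m) = 2 - m by ring] at h1
      have h3 := hstep (a 2) (a (2 - m)) (hadj _) (hadj _) (ha0 ▸ h2) h1
      rw [hy2'] at h3
      have h4 := hshift _ _ (m - 2) h3
      rwa [show -2 + (m - 2) = m - 4 by ring, show 2 - m + (m - 2) = 0 by ring] at h4
    have hall : ∀ k : ℕ, X.Zv (a (-(4 * (k : ℤ)))) ≤ X.Qv (a 0) := by
      intro k
      induction k with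
      | zero => simpa using Zv_le hX (a 0)
      | succ k ih => simpa [mul_add, sub_eq_add_neg, add_comm] using hdown _ ih
    obtain ⟨j, rfl⟩ := hN
    have h5 := hall (j * j + j)
    have e : a (-(4 * ((j * j + j : ℕ) : ℤ))) = a 1 := by
      show X.act (g ^ (-(4 * ((j * j + j : ℕ) : ℤ)))) α = X.act (g ^ (1 : ℤ)) α
      have hq : g ^ (-(((2 * j + 1) * (2 * j + 1) : ℕ) : ℤ)) ∈ X.Qv β := by
        rw [zpow_neg, zpow_natCast, pow_mul]
        exact inv_mem (pow_mem hgN _)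
      rw [show -(4 * ((j * j + j : ℕ) : ℤ)) = 1 + -(((2 * j + 1) * (2 * j + 1) : ℕ) : ℤ) by push_cast; ring,
        zpow_add, ← act_act, act_Qv hαβ hq]
    rw [e, ha1, ha0] at h5
    exact hαα' (Zv_le_symm hX hb hαβ hα' h5)
  set α'' := X.act y α' with hα''def
  have hα'' : X.Adj α'' β := adj_act_of_mem hα' hyT.1
  have hcr2 : ¬ X.Zv α' ≤ X.Qv α'' := by
    intro h
    rw [hy1, ← ha1] at h
    have := hshift _ _ 1 h
    exact hne2 (by simpa using this)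
  -- the conjugate transvection
  set x' := y * x * y⁻¹ with hx'
  have hx'Z : x' ∈ X.Zv α'' := by rw [hα''def, Zv_act]; exact cnj_conj_mem.2 hx
  have hx'Q : x' ∉ X.Qv α := fun e => hxQ (by
    have := Qv_normal (inv_mem hyT.2) e
    rwa [inv_inv, show y⁻¹ * (y * x * y⁻¹) * y = x by group] at this)
  have hxβ : x ∈ X.Qv β := Zv_le_nbr hX hb le_rfl hα' hx
  have hx'β : x' ∈ X.Qv β := Zv_le_nbr hX hb le_rfl hα'' hx'Z
  have hcomm : x * x' = x' * x := by
    have hw : x' * x ∈ X.Qv α := by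
      have := Qv_two_nbr hαβ hx'β hxβ hx'Q hxQ
      rwa [Zv_inv hX hx'Z] at this
    have h1 : y * (x' * x) * y⁻¹ * (x' * x)⁻¹ ∈ X.Rv δ α := Subgroup.subset_closure
      ⟨y, hy, x' * x, by rw [Tv_comm]; exact Qv_le_Tv hd hw, rfl⟩
    have hyx : y * x' * y⁻¹ = x := by
      rw [hx', show y⁻¹ = y from inv_eq_of_mul_eq_one_right hy2]
      calc y * (y * x * y) * y = (y * y) * x * (y * y) := by group
        _ = x := by rw [hy2, one_mul, mul_one]
    have hxx : x' * x' = 1 := Zv_sq hX hx'Z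
    have e : y * (x' * x) * y⁻¹ * (x' * x)⁻¹ = x * x' * x⁻¹ * x'⁻¹ := by
      rw [← conj_mul, hyx, ← hx', mul_inv_rev, ← mul_assoc]
    rw [e] at h1
    have h2 : x * x' * x⁻¹ * x'⁻¹ ∈ X.Rv α β := by
      rw [← Rv_const hX hC hα' hαβ]
      exact Subgroup.subset_closure ⟨x, hx, x', by rw [Tv_comm]; exact Qv_le_Tv (adj_symm hα') hx'β, rfl⟩
    rcases (hR' _).1 h1 with e1 | e1
    · exact mul_inv_eq_iff_eq_mul.1 (mul_inv_eq_one.1 e1)
    rcases (hR _).1 h2 with e2 | e2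
    · exact mul_inv_eq_iff_eq_mul.1 (mul_inv_eq_one.1 e2)
    exact absurd (e1.symm.trans e2) hne
  have hx'Q' : x' ∉ X.Qv α' := by
    intro e
    obtain ⟨t, ht, htQ⟩ := SetLike.not_le_iff_exists.1 hcr2
    refine hx'Q (mem_Qv_of_comm hX hb hα'' hαβ hx'Z ?_ htQ (Zv_central hX ht e))
    rw [Tv_comm]
    exact Qv_le_Tv (adj_symm hα'') (Zv_le_nbr hX hb le_rfl hα' ht)
  refine hxQ (mem_Qv_of_comm hX hb hα' hαβ hx ?_ hx'Q' hcomm)
  rw [Tv_comm]
  exact Qv_le_Tv (adj_symm hα') hx'β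

omit hb in
/-- Distance two is impossible. -/
theorem b_ne_two (hC : ∀ i, X.Cen i) (hb : X.Near 2) {f : ℕ → X.Vtx} (hf : X.Crit 2 f) : False := by
  have hαβ : X.Adj (f 0) (f 1) := hf.1 0 (by omega)
  have hα' : X.Adj (f 2) (f 1) := adj_symm (hf.1 1 (by omega))
  obtain ⟨d, hd, hgen⟩ := exists_generic hαβ
  obtain ⟨c, -, hR, -⟩ := crit_R hX hb (by omega) hf
  obtain ⟨x, hx, -, hxQ⟩ := exists_x hX hb (by omega) hf
  by_cases hI : X.Zv d ≤ X.Qv (f 1)
  · exact case_one hX hb hC hαβ hα' hd hgen hR hx hxQ hI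
  · exact case_two hX hb hC hαβ hα' hd hR hf.2 hx hxQ hI

end Data

end Cfsg.Agent.Solv.Amalgam
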