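import Mathlib

/-!
# The symmetric group of degree four, possibly times a central factor

A finite group with a self-centralizing normal elementary abelian subgroup of index six on which a
dihedral complement acts, with a central part of index four.
-/

set_option autoImplicit false
set_option linter.style.haveILetI false

namespace Cfsg.Agent.Solv.Amalgam

universe u

variable {M : Type u} [Group M] [Finite M]

/-- Two subgroups, one normalized by the other, have all products as their join. -/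
theorem mem_sup_split {A B : Subgroup M} (h : B ≤ Subgroup.normalizer (A : Set M)) {m : M} (hm : m ∈ A ⊔ B) :
    ∃ a ∈ A, ∃ b ∈ B, a * b = m := by
  rw [← SetLike.mem_coe, Subgroup.coe_mul_of_right_le_normalizer_left _ _ h] at hm
  exact hm

theorem symFour_of_faithful {L : Type u} [Group L] [Finite L] (h24 : Nat.card L = 24) (S : Subgroup L)
    (hS : Nat.card S = 6) (hf : ∀ n, (∀ l : L, l⁻¹ * n * l ∈ S) → n = 1) :
    Nonempty (L ≃* Equiv.Perm (Fin 4)) := by
  have hidx : S.index = 4 := by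
    have := S.card_mul_index
    rw [hS, h24] at this
    omega
  let e : L ⧸ S ≃ Fin 4 := Finite.equivFinOfCardEq hidx
  let φ : L →* Equiv.Perm (Fin 4) := e.permCongrHom.toMonoidHom.comp (MulAction.toPermHom L (L ⧸ S))
  have hinj : Function.Injective φ := by
    rw [← MonoidHom.ker_eq_bot_iff, Subgroup.eq_bot_iff_forall]
    intro n hn
    have hn' : MulAction.toPermHom L (L ⧸ S) n = 1 := e.permCongrHom.injective (by
      rw [map_one]; exact hn)
    refine hf n fun l => ?_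
    have h1 : n • ((l : L) : L ⧸ S) = (l : L ⧸ S) := congrArg (fun p => p (l : L ⧸ S)) hn'
    have h2 : ((n * l : L) : L ⧸ S) = (l : L ⧸ S) := h1
    have h3 := QuotientGroup.eq.1 h2.symm
    rwa [← mul_assoc] at h3
  exact ⟨MulEquiv.ofBijective φ (hinj.bijective_of_nat_card_le (by
    rw [h24, Nat.card_perm, Nat.card_fin]; decide))⟩

theorem recognize (Q E : Subgroup M) [Q.Normal] (hel : ∀ q ∈ Q, q * q = 1) (hEQ : E ≤ Q)
    (hEc : ∀ e ∈ E, ∀ m : M, m * e = e * m) (hQE : Nat.card Q = 4 * Nat.card E)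
    (hM : Nat.card M = 6 * Nat.card Q) (hself : ∀ m : M, (∀ q ∈ Q, m * q = q * m) → m ∈ Q) {t g : M}
    (htQ : t ∉ Q) (ht : t * t = 1) (hgQ : g ∉ Q) {N : ℕ} (hN : Odd N) (hgN : g ^ N ∈ Q)
    (htg : t * g * t⁻¹ * g ∈ Q) :
    (Nat.card E = 1 → Nonempty (M ≃* Equiv.Perm (Fin 4))) ∧
      (Nat.card E = 2 → Nonempty (M ≃* Equiv.Perm (Fin 4) × Multiplicative (ZMod 2))) := by
  classical
  haveI : Fact (Nat.Prime 3) := ⟨Nat.prime_three⟩
  have hqinv : ∀ {q}, q ∈ Q → q⁻¹ = q := fun hq => inv_eq_of_mul_eq_one_right (hel _ hq)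
  have hcomm : ∀ {p q}, p ∈ Q → q ∈ Q → p * q = q * p := by
    intro p q hp hq
    calc p * q = (p * q)⁻¹ := (hqinv (mul_mem hp hq)).symm
      _ = q * p := by rw [mul_inv_rev, hqinv hp, hqinv hq]
  have htinv : t⁻¹ = t := inv_eq_of_mul_eq_one_right ht
  set π := QuotientGroup.mk' Q with hπ
  have hker : ∀ {m}, π m = 1 ↔ m ∈ Q := fun {m} => QuotientGroup.eq_one_iff m
  have hcardq : Nat.card (M ⧸ Q) = 6 := by
    have h1 : Nat.card M = Nat.card (M ⧸ Q) * Nat.card Q := Subgroup.card_eq_card_quotient_mul_card_subgroup Q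
    rw [hM] at h1
    exact (Nat.eq_of_mul_eq_mul_right Nat.card_pos h1).symm
  have hπg3 : π g ^ 3 = 1 := by
    rw [← orderOf_dvd_iff_pow_eq_one]
    have h6 : orderOf (π g) ∣ 6 := hcardq ▸ orderOf_dvd_natCard _
    have hNd : orderOf (π g) ∣ N := orderOf_dvd_of_pow_eq_one (by rw [← map_pow]; exact hker.2 hgN)
    have hodd : Odd (orderOf (π g)) := hN.of_dvd_nat hNd
    exact (Nat.coprime_two_right.2 hodd).dvd_of_dvd_mul_left h6
  -- the element of order three
  set a := g * t * g⁻¹ * t with ha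
  set ρ := a * a with hρdef
  have hπa : π a = π g * π g := by
    have e : a = g * g * (t * g * t⁻¹ * g)⁻¹ := by
      rw [ha]
      calc g * t * g⁻¹ * t = g * t * g⁻¹ * t⁻¹ := by rw [htinv]
        _ = _ := by group
    rw [e, map_mul, map_inv, hker.2 htg, inv_one, mul_one, map_mul]
  have hπρ : π ρ = π g := by
    rw [hρdef, map_mul, hπa]
    calc π g * π g * (π g * π g) = π g ^ 3 * π g := by rw [pow_succ, pow_succ, pow_one]; group
      _ = π g := by rw [hπg3, one_mul]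
  have hρQ : ρ ∉ Q := fun h => hgQ (hker.1 (by rw [← hπρ]; exact hker.2 h))
  have hρ3 : ρ ^ 3 = 1 := by
    have h1 : a ^ 3 ∈ Q := hker.1 (by
      rw [map_pow, hπa, ← pow_two, ← pow_mul, pow_mul', hπg3, one_pow])
    have h2 := hel _ h1
    rw [hρdef]
    calc (a * a) ^ 3 = a ^ 3 * a ^ 3 := (Commute.refl a).mul_pow 3
      _ = 1 := h2
  have hρord : orderOf ρ = 3 := orderOf_eq_prime hρ3 fun h => hρQ (h ▸ one_mem _)
  have hta : t * a * t = a⁻¹ := by
    rw [ha, mul_inv_rev, mul_inv_rev, mul_inv_rev, htinv, inv_inv]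
    calc t * (g * t * g⁻¹ * t) * t = t * (g * t * g⁻¹) * (t * t) := by group
      _ = t * (g * (t * g⁻¹)) := by rw [ht, mul_one]; group
  have htρ : t * ρ * t = ρ⁻¹ := by
    rw [hρdef, mul_inv_rev, ← hta]
    calc t * (a * a) * t = t * a * 1 * a * t := by group
      _ = t * a * (t * t) * a * t := by rw [ht]
      _ = _ := by group
  -- the norm
  obtain ⟨c1, hc1⟩ : ∃ c1 : M → M, ∀ q, c1 q = ρ * q * ρ⁻¹ := ⟨_, fun _ => rfl⟩
  have hc1mem : ∀ {q}, q ∈ Q → c1 q ∈ Q := fun {q} hq => by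
    rw [hc1]; exact Subgroup.Normal.conj_mem inferInstance _ hq ρ
  have hc13 : ∀ q, c1 (c1 (c1 q)) = q := by
    intro q
    rw [hc1, hc1, hc1]
    calc ρ * (ρ * (ρ * q * ρ⁻¹) * ρ⁻¹) * ρ⁻¹ = ρ ^ 3 * q * (ρ ^ 3)⁻¹ := by rw [pow_succ, pow_succ, pow_one]; group
      _ = q := by rw [hρ3]; group
  have hc1mul : ∀ p q, c1 (p * q) = c1 p * c1 q := fun p q => by
    rw [hc1, hc1, hc1]; exact conj_mul.symm
  set nm : M → M := fun q => q * c1 q * c1 (c1 q) with hnm
  have hnmem : ∀ {q}, q ∈ Q → nm q ∈ Q := fun hq => mul_mem (mul_mem hq (hc1mem hq)) (hc1mem (hc1mem hq))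
  have hnmul : ∀ {p q}, p ∈ Q → q ∈ Q → nm (p * q) = nm p * nm q := by
    intro p q hp hq
    show p * q * c1 (p * q) * c1 (c1 (p * q)) = _
    rw [hc1mul, hc1mul]
    calc p * q * (c1 p * c1 q) * (c1 (c1 p) * c1 (c1 q))
        = p * (q * c1 p) * (c1 q * c1 (c1 p)) * c1 (c1 q) := by group
      _ = p * (c1 p * q) * (c1 (c1 p) * c1 q) * c1 (c1 q) := by
        rw [hcomm hq (hc1mem hp), hcomm (hc1mem hq) (hc1mem (hc1mem hp))]
      _ = p * c1 p * (q * c1 (c1 p)) * (c1 q * c1 (c1 q)) := by group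
      _ = p * c1 p * (c1 (c1 p) * q) * (c1 q * c1 (c1 q)) := by rw [hcomm hq (hc1mem (hc1mem hp))]
      _ = _ := by show _ = (p * c1 p * c1 (c1 p)) * (q * c1 q * c1 (c1 q)); group
  have hnfix : ∀ {q}, q ∈ Q → c1 (nm q) = nm q := by
    intro q hq
    show c1 (q * c1 q * c1 (c1 q)) = q * c1 q * c1 (c1 q)
    rw [hc1mul, hc1mul, hc13]
    rw [hcomm (mul_mem (hc1mem hq) (hc1mem (hc1mem hq))) hq]
    exact (mul_assoc _ _ _).symm
  have hnone : ∀ {q}, q ∈ Q → c1 q = q → nm q = q := by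
    intro q hq h
    show q * c1 q * c1 (c1 q) = q
    rw [h, h, hel q hq, one_mul]
  let W : Subgroup M :=
    { carrier := {q | q ∈ Q ∧ nm q = 1}
      one_mem' := ⟨one_mem _, by simp [hnm, hc1]⟩
      mul_mem' := fun {p q} hp hq => ⟨mul_mem hp.1 hq.1, by rw [hnmul hp.1 hq.1, hp.2, hq.2, one_mul]⟩
      inv_mem' := fun {q} hq => by rw [hqinv hq.1]; exact hq }
  have hWQ : W ≤ Q := fun q hq => hq.1
  have hWdisj : ∀ {q}, q ∈ W → c1 q = q → q = 1 := fun hq h => (hnone hq.1 h).symm.trans hq.2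
  have hWE : W ⊓ E = ⊥ := by
    rw [Subgroup.eq_bot_iff_forall]
    rintro q ⟨hq, hqE⟩
    exact hWdisj hq (by rw [hc1, hEc q hqE ρ, mul_inv_cancel_right])
  -- a vector in the kernel
  obtain ⟨w, hw, hw1⟩ : ∃ w ∈ W, w ≠ 1 := by
    obtain ⟨q, hq, hne⟩ : ∃ q ∈ Q, ρ * q ≠ q * ρ := by
      by_contra h
      push Not at h
      exact hρQ (hself ρ h)
    refine ⟨q * nm q, ⟨mul_mem hq (hnmem hq), ?_⟩, fun h => hne ?_⟩
    · rw [hnmul hq (hnmem hq), hnone (hnmem hq) (hnfix hq), hel _ (hnmem hq)]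
    · have e : q = nm q := (mul_eq_one_iff_eq_inv.1 h).trans (hqinv (hnmem hq))
      have := hnfix hq
      rw [← e, hc1] at this
      exact mul_inv_eq_iff_eq_mul.1 this
  have hρW : ∀ {q}, q ∈ W → c1 q ∈ W := fun {q} hq => ⟨hc1mem hq.1, by
    have : nm (c1 q) = c1 (nm q) := by
      show c1 q * c1 (c1 q) * c1 (c1 (c1 q)) = c1 (q * c1 q * c1 (c1 q))
      rw [hc1mul, hc1mul]
    rw [this, hq.2]
    rw [hc1]
    group⟩
  have hW4 : 4 ≤ Nat.card W := by
    have h1 : c1 w ≠ w := fun h => hw1 (hWdisj hw h)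
    have h0 : c1 w ≠ 1 := fun h => hw1 (by rw [hc1] at h; exact conj_eq_one_iff.1 h)
    let f : Fin 4 → W := ![1, ⟨w, hw⟩, ⟨c1 w, hρW hw⟩, ⟨w * c1 w, mul_mem hw (hρW hw)⟩]
    have hf : Function.Injective f := by
      intro i j hij
      have h2 : w * c1 w ≠ 1 := fun h => h1 ((eq_inv_of_mul_eq_one_right h).trans (hqinv hw.1))
      have h3 : w * c1 w ≠ w := fun h => h0 (mul_eq_left.1 h)
      have h4 : w * c1 w ≠ c1 w := fun h => hw1 (mul_eq_right.1 h)
      fin_cases i <;> fin_cases j <;>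
        first
        | rfl
        | (simp [f, Subtype.ext_iff, hw1, h0, h1, h2, h3, h4, hw1.symm, h0.symm, h1.symm, h2.symm, h3.symm,
            h4.symm] at hij)
    simpa using Nat.card_le_card_of_injective f hf
  have hEW : E ≤ Subgroup.normalizer (W : Set M) := fun e he => Subgroup.mem_normalizer_fintype fun q hq => by
    rw [← hEc e he q, mul_inv_cancel_right]
    exact hq
  have hcardWE : Nat.card W * Nat.card E = Nat.card ↥(W ⊔ E) := by
    rw [← Nat.card_prod]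
    refine Nat.card_eq_of_bijective (fun p : W × E =>
      (⟨(p.1 : M) * p.2, mul_mem (Subgroup.mem_sup_left p.1.2) (Subgroup.mem_sup_right p.2.2)⟩ : ↥(W ⊔ E))) ⟨?_, ?_⟩
    · rintro ⟨a, b⟩ ⟨a', b'⟩ e
      have e' : (a : M) * b = a' * b' := congrArg Subtype.val e
      have h1 : (a' : M)⁻¹ * a = (b' : M) * (b : M)⁻¹ := by
        calc (a' : M)⁻¹ * a = (a' : M)⁻¹ * (a * b) * (b : M)⁻¹ := by group
          _ = _ := by rw [e']; group
      have h2 : (a' : M)⁻¹ * a = 1 :=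
        Subgroup.mem_bot.1 (hWE ▸ Subgroup.mem_inf.2
          ⟨W.mul_mem (W.inv_mem a'.2) a.2, h1 ▸ E.mul_mem b'.2 (E.inv_mem b.2)⟩)
      obtain rfl : a = a' := Subtype.ext (inv_mul_eq_one.1 h2).symm
      exact Prod.ext rfl (Subtype.ext (mul_left_cancel e'))
    · rintro ⟨x, hx⟩
      obtain ⟨p, hp, q, hq, e⟩ := mem_sup_split hEW hx
      exact ⟨(⟨p, hp⟩, ⟨q, hq⟩), Subtype.ext e⟩
  have hWEQ : W ⊔ E = Q := by
    refine Subgroup.eq_of_le_of_card_ge (sup_le hWQ hEQ) ?_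
    rw [← hcardWE, hQE]
    exact Nat.mul_le_mul_right _ hW4
  have hW4' : Nat.card W = 4 := by
    rw [hWEQ, hQE] at hcardWE
    exact Nat.eq_of_mul_eq_mul_right Nat.card_pos hcardWE
  -- the complement
  set R := Subgroup.zpowers ρ with hR
  set Z := Subgroup.zpowers t with hZdef
  have htR : Z ≤ Subgroup.normalizer (R : Set M) := by
    rw [hZdef, Subgroup.zpowers_le]
    refine Subgroup.mem_normalizer_fintype fun r hr => ?_
    obtain ⟨k, rfl⟩ := Subgroup.mem_zpowers_iff.1 hr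
    rw [← conj_zpow, htinv, htρ]
    exact zpow_mem (inv_mem (Subgroup.mem_zpowers _)) k
  set S := R ⊔ Z with hSdef
  have hρS : ρ ∈ S := Subgroup.mem_sup_left (Subgroup.mem_zpowers _)
  have htS : t ∈ S := Subgroup.mem_sup_right (Subgroup.mem_zpowers _)
  have hZmem : ∀ {z}, z ∈ Z → z = 1 ∨ z = t := by
    intro z hz
    obtain ⟨k, rfl⟩ := Subgroup.mem_zpowers_iff.1 hz
    rcases Int.even_or_odd k with ⟨j, rfl⟩ | ⟨j, rfl⟩
    · exact Or.inl (by rw [← two_mul, zpow_mul, zpow_two, ht, one_zpow])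
    · exact Or.inr (by rw [zpow_add_one, zpow_mul, zpow_two, ht, one_zpow, one_mul])
  have hRQ : ∀ {r}, r ∈ R → r ∈ Q → r = 1 := by
    intro r hr hrQ
    have h2 : orderOf r ∣ 2 := orderOf_dvd_of_pow_eq_one (by rw [pow_two]; exact hel r hrQ)
    have h3 : orderOf r ∣ 3 := by
      have := Subgroup.orderOf_dvd_natCard R hr
      rwa [hR, Nat.card_zpowers, hρord] at this
    exact orderOf_eq_one_iff.1 (Nat.dvd_one.1 (Nat.dvd_gcd h2 h3))
  have hSQ : ∀ {s}, s ∈ S → s ∈ Q → s = 1 := by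
    intro s hs hsQ
    obtain ⟨r, hr, z, hz, rfl⟩ := mem_sup_split htR hs
    rcases hZmem hz with rfl | rfl
    · rw [mul_one] at hsQ ⊢
      exact hRQ hr hsQ
    · exfalso
      have h1 : π r * π z = 1 := by rw [← map_mul]; exact hker.2 hsQ
      have h2 : π z = (π r)⁻¹ := eq_inv_of_mul_eq_one_right h1
      have h3 : π r ^ 3 = 1 := by
        obtain ⟨k, rfl⟩ := Subgroup.mem_zpowers_iff.1 hr
        rw [← map_pow, ← zpow_natCast, ← zpow_mul, mul_comm, zpow_mul, zpow_natCast, hρ3, one_zpow, map_one]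
      have h4 : π z * π z = 1 := by rw [← map_mul, ht, map_one]
      have h5 : π z = 1 := by
        calc π z = π z * π z * π z := by rw [h4, one_mul]
          _ = (π r ^ 3)⁻¹ := by rw [h2, pow_succ, pow_succ, pow_one]; group
          _ = 1 := by rw [h3, inv_one]
      exact htQ (hker.1 h5)
  have hS6 : Nat.card S = 6 := by
    have hinj : Function.Injective (π.comp S.subtype) := by
      rw [← MonoidHom.ker_eq_bot_iff, Subgroup.eq_bot_iff_forall]
      exact fun s hs => Subtype.ext (hSQ s.2 (hker.1 hs))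
    have hle : Nat.card S ≤ 6 := hcardq ▸ Nat.card_le_card_of_injective _ hinj
    have h3 : 3 ∣ Nat.card S := hρord ▸ (Subgroup.orderOf_dvd_natCard S hρS)
    have h2 : 2 ∣ Nat.card S := by
      have := Subgroup.orderOf_dvd_natCard S htS
      rwa [orderOf_eq_prime (by rw [pow_two, ht]) fun h => htQ (by rw [h]; exact one_mem _)] at this
    exact le_antisymm hle (Nat.le_of_dvd Nat.card_pos (Nat.Coprime.mul_dvd_of_dvd_of_dvd (by norm_num) h2 h3))
  have hSW : S ≤ Subgroup.normalizer (W : Set M) := by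
    refine sup_le ((Subgroup.zpowers_le).2 (Subgroup.mem_normalizer_fintype fun q hq => hc1 q ▸ hρW hq))
      ((Subgroup.zpowers_le).2 (Subgroup.mem_normalizer_fintype fun q hq => ?_))
    have hq' : t * q * t⁻¹ ∈ Q := Subgroup.Normal.conj_mem inferInstance _ hq.1 t
    refine ⟨hq', ?_⟩
    have hsw : ∀ p, c1 (t * p * t⁻¹) = t * (c1 (c1 p)) * t⁻¹ := by
      intro p
      have hρt : ρ * t = t * (ρ * ρ) := by
        calc ρ * t = (t * t) * ρ * t := by rw [ht, one_mul]
          _ = t * (t * ρ * t) := by group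
          _ = t * (ρ * ρ) := by
            rw [htρ, inv_eq_of_mul_eq_one_right (show ρ * (ρ * ρ) = 1 by rw [← hρ3, pow_succ, pow_succ, pow_one]; exact (mul_assoc _ _ _).symm)]
      rw [hc1, hc1 (c1 p), hc1 p]
      calc ρ * (t * p * t⁻¹) * ρ⁻¹ = (ρ * t) * p * (ρ * t)⁻¹ := by group
        _ = _ := by rw [hρt]; group
    show t * q * t⁻¹ * c1 (t * q * t⁻¹) * c1 (c1 (t * q * t⁻¹)) = 1
    rw [hsw, hsw, hc13 (c1 q)]
    calc t * q * t⁻¹ * (t * c1 (c1 q) * t⁻¹) * (t * c1 q * t⁻¹) = t * (q * (c1 (c1 q) * c1 q)) * t⁻¹ := by group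
      _ = t * (q * c1 q * c1 (c1 q)) * t⁻¹ := by
        rw [hcomm (hc1mem (hc1mem hq.1)) (hc1mem hq.1)]; simp only [mul_assoc]
      _ = 1 := by rw [show q * c1 q * c1 (c1 q) = 1 from hq.2]; group
  set L := W ⊔ S with hLdef
  have hLE : ∀ {l}, l ∈ L → l ∈ E → l = 1 := by
    intro l hl hlE
    obtain ⟨p, hp, s, hs, rfl⟩ := mem_sup_split hSW hl
    have hsQ : s ∈ Q := by
      have := mul_mem (inv_mem (hWQ hp)) (hEQ hlE)
      rwa [inv_mul_cancel_left] at this
    rw [hSQ hs hsQ, mul_one] at hlE ⊢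
    exact Subgroup.mem_bot.1 (hWE ▸ ⟨hp, hlE⟩)
  let φ : L × E →* M := MonoidHom.noncommCoprod L.subtype E.subtype fun l e => hEc e e.2 l
  have hφ : Function.Bijective φ := by
    have hinj : Function.Injective φ := by
      rw [← MonoidHom.ker_eq_bot_iff, Subgroup.eq_bot_iff_forall]
      rintro ⟨l, e⟩ hx
      have hx' : (l : M) * e = 1 := hx
      have hl1 : (l : M) = 1 := hLE l.2 (by rw [eq_inv_of_mul_eq_one_left hx']; exact inv_mem e.2)
      rw [hl1, one_mul] at hx'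
      exact Prod.ext (Subtype.ext hl1) (Subtype.ext hx')
    refine ⟨hinj, ?_⟩
    rw [← MonoidHom.range_eq_top]
    refine Subgroup.eq_top_of_le_card _ ?_
    have hQr : Q ≤ φ.range := by
      rw [← hWEQ]
      refine sup_le (fun q hq => ⟨(⟨q, Subgroup.mem_sup_left hq⟩, 1), ?_⟩) fun e he => ⟨(1, ⟨e, he⟩), ?_⟩
      · show q * 1 = q
        rw [mul_one]
      · show 1 * e = e
        rw [one_mul]
    have hSr : S ≤ φ.range := fun s hs => ⟨(⟨s, Subgroup.mem_sup_right hs⟩, 1), mul_one s⟩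
    have hcop : Nat.card S * Nat.card Q ≤ Nat.card φ.range := by
      rw [← Nat.card_prod]
      refine Nat.card_le_card_of_injective
        (fun p : S × Q => (⟨(p.1 : M) * p.2, mul_mem (hSr p.1.2) (hQr p.2.2)⟩ : φ.range)) ?_
      rintro ⟨a, b⟩ ⟨a', b'⟩ e
      have e' : (a : M) * b = a' * b' := congrArg Subtype.val e
      have h1 : (a' : M)⁻¹ * a = (b' : M) * (b : M)⁻¹ := by
        calc (a' : M)⁻¹ * a = (a' : M)⁻¹ * (a * b) * (b : M)⁻¹ := by group
          _ = _ := by rw [e']; group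
      have h2 : (a' : M)⁻¹ * a = 1 :=
        hSQ (mul_mem (inv_mem a'.2) a.2) (h1 ▸ mul_mem b'.2 (inv_mem b.2))
      obtain rfl : a = a' := Subtype.ext (inv_mul_eq_one.1 h2).symm
      exact Prod.ext rfl (Subtype.ext (mul_left_cancel e'))
    rw [hS6] at hcop
    omega
  have e1 : L × E ≃* M := MulEquiv.ofBijective φ hφ
  have hL24 : Nat.card L = 24 := by
    have h1 := Nat.card_congr e1.toEquiv
    rw [Nat.card_prod, hM, hQE, ← mul_assoc] at h1
    exact Nat.eq_of_mul_eq_mul_right Nat.card_pos h1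
  obtain ⟨e2⟩ : Nonempty (L ≃* Equiv.Perm (Fin 4)) := by
    refine symFour_of_faithful hL24 (S.subgroupOf L) ?_ ?_
    · rw [Nat.card_congr (Subgroup.subgroupOfEquivOfLe (le_sup_right : S ≤ L)).toEquiv, hS6]
    · intro n hn
      have hnS : (n : M) ∈ S := by
        have := hn 1
        rw [inv_one, one_mul, mul_one] at this
        exact this
      refine Subtype.ext (hSQ hnS (hself _ fun q hq => ?_))
      have hWn : ∀ p ∈ W, (n : M) * p = p * n := by
        intro p hp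
        have h1 : p⁻¹ * (n : M) * p ∈ S := hn ⟨p, Subgroup.mem_sup_left hp⟩
        have h2 : (n : M)⁻¹ * p⁻¹ * n ∈ W := by
          have := (Subgroup.mem_normalizer_iff.1 (inv_mem (hSW hnS)) p⁻¹).1 (inv_mem hp)
          rwa [inv_inv] at this
        have h3 : (n : M)⁻¹ * (p⁻¹ * n * p) = 1 := by
          refine hSQ (mul_mem (inv_mem hnS) h1) ?_
          rw [show (n : M)⁻¹ * (p⁻¹ * n * p) = ((n : M)⁻¹ * p⁻¹ * n) * p by group]
          exact hWQ (mul_mem h2 hp)
        calc (n : M) * p = p * (p⁻¹ * n * p) := by group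
          _ = p * n := by rw [← inv_mul_eq_one.1 h3]
      rw [← hWEQ] at hq
      obtain ⟨p, hp, e, he, rfl⟩ := mem_sup_split hEW hq
      exact Commute.mul_right (hWn p hp) (hEc e he n)
  constructor
  · intro h1
    haveI : Subsingleton E := (Nat.card_eq_one_iff_unique.1 h1).1
    haveI : Unique E := uniqueOfSubsingleton 1
    exact ⟨e1.symm.trans (MulEquiv.prodUnique.trans e2)⟩
  · intro h2
    haveI : Fact (Nat.Prime 2) := ⟨Nat.prime_two⟩
    haveI : IsCyclic E := isCyclic_of_prime_card h2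
    refine ⟨e1.symm.trans (e2.prodCongr (mulEquivOfPrimeCardEq h2 ?_))⟩
    rw [Nat.card_eq_fintype_card, Fintype.card_multiplicative, ZMod.card]

end Cfsg.Agent.Solv.Amalgam
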