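import Mathlib
import Cfsg.Prelude.Def_Solvable
import Cfsg.Agent.Lib.Solv.Amalgam.BTwo
import Cfsg.Agent.Lib.Solv.Amalgam.Recognize

/-!
# Distance one: the two sides are symmetric of degree four, possibly times two, modulo odd cores
-/

set_option autoImplicit false
set_option linter.style.haveILetI false

namespace Cfsg.Agent.Solv.Amalgam

universe u

variable {G : Type u} [Group G]

theorem card_le_two_mul {A B : Subgroup G} [Finite A] (hBA : B ≤ A)
    (h : ∀ a ∈ A, ∀ b ∈ A, a ∉ B → b ∉ B → a⁻¹ * b ∈ B) : Nat.card A ≤ 2 * Nat.card B := by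
  classical
  haveI : Finite B := Finite.of_injective _ (Subgroup.inclusion_injective hBA)
  by_cases hex : ∃ v ∈ A, v ∉ B
  · obtain ⟨v, hv, hvB⟩ := hex
    rw [show 2 * Nat.card B = Nat.card (B ⊕ B) by rw [Nat.card_sum, two_mul]]
    refine Nat.card_le_card_of_injective
      (fun a : A => if ha : (a : G) ∈ B then Sum.inl (⟨a, ha⟩ : B)
        else Sum.inr (⟨v⁻¹ * a, h v hv a a.2 hvB ha⟩ : B)) ?_
    intro a b e
    simp only at e
    split_ifs at e with ha hb
    all_goals simp only [Sum.inl.injEq, Sum.inr.injEq, Subtype.mk.injEq, mul_right_inj, reduceCtorEq] at e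
    all_goals exact Subtype.ext e
  · push Not at hex
    have := Nat.card_le_card_of_injective (fun a : A => (⟨a, hex a a.2⟩ : B))
      (fun a b e => Subtype.ext (congrArg (fun x : B => (x : G)) e))
    omega

theorem card_eq_two_mul {A B : Subgroup G} [Finite A] (hBA : B ≤ A) (hne : ∃ v ∈ A, v ∉ B)
    (h : ∀ a ∈ A, ∀ b ∈ A, a ∉ B → b ∉ B → a⁻¹ * b ∈ B) : Nat.card A = 2 * Nat.card B := by
  haveI : Finite B := Finite.of_injective _ (Subgroup.inclusion_injective hBA)
  refine le_antisymm (card_le_two_mul hBA h) ?_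
  obtain ⟨v, hv, hvB⟩ := hne
  obtain ⟨k, hk⟩ := Subgroup.card_dvd_of_le hBA
  have hk1 : k ≠ 1 := by
    rintro rfl
    exact hvB ((Subgroup.eq_of_le_of_card_ge hBA (by omega)).ge hv)
  have hk0 : k ≠ 0 := by
    rintro rfl
    rw [mul_zero] at hk
    exact Nat.card_pos.ne' hk
  rw [hk, mul_comm]
  exact Nat.mul_le_mul_left _ (by omega)

namespace Data

variable {X : Data G} (hX : X.Noncentral)
include hX

/-- With symmetric sides the modules leave the opposite cores. -/
theorem edge_noncentral (hS : X.SymHyp) (i : Bool) : ¬ X.V i ≤ X.Q (!i) := by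
  obtain ⟨b, hb1, hb, f, hf⟩ := exists_crit hX
  have hb_one : b = 1 := by
    by_contra hne
    have hb2 : 2 ≤ b := by omega
    have h0 := cen_start hX hb hb2 hf
    have hC : ∀ j, X.Cen j := fun j => by
      have : j = (f 0).1 ∨ j = !(f 0).1 := by cases j <;> cases (f 0).1 <;> simp
      rcases this with rfl | rfl
      · exact h0
      · exact hS _ h0
    rcases Nat.lt_or_ge b 3 with h | h
    · obtain rfl : b = 2 := by omega
      exact b_ne_two hX hC hb hf
    · exact b_le_two hX hb hC h hf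
  subst hb_one
  have hr := (crit_symm hX hb le_rfl hf).2
  simp only [Nat.sub_zero, Nat.sub_self] at hr
  obtain ⟨g, j, e0, e1⟩ := hf.1 0 (by omega)
  have h1 := hf.2
  rw [e0, show f 1 = X.vtx (!j) g from e1, Zv_vtx, Qv_vtx, cnj_le_cnj] at h1
  rw [e0, show f 1 = X.vtx (!j) g from e1, Zv_vtx, Qv_vtx, cnj_le_cnj] at hr
  have : i = j ∨ i = !j := by cases i <;> cases j <;> simp
  rcases this with rfl | rfl
  · exact h1
  · rwa [Bool.not_not]

variable (hV : ∀ i, ¬ X.V i ≤ X.Q (!i))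
include hV

omit hX hV in
theorem finite_le_T {H : Subgroup G} (h : H ≤ X.T) : Finite H := by
  haveI := X.fin
  exact Finite.of_injective _ (Subgroup.inclusion_injective h)

omit hX hV in
theorem inter_le_Q (i : Bool) : X.Q false ⊓ X.Q true ≤ X.Q i := by
  cases i
  · exact inf_le_left
  · exact inf_le_right

omit hX hV in
theorem mem_inter {i : Bool} {q : G} (h : q ∈ X.Q i) (h' : q ∈ X.Q (!i)) : q ∈ X.Q false ⊓ X.Q true := by
  cases i
  · exact ⟨h, h'⟩
  · exact ⟨h', h⟩

omit hX hV in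
theorem Q_two (i : Bool) {a b : G} (ha : a ∈ X.Q i) (hb : b ∈ X.Q i) (ha' : a ∉ X.Q false ⊓ X.Q true)
    (hb' : b ∉ X.Q false ⊓ X.Q true) : a⁻¹ * b ∈ X.Q false ⊓ X.Q true :=
  mem_inter (mul_mem (inv_mem ha) hb) ((X.dih (!i)).two a ((X.dih i).Q_le ha) b ((X.dih i).Q_le hb)
    (fun h => ha' (mem_inter ha h)) (fun h => hb' (mem_inter hb h)))

/-- The cores are elementary abelian. -/
theorem Q_sq (i : Bool) {q : G} (hq : q ∈ X.Q i) : q * q = 1 := by
  set S : Subgroup G := Subgroup.closure {a | ∃ d ∈ X.Q false ⊓ X.Q true, a = d * d} with hS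
  have key : ∀ j, ∀ p ∈ X.Q j, p * p ∈ S := by
    intro j p hp
    by_cases hpD : p ∈ X.Q false ⊓ X.Q true
    · exact Subgroup.subset_closure ⟨p, hpD, rfl⟩
    obtain ⟨v, hv, hvQ⟩ := SetLike.not_le_iff_exists.1 (hV j)
    have hvj := V_le hX j hv
    have hd := Q_two j hvj hp (fun h => hvQ (inter_le_Q (!j) h)) hpD
    refine Subgroup.subset_closure ⟨v⁻¹ * p, hd, ?_⟩
    calc p * p = (v * v)⁻¹ * (p * p) := by rw [V_sq hX hv, inv_one, one_mul]
      _ = v⁻¹ * (v⁻¹ * p) * p := by group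
      _ = v⁻¹ * (p * v⁻¹) * p := by rw [V_central hX (inv_mem hv) hp]
      _ = _ := by group
  have hbot : S = ⊥ := by
    refine X.faithful S ?_ ?_
    · rw [hS, Subgroup.closure_le]
      rintro a ⟨d, hd, rfl⟩
      exact mul_mem ((X.dih false).Q_le hd.1) ((X.dih false).Q_le hd.1)
    · intro j g hg n hn
      refine (Subgroup.closure_le (S.comap (MulAut.conj g).toMonoidHom)).2 ?_ hn
      rintro _ ⟨d, hd, rfl⟩
      show g * (d * d) * g⁻¹ ∈ S
      rw [← conj_mul]
      exact key j _ (X.Q_normal j hg (inter_le_Q j hd))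
  have := key i q hq
  rwa [hbot, Subgroup.mem_bot] at this

theorem Q_comm (i : Bool) {p q : G} (hp : p ∈ X.Q i) (hq : q ∈ X.Q i) : p * q = q * p := by
  have hinv : ∀ {a}, a ∈ X.Q i → a⁻¹ = a := fun ha => inv_eq_of_mul_eq_one_right (Q_sq hX hV i ha)
  calc p * q = (p * q)⁻¹ := (hinv (mul_mem hp hq)).symm
    _ = q * p := by rw [mul_inv_rev, hinv hp, hinv hq]

theorem inter_T {d t : G} (hd : d ∈ X.Q false ⊓ X.Q true) (ht : t ∈ X.T) : t * d = d * t := by
  have h : X.T ≤ Subgroup.centralizer ({d} : Set G) := X.sup_eq ▸ sup_le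
    (fun q hq => Subgroup.mem_centralizer_singleton_iff.2 (Q_comm hX hV false hq hd.1))
    (fun q hq => Subgroup.mem_centralizer_singleton_iff.2 (Q_comm hX hV true hq hd.2))
  exact Subgroup.mem_centralizer_singleton_iff.1 (h ht)

/-- The orders. -/
theorem cards (i : Bool) :
    Nat.card X.T = 2 * Nat.card (X.Q i) ∧
      Nat.card (X.Q i) = 2 * Nat.card ↥(X.Q false ⊓ X.Q true) ∧
      Nat.card ↥(X.Q false ⊓ X.Q true) =
        2 * Nat.card ↥(X.Q false ⊓ X.Q true ⊓ Subgroup.centralizer (X.P i : Set G)) := by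
  haveI := X.fin
  haveI := finite_le_T (X.dih i).Q_le
  haveI := finite_le_T ((inter_le_Q (X := X) false).trans (X.dih false).Q_le)
  refine ⟨card_eq_two_mul (X.dih i).Q_le (X.dih i).proper (X.dih i).two, ?_, ?_⟩
  · obtain ⟨v, hv, hvQ⟩ := SetLike.not_le_iff_exists.1 (hV i)
    exact card_eq_two_mul (inter_le_Q i) ⟨v, V_le hX i hv, fun h => hvQ (inter_le_Q (!i) h)⟩
      fun a ha b hb => Q_two i ha hb
  set D := X.Q false ⊓ X.Q true with hD
  set E := D ⊓ Subgroup.centralizer (X.P i : Set G) with hE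
  refine card_eq_two_mul inf_le_left ?_ ?_
  · obtain ⟨g, hg, z, hz, hne⟩ := hX.nc i
    exact ⟨z, ⟨hX.Z_le false hz, hX.Z_le true hz⟩,
      fun h => hne (Subgroup.mem_centralizer_iff.1 h.2 g hg)⟩
  intro a ha b hb haE hbE
  obtain ⟨g, hg, hgen⟩ := (X.dih i).gen
  -- elements fixed by both edge groups
  have hfix : ∀ d ∈ D, g⁻¹ * d * g ∈ D → d ∈ E := by
    intro d hd hd'
    refine ⟨hd, ?_⟩
    have hle : X.P i ≤ Subgroup.centralizer ({d} : Set G) := by
      rw [← hgen]
      refine sup_le (fun t ht => Subgroup.mem_centralizer_singleton_iff.2 (inter_T hX hV hd ht)) ?_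
      rintro _ ⟨t, ht, rfl⟩
      refine Subgroup.mem_centralizer_singleton_iff.2 ?_
      show g * t * g⁻¹ * d = d * (g * t * g⁻¹)
      calc g * t * g⁻¹ * d = g * (t * (g⁻¹ * d * g)) * g⁻¹ := by group
        _ = g * ((g⁻¹ * d * g) * t) * g⁻¹ := by rw [inter_T hX hV hd' ht]
        _ = _ := by group
    exact Subgroup.mem_centralizer_iff.2 fun h hh => Subgroup.mem_centralizer_singleton_iff.1 (hle hh)
  have hcQ : ∀ {d}, d ∈ D → g⁻¹ * d * g ∈ X.Q i := fun {d} hd => by
    have := X.Q_normal i (inv_mem hg) (inter_le_Q i hd)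
    rwa [inv_inv] at this
  refine hfix _ (mul_mem (inv_mem ha) hb) ?_
  rw [show g⁻¹ * (a⁻¹ * b) * g = (g⁻¹ * a * g)⁻¹ * (g⁻¹ * b * g) by group]
  exact Q_two i (hcQ ha) (hcQ hb) (fun h => haE (hfix a ha h)) (fun h => hbE (hfix b hb h))

theorem card_fixed (i : Bool) :
    Nat.card ↥(X.Q false ⊓ X.Q true ⊓ Subgroup.centralizer (X.P i : Set G)) = 1 ∨
      Nat.card ↥(X.Q false ⊓ X.Q true ⊓ Subgroup.centralizer (X.P i : Set G)) = 2 := by
  set D := X.Q false ⊓ X.Q true with hD
  have hDT : D ≤ X.T := (inter_le_Q false).trans (X.dih false).Q_le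
  haveI := finite_le_T hDT
  haveI : ∀ j, Finite ↥(D ⊓ Subgroup.centralizer (X.P j : Set G)) :=
    fun j => finite_le_T (inf_le_left.trans hDT)
  have hbot : D ⊓ Subgroup.centralizer (X.P false : Set G) ⊓ (D ⊓ Subgroup.centralizer (X.P true : Set G)) = ⊥ := by
    refine X.faithful _ (inf_le_left.trans (inf_le_left.trans hDT)) fun j g hg n hn => ?_
    have h : g * n * g⁻¹ = n := by
      have hc : n ∈ Subgroup.centralizer (X.P j : Set G) := by
        cases j
        · exact hn.1.2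
        · exact hn.2.2
      rw [Subgroup.mem_centralizer_iff.1 hc g hg, mul_inv_cancel_right]
    rwa [h]
  have hle : Nat.card ↥(D ⊓ Subgroup.centralizer (X.P false : Set G)) *
      Nat.card ↥(D ⊓ Subgroup.centralizer (X.P true : Set G)) ≤ Nat.card D := by
    rw [← Nat.card_prod]
    refine Nat.card_le_card_of_injective
      (fun p => (⟨(p.1 : G) * p.2, mul_mem p.1.2.1 p.2.2.1⟩ : D)) ?_
    rintro ⟨⟨a, ha⟩, ⟨b, hb⟩⟩ ⟨⟨a', ha'⟩, ⟨b', hb'⟩⟩ e
    have e' : a * b = a' * b' := congrArg Subtype.val e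
    have h1 : a'⁻¹ * a = b' * b⁻¹ := by
      calc a'⁻¹ * a = a'⁻¹ * (a * b) * b⁻¹ := by group
        _ = _ := by rw [e']; group
    have h2 : a'⁻¹ * a = 1 :=
      Subgroup.mem_bot.1 (hbot ▸ Subgroup.mem_inf.2 ⟨mul_mem (inv_mem ha') ha, h1 ▸ mul_mem hb' (inv_mem hb)⟩)
    obtain rfl : a' = a := inv_mul_eq_one.1 h2
    obtain rfl : b = b' := mul_left_cancel e'
    rfl
  have h0 := (cards hX hV false).2.2
  have h1 := (cards hX hV true).2.2
  rw [← hD] at h0 h1
  have hp : 0 < Nat.card ↥(D ⊓ Subgroup.centralizer (X.P i : Set G)) := Nat.card_pos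
  cases i <;>
    (generalize Nat.card ↥(D ⊓ Subgroup.centralizer (X.P false : Set G)) = a at *
     generalize Nat.card ↥(D ⊓ Subgroup.centralizer (X.P true : Set G)) = b at *
     obtain rfl : a = b := by omega
     rw [h0] at hle
     have : a ≤ 2 := Nat.le_of_mul_le_mul_right hle hp
     omega)

/-- A Sylow subgroup. -/
theorem T_index_odd (i : Bool) : ¬ 2 ∣ (X.T.subgroupOf (X.P i)).index := by
  haveI : Fact (Nat.Prime 2) := ⟨Nat.prime_two⟩
  haveI := X.finP i
  set T' := X.T.subgroupOf (X.P i) with hT'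
  have hp : IsPGroup 2 T' := X.pgroup.of_equiv (Subgroup.subgroupOfEquivOfLe (X.dih i).T_le).symm
  have hN : Subgroup.normalizer (T' : Set (X.P i)) = T' := by
    refine le_antisymm (fun (g : X.P i) hg => Subgroup.mem_subgroupOf.2 ((X.dih i).self g g.2 fun t ht => ?_))
      Subgroup.le_normalizer
    exact (Subgroup.mem_normalizer_iff.1 hg ⟨t, (X.dih i).T_le ht⟩).1 ht
  obtain ⟨n, hn⟩ := hp.exists_card_eq
  intro h
  have hdvd : 2 ^ (n + 1) ∣ Nat.card (X.P i) := by
    rw [← T'.card_mul_index, hn, pow_succ]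
    exact Nat.mul_dvd_mul_left _ h
  have := Sylow.prime_dvd_card_quotient_normalizer hdvd hn
  rw [hN] at this
  have h1 : Nat.card (T' ⧸ Subgroup.comap T'.subtype T') = 1 := by
    haveI : Subsingleton (T' ⧸ Subgroup.comap T'.subtype T') := ⟨fun a b => by
      induction a using QuotientGroup.induction_on with
      | H a => induction b using QuotientGroup.induction_on with
        | H b => exact QuotientGroup.eq.2 (show ((a⁻¹ * b : T') : X.P i) ∈ T' from (a⁻¹ * b).2)⟩
    exact Nat.card_unique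
  rw [show Nat.card (T' ⧸ Subgroup.comap T'.subtype T') = 1 from h1] at this
  omega

end Data

end Cfsg.Agent.Solv.Amalgam
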