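import Mathlib
import Cfsg.Prelude.Def_CaseTheorems
import Cfsg.Agent.Lib.Solv.Amalgam.Edge

/-!
# The two sides modulo their odd cores
-/

set_option autoImplicit false
set_option linter.style.haveILetI false

open Cfsg

namespace Cfsg.Agent.Solv.Amalgam

universe u

variable {G : Type u} [Group G]

namespace Data

variable {X : Data G} (hX : X.Noncentral) (hV : ∀ i, ¬ X.V i ≤ X.Q (!i))
include hX hV

/-- The common subgroup has order eight or sixteen. -/
theorem card_T : Nat.card X.T = 8 ∨ Nat.card X.T = 16 := by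
  obtain ⟨h1, h2, h3⟩ := cards hX hV false
  rcases card_fixed hX hV false with h | h <;> rw [h] at h3 <;> omega

/-- Each side modulo its odd core. -/
theorem side_iso (i : Bool) :
    (Nat.card X.T = 8 → Nonempty (↥(X.P i) ⧸ oddCore ↥(X.P i) ≃* Equiv.Perm (Fin 4))) ∧
    (Nat.card X.T = 16 →
      Nonempty (↥(X.P i) ⧸ oddCore ↥(X.P i) ≃* Equiv.Perm (Fin 4) × Multiplicative (ZMod 2))) := by
  classical
  haveI := X.finP i
  haveI : Fact (Nat.Prime 2) := ⟨Nat.prime_two⟩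
  have hQT := (X.dih i).Q_le
  haveI := finite_le_T hQT
  have hQP : X.Q i ≤ X.P i := hQT.trans (X.dih i).T_le
  obtain ⟨hT, hQ, hD⟩ := cards hX hV i
  set E := X.Q false ⊓ X.Q true ⊓ Subgroup.centralizer (X.P i : Set G) with hE
  have hEQ : E ≤ X.Q i := inf_le_left.trans (inter_le_Q i)
  haveI := finite_le_T (hEQ.trans hQT)
  set Q' := (X.Q i).subgroupOf (X.P i) with hQ'
  set E' := E.subgroupOf (X.P i) with hE'
  have hcQ : Nat.card Q' = Nat.card (X.Q i) := Nat.card_congr (Subgroup.subgroupOfEquivOfLe hQP).toEquiv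
  have hcE : Nat.card E' = Nat.card E := Nat.card_congr (Subgroup.subgroupOfEquivOfLe (hEQ.trans hQP)).toEquiv
  haveI hQn : Q'.Normal := ⟨fun q hq g => Subgroup.mem_subgroupOf.2 (X.Q_normal i g.2 hq)⟩
  have hEc : ∀ e ∈ E', ∀ m : X.P i, m * e = e * m := fun e he m =>
    Subtype.ext (Subgroup.mem_centralizer_iff.1 (Subgroup.mem_subgroupOf.1 he).2 m m.2)
  haveI hEn : E'.Normal := ⟨fun e he g => by rw [hEc e he g, mul_inv_cancel_right]; exact he⟩
  have hQsq : ∀ q ∈ Q', q * q = 1 := fun q hq => Subtype.ext (Q_sq hX hV i (Subgroup.mem_subgroupOf.1 hq))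
  have hQcomm : ∀ p ∈ Q', ∀ q ∈ Q', p * q = q * p := fun p hp q hq =>
    Subtype.ext (Q_comm hX hV i (Subgroup.mem_subgroupOf.1 hp) (Subgroup.mem_subgroupOf.1 hq))
  -- the centralizer of the core
  set C := Subgroup.centralizer (Q' : Set (X.P i)) with hC
  haveI hCn : C.Normal := Subgroup.normal_centralizer
  have hQC : Q' ≤ C := fun q hq => Subgroup.mem_centralizer_iff.2 fun p hp => hQcomm p hp q hq
  have hTC : ∀ t : X.P i, (t : G) ∈ X.T → t ∈ C → t ∈ Q' := fun t ht htC => Subgroup.mem_subgroupOf.2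
    (cent hX ht fun v hv => (congrArg Subtype.val
      (Subgroup.mem_centralizer_iff.1 htC ⟨v, hQP (V_le hX i hv)⟩
        (Subgroup.mem_subgroupOf.2 (V_le hX i hv)))).symm)
  -- a reflection and a rotation
  obtain ⟨v, hv, hvQ⟩ := SetLike.not_le_iff_exists.1 (hV (!i))
  rw [Bool.not_not] at hvQ
  have hvT : v ∈ X.T := (X.dih (!i)).Q_le (V_le hX (!i) hv)
  obtain ⟨gg, hgg, hgen⟩ := (X.dih i).gen
  obtain ⟨g₀, hg₀, hg₀T, ⟨N, hN, hgN⟩, hinv⟩ := (X.dih i).rot gg hgg
  set t : X.P i := ⟨v, (X.dih i).T_le hvT⟩ with htdef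
  set g : X.P i := ⟨g₀, hg₀⟩ with hgdef
  have ht : t * t = 1 := Subtype.ext (V_sq hX hv)
  have htC : t ∉ C := fun h => hvQ (Subgroup.mem_subgroupOf.1 (hTC t hvT h))
  have htg : t * g * t⁻¹ * g ∈ Q' := Subgroup.mem_subgroupOf.2 (hinv v hvT hvQ)
  have hgNQ : g ^ N ∈ Q' := Subgroup.mem_subgroupOf.2 hgN
  set π := QuotientGroup.mk' C with hπ
  have hker : ∀ {m}, π m = 1 ↔ m ∈ C := fun {m} => QuotientGroup.eq_one_iff m
  set U := Subgroup.zpowers (π g) with hU
  set Z := Subgroup.zpowers (π t) with hZ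
  have htgπ : π t * π g * (π t)⁻¹ = (π g)⁻¹ := by
    refine eq_inv_of_mul_eq_one_left ?_
    rw [← map_inv, ← map_mul, ← map_mul, ← map_mul]
    exact hker.2 (hQC htg)
  have hZU : Z ≤ Subgroup.normalizer (U : Set (X.P i ⧸ C)) := by
    rw [hZ, Subgroup.zpowers_le]
    refine Subgroup.mem_normalizer_fintype fun r hr => ?_
    obtain ⟨k, rfl⟩ := Subgroup.mem_zpowers_iff.1 hr
    rw [← conj_zpow, htgπ]
    exact zpow_mem (inv_mem (Subgroup.mem_zpowers _)) k
  have hTle : ∀ s : X.P i, (s : G) ∈ X.T → π s ∈ U ⊔ Z := by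
    intro s hs
    by_cases hsQ : (s : G) ∈ X.Q i
    · rw [hker.2 (hQC (Subgroup.mem_subgroupOf.2 hsQ))]
      exact one_mem _
    · have h := hker.2 (hQC (Subgroup.mem_subgroupOf.2 ((X.dih i).two v hvT s hs hvQ hsQ) : t⁻¹ * s ∈ Q'))
      rw [map_mul, map_inv, inv_mul_eq_one] at h
      rw [← h]
      exact Subgroup.mem_sup_right (Subgroup.mem_zpowers _)
  have htop : ∀ m : X.P i, π m ∈ U ⊔ Z := by
    intro m
    have hle : X.P i ≤ ((U ⊔ Z).comap π).map (X.P i).subtype := by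
      conv_lhs => rw [← hgen]
      refine sup_le (fun s hs => ⟨⟨s, (X.dih i).T_le hs⟩, hTle ⟨s, (X.dih i).T_le hs⟩ hs, rfl⟩) ?_
      rintro _ ⟨s, hs, rfl⟩
      have hs' := hTle ⟨s, (X.dih i).T_le hs⟩ hs
      have hgg' : π ⟨gg, hgg⟩ ∈ U ⊔ Z := by
        have := mul_mem (Subgroup.mem_sup_left (T := Z) (Subgroup.mem_zpowers (π g)))
          (hTle (g⁻¹ * ⟨gg, hgg⟩) hg₀T)
        rwa [← map_mul, mul_inv_cancel_left] at this
      refine ⟨⟨gg, hgg⟩ * ⟨s, (X.dih i).T_le hs⟩ * ⟨gg, hgg⟩⁻¹, ?_, rfl⟩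
      show π _ ∈ U ⊔ Z
      rw [map_mul, map_mul, map_inv]
      exact mul_mem (mul_mem hgg' hs') (inv_mem hgg')
    obtain ⟨m', hm', e⟩ := hle m.2
    rwa [show m = m' from Subtype.ext e.symm]
  have hgC : g ∉ C := by
    intro h
    obtain ⟨a, ha, z, hz, hne⟩ := hX.nc i
    have hU1 : U = ⊥ := by rw [hU, hker.2 h, Subgroup.zpowers_one_eq_bot]
    have hzQ : (⟨z, hQP (hX.Z_le i hz)⟩ : X.P i) ∈ Q' := Subgroup.mem_subgroupOf.2 (hX.Z_le i hz)
    obtain ⟨k, hk⟩ := Subgroup.mem_zpowers_iff.1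
      (show π ⟨a, ha⟩ ∈ Z by have := htop ⟨a, ha⟩; rwa [hU1, bot_sup_eq] at this)
    have h1 : (t ^ k)⁻¹ * (⟨a, ha⟩ : X.P i) ∈ C := hker.1 (by
      rw [map_mul, map_inv, map_zpow, hk, inv_mul_cancel])
    have h2 : ((t ^ k : X.P i) : G) ∈ X.T := by
      rw [Subgroup.coe_zpow]
      exact zpow_mem hvT k
    have h3 := congrArg Subtype.val (Subgroup.mem_centralizer_iff.1 h1 _ hzQ)
    simp only [Subgroup.coe_mul, Subgroup.coe_inv] at h3
    refine hne ?_
    calc a * z = ((t ^ k : X.P i) : G) * ((((t ^ k : X.P i) : G))⁻¹ * a * z) := by group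
      _ = ((t ^ k : X.P i) : G) * (z * (((t ^ k : X.P i) : G)⁻¹ * a)) := by rw [h3]
      _ = (((t ^ k : X.P i) : G) * z) * (((t ^ k : X.P i) : G)⁻¹ * a) := by group
      _ = _ := by rw [hz.2.2 _ h2]; group
  -- the rotation has order three modulo the centralizer
  have hg3 : π g ^ 3 = 1 := by
    haveI : (Q'.map (QuotientGroup.mk' E')).Normal := hQn.map _ (QuotientGroup.mk'_surjective _)
    set QE := Q'.map (QuotientGroup.mk' E') with hQE
    let tp : MulAut QE →* Equiv.Perm QE :=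
      { toFun := fun e => e.toEquiv
        map_one' := rfl
        map_mul' := fun _ _ => rfl }
    have hcard : Nat.card QE = 4 := by
      have h1 : Nat.card QE * Nat.card E' = Nat.card Q' := by
        have hmem : ∀ q : X.P i, (q : G) ∈ E → (q : G) ∈ X.Q i := fun q h => hEQ h
        set f := (QuotientGroup.mk' E').comp Q'.subtype with hf
        have hk : f.ker = E'.subgroupOf Q' := by
          ext q
          rw [hf, MonoidHom.mem_ker, MonoidHom.comp_apply, Subgroup.mem_subgroupOf]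
          exact QuotientGroup.eq_one_iff _
        have hr : f.range = QE := by
          rw [hf, MonoidHom.range_eq_map, ← Subgroup.map_map, ← MonoidHom.range_eq_map, Subgroup.range_subtype]
        have h2 := f.ker.index_mul_card
        rw [Subgroup.index_ker, hr, hk] at h2
        rwa [Nat.card_congr (Subgroup.subgroupOfEquivOfLe
          (show E' ≤ Q' from fun q hq => Subgroup.mem_subgroupOf.2 (hmem q (Subgroup.mem_subgroupOf.1 hq)))).toEquiv] at h2
      rw [hcQ, hQ, hD, hcE, ← mul_assoc] at h1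
      exact Nat.eq_of_mul_eq_mul_right Nat.card_pos h1
    set φ : X.P i ⧸ E' →* Equiv.Perm QE := tp.comp MulAut.conjNormal with hφ
    set σ := φ (QuotientGroup.mk' E' g) with hσ
    have hσN : σ ^ N = 1 := by
      rw [hσ, ← map_pow, ← map_pow]
      ext ⟨q, hq⟩
      obtain ⟨p, hp, rfl⟩ := hq
      show QuotientGroup.mk' E' (g ^ N) * QuotientGroup.mk' E' p * (QuotientGroup.mk' E' (g ^ N))⁻¹ = _
      rw [← map_inv, ← map_mul, ← map_mul, hQcomm _ hgNQ p hp, mul_inv_cancel_right]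
      rfl
    have h24 : orderOf σ ∣ 2 ^ 3 * 3 := by
      have := orderOf_dvd_natCard σ
      rwa [Nat.card_perm, hcard] at this
    have hodd : Odd (orderOf σ) := hN.of_dvd_nat (orderOf_dvd_of_pow_eq_one hσN)
    have hσ3 : σ ^ 3 = 1 := orderOf_dvd_iff_pow_eq_one.1
      ((Nat.Coprime.pow_right 3 (Nat.coprime_two_right.2 hodd)).dvd_of_dvd_mul_left h24)
    have hmove : ∀ q ∈ Q', g ^ 3 * q * (g ^ 3)⁻¹ * q⁻¹ ∈ E' := by
      intro q hq
      rw [hσ, ← map_pow, ← map_pow] at hσ3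
      have h : QuotientGroup.mk' E' (g ^ 3) * QuotientGroup.mk' E' q * (QuotientGroup.mk' E' (g ^ 3))⁻¹ =
          QuotientGroup.mk' E' q := congrArg Subtype.val
        (congrArg (fun (p : Equiv.Perm QE) => p ⟨_, q, hq, rfl⟩) hσ3)
      rw [← map_inv, ← map_mul, ← map_mul] at h
      refine (QuotientGroup.eq_one_iff _).1 ?_
      show QuotientGroup.mk' E' (g ^ 3 * q * (g ^ 3)⁻¹ * q⁻¹) = 1
      rw [map_mul, h, ← map_mul, mul_inv_cancel, map_one]
    have hg6 : g ^ 6 ∈ C := by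
      refine Subgroup.mem_centralizer_iff.2 fun q hq => ?_
      have he := hmove q hq
      set e := g ^ 3 * q * (g ^ 3)⁻¹ * q⁻¹ with hedef
      have hee : e * e = 1 := hQsq e (Subgroup.mem_subgroupOf.2 (hEQ (Subgroup.mem_subgroupOf.1 he)))
      have h6 : g ^ 6 * q = q * g ^ 6 := by
        calc g ^ 6 * q = g ^ 3 * (g ^ 3 * q * (g ^ 3)⁻¹ * q⁻¹) * q * g ^ 3 := by group
          _ = (g ^ 3 * e) * (q * g ^ 3) := by rw [← hedef]; group
          _ = (e * g ^ 3) * (q * g ^ 3) := by rw [hEc e he (g ^ 3)]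
          _ = e * (g ^ 3 * q * (g ^ 3)⁻¹ * q⁻¹) * q * (g ^ 3 * g ^ 3) := by group
          _ = q * g ^ 6 := by rw [← hedef, hee]; group
      exact h6.symm
    have h6 : orderOf (π g) ∣ 2 * 3 := orderOf_dvd_of_pow_eq_one (by rw [← map_pow]; exact hker.2 hg6)
    have hodd' : Odd (orderOf (π g)) := hN.of_dvd_nat
      (orderOf_dvd_of_pow_eq_one (by rw [← map_pow]; exact hker.2 (hQC hgNQ)))
    exact orderOf_dvd_iff_pow_eq_one.1 ((Nat.coprime_two_right.2 hodd').dvd_of_dvd_mul_left h6)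
  haveI : Fact (Nat.Prime 3) := ⟨Nat.prime_three⟩
  have hog : orderOf (π g) = 3 := orderOf_eq_prime hg3 fun h => hgC (hker.1 h)
  have hot : orderOf (π t) = 2 := orderOf_eq_prime (by rw [pow_two, ← map_mul, ht, map_one]) fun h => htC (hker.1 h)
  have hindex : Nat.card (X.P i ⧸ C) = 6 := by
    refine le_antisymm ?_ (Nat.le_of_dvd Nat.card_pos (Nat.Coprime.mul_dvd_of_dvd_of_dvd (m := 2) (n := 3)
      (by norm_num) (hot ▸ orderOf_dvd_natCard _) (hog ▸ orderOf_dvd_natCard _)))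
    have hU3 : Nat.card U = 3 := by rw [hU, Nat.card_zpowers, hog]
    have hZ2 : Nat.card Z = 2 := by rw [hZ, Nat.card_zpowers, hot]
    have hsurj : Function.Surjective (fun p : U × Z => (p.1 : X.P i ⧸ C) * p.2) := by
      intro a
      obtain ⟨m, rfl⟩ := QuotientGroup.mk'_surjective C a
      obtain ⟨p, hp, q, hq, e⟩ := mem_sup_split hZU (htop m)
      exact ⟨(⟨p, hp⟩, ⟨q, hq⟩), e⟩
    have := Nat.card_le_card_of_surjective _ hsurj
    rwa [Nat.card_prod, hU3, hZ2] at this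
  -- the complement in the centralizer
  obtain ⟨m, hm⟩ := Subgroup.card_dvd_of_le hQC
  have hPC : Nat.card (X.P i) = 6 * Nat.card C := by
    rw [Subgroup.card_eq_card_quotient_mul_card_subgroup C, hindex]
  have hmodd : Odd m := by
    have hodd : Odd (X.T.subgroupOf (X.P i)).index := by
      rw [Nat.odd_iff]
      have := T_index_odd hX hV i
      omega
    have h1 := (X.T.subgroupOf (X.P i)).card_mul_index
    rw [Nat.card_congr (Subgroup.subgroupOfEquivOfLe (X.dih i).T_le).toEquiv, hT, hPC, hm, ← hcQ] at h1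
    have h2 : (X.T.subgroupOf (X.P i)).index = 3 * m := by
      refine Nat.eq_of_mul_eq_mul_left (show 0 < 2 * Nat.card Q' from Nat.mul_pos two_pos Nat.card_pos) ?_
      rw [h1]; ring
    rw [h2] at hodd
    exact (Nat.odd_mul.1 hodd).2
  set QC := Q'.subgroupOf C with hQC'
  haveI : QC.Normal := hQn.subgroupOf C
  have hcQC : Nat.card QC = Nat.card Q' := Nat.card_congr (Subgroup.subgroupOfEquivOfLe hQC).toEquiv
  obtain ⟨n, hn⟩ := (X.pgroup.to_le hQT).exists_card_eq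
  have hidx : QC.index = m := by
    have h1 := QC.card_mul_index
    rw [hcQC, hm] at h1
    exact Nat.eq_of_mul_eq_mul_left Nat.card_pos h1
  obtain ⟨K, hK⟩ := Subgroup.exists_right_complement'_of_coprime (N := QC) (by
    rw [hcQC, hcQ, hn, hidx]
    exact Nat.Coprime.pow_left n ((Nat.coprime_two_left).2 hmodd))
  have hKc : Nat.card K = m := hK.symm.index_eq_card.symm.trans hidx
  have hpow : ∀ k : C, k ∈ K → k ^ m = 1 := fun k hk => by
    have := pow_card_eq_one' (x := (⟨k, hk⟩ : K))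
    rw [hKc] at this
    exact congrArg Subtype.val this
  have hmem : ∀ x : C, ∀ r, Odd r → x ^ r = 1 → x ∈ K := by
    intro x r hr hx
    obtain ⟨⟨⟨q, hq⟩, ⟨k, hk⟩⟩, e⟩ := hK.2 x
    change q * k = x at e
    have hqk : Commute q k := Subtype.ext (Subgroup.mem_centralizer_iff.1 k.2 _ hq)
    have hq2 : q ^ 2 = 1 := Subtype.ext (by rw [pow_two]; exact hQsq _ hq)
    have h1 : q ^ (r * m) = 1 := by
      have : (q * k) ^ (r * m) = x ^ (r * m) := by rw [e]
      rw [hqk.mul_pow, pow_mul x, hx, one_pow, mul_comm r m, pow_mul k, hpow k hk, one_pow, mul_one,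
        mul_comm m r] at this
      exact this
    obtain ⟨j, hj⟩ := hr.mul hmodd
    rw [hj, pow_succ, pow_mul, hq2, one_pow, one_mul] at h1
    rw [← e, h1, one_mul]
    exact hk
  set K₀ := K.map C.subtype with hK₀
  haveI hK₀n : K₀.Normal := ⟨by
    rintro _ ⟨k, hk, rfl⟩ a
    refine ⟨⟨a * k * a⁻¹, hCn.conj_mem _ k.2 a⟩, hmem _ m hmodd (Subtype.ext ?_), rfl⟩
    show (a * (k : X.P i) * a⁻¹) ^ m = 1
    rw [conj_pow, ← Subgroup.coe_pow, hpow k hk, Subgroup.coe_one, mul_one, mul_inv_cancel]⟩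
  have hK₀c : Nat.card K₀ = m := by
    rw [hK₀, Nat.card_congr (K.equivMapOfInjective C.subtype C.subtype_injective).toEquiv.symm, hKc]
  have hQK : ∀ q, q ∈ Q' → q ∈ K₀ → q = 1 := by
    intro q hq hqK
    have h2 : orderOf q ∣ 2 := orderOf_dvd_of_pow_eq_one (by rw [pow_two]; exact hQsq q hq)
    have h3 : orderOf q ∣ m := hK₀c ▸ K₀.orderOf_dvd_natCard hqK
    exact orderOf_eq_one_iff.1 (Nat.eq_one_of_dvd_coprimes (Nat.coprime_two_left.2 hmodd) h2 h3)
  have hcore : oddCore ↥(X.P i) = K₀ := by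
    refine le_antisymm (sSup_le ?_) (le_sSup ⟨hK₀n, by rw [hK₀c]; exact Nat.coprime_two_right.2 hmodd⟩)
    rintro N' ⟨hN'n, hN'c⟩ x hx
    have hodd : Odd (Nat.card N') := Nat.coprime_two_right.1 hN'c
    have hxC : x ∈ C := Subgroup.mem_centralizer_iff.2 fun q hq => by
      have h1 : q * x * q⁻¹ * x⁻¹ ∈ N' := mul_mem (hN'n.conj_mem x hx q) (inv_mem hx)
      have h2 : q * x * q⁻¹ * x⁻¹ ∈ Q' := by
        rw [show q * x * q⁻¹ * x⁻¹ = q * (x * q⁻¹ * x⁻¹) by group]
        exact mul_mem hq (hQn.conj_mem _ (inv_mem hq) x)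
      have h3 : orderOf (q * x * q⁻¹ * x⁻¹) ∣ 2 := orderOf_dvd_of_pow_eq_one (by rw [pow_two]; exact hQsq _ h2)
      have h4 := N'.orderOf_dvd_natCard h1
      have h5 : q * x * q⁻¹ * x⁻¹ = 1 :=
        orderOf_eq_one_iff.1 (Nat.eq_one_of_dvd_coprimes (Nat.coprime_two_left.2 hodd) h3 h4)
      calc q * x = q * x * q⁻¹ * x⁻¹ * (x * q) := by group
        _ = x * q := by rw [h5, one_mul]
    have hx1 : x ^ Nat.card N' = 1 := congrArg Subtype.val (pow_card_eq_one' (x := (⟨x, hx⟩ : N')))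
    exact ⟨⟨x, hxC⟩, hmem _ _ hodd (Subtype.ext hx1), rfl⟩
  -- the quotient
  set κ := QuotientGroup.mk' K₀ with hκ
  have hinj : Function.Injective (κ.comp Q'.subtype) := by
    rw [← MonoidHom.ker_eq_bot_iff, Subgroup.eq_bot_iff_forall]
    exact fun q hq => Subtype.ext (hQK q q.2 ((QuotientGroup.eq_one_iff (q : X.P i)).1 hq))
  have hmapc : ∀ H : Subgroup (X.P i), H ≤ Q' → Nat.card (H.map κ) = Nat.card H := by
    intro H hH
    refine (Nat.card_eq_of_bijective (fun h : H => (⟨κ h, h, h.2, rfl⟩ : H.map κ)) ⟨?_, ?_⟩).symm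
    · intro a b e
      have e' : (κ.comp Q'.subtype) ⟨a, hH a.2⟩ = (κ.comp Q'.subtype) ⟨b, hH b.2⟩ := congrArg Subtype.val e
      exact Subtype.ext (congrArg (fun z : Q' => (z : X.P i)) (hinj e'))
    · rintro ⟨_, h, hh, rfl⟩
      exact ⟨⟨h, hh⟩, rfl⟩
  have hE'Q : E' ≤ Q' := fun e he => Subgroup.mem_subgroupOf.2 (hEQ (Subgroup.mem_subgroupOf.1 he))
  haveI : (Q'.map κ).Normal := hQn.map κ (QuotientGroup.mk'_surjective _)
  have hKC : ∀ x, x ∈ K₀ → x ∈ C := by
    rintro _ ⟨k, -, rfl⟩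
    exact k.2
  have hback : ∀ x, κ x ∈ Q'.map κ → x ∈ C := by
    rintro x ⟨q, hq, e⟩
    have := mul_mem (hQC hq) (hKC _ (QuotientGroup.eq.1 e))
    rwa [mul_inv_cancel_left] at this
  have key := recognize (Q'.map κ) (E'.map κ)
    (by rintro _ ⟨q, hq, rfl⟩; rw [← map_mul, hQsq q hq, map_one])
    (Subgroup.map_mono hE'Q)
    (by
      rintro _ ⟨e, he, rfl⟩ x
      obtain ⟨x, rfl⟩ := QuotientGroup.mk'_surjective K₀ x
      rw [← map_mul, ← map_mul, hEc e he x])
    (by rw [hmapc _ le_rfl, hmapc _ hE'Q, hcQ, hcE, hQ, hD]; ring)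
    (by
      have h1 := Subgroup.card_eq_card_quotient_mul_card_subgroup K₀
      rw [hPC, hm, hK₀c, ← mul_assoc] at h1
      rw [hmapc _ le_rfl]
      exact (Nat.eq_of_mul_eq_mul_right (hmodd.pos) h1).symm)
    (fun x hx => by
      obtain ⟨x, rfl⟩ := QuotientGroup.mk'_surjective K₀ x
      have hxC : x ∈ C := by
        refine Subgroup.mem_centralizer_iff.2 fun q hq => ?_
        have h1 := hx _ ⟨q, hq, rfl⟩
        rw [← map_mul, ← map_mul] at h1
        have h2 : x * q * x⁻¹ * q⁻¹ ∈ K₀ := (QuotientGroup.eq_one_iff _).1 (by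
          show κ (x * q * x⁻¹ * q⁻¹) = 1
          rw [map_mul, map_mul, h1, ← map_mul, ← map_mul, show q * x * x⁻¹ * q⁻¹ = 1 by group, map_one])
        have h3 : x * q * x⁻¹ * q⁻¹ ∈ Q' := mul_mem (hQn.conj_mem q hq x) (inv_mem hq)
        calc q * x = 1 * (q * x) := (one_mul _).symm
          _ = x * q := by rw [← hQK _ h3 h2]; group
      obtain ⟨⟨⟨q, hq⟩, ⟨k, hk⟩⟩, e⟩ := hK.2 ⟨x, hxC⟩
      change q * k = (⟨x, hxC⟩ : C) at e
      refine ⟨q, hq, ?_⟩
      have e' : (q : X.P i) * k = x := congrArg Subtype.val e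
      rw [← e', map_mul, show κ k = 1 from (QuotientGroup.eq_one_iff _).2 ⟨k, hk, rfl⟩, mul_one])
    (t := κ t) (g := κ g) (fun h => htC (hback t h)) (by rw [← map_mul, ht, map_one])
    (fun h => hgC (hback g h)) hN (by rw [← map_pow]; exact ⟨_, hgNQ, rfl⟩)
    (by rw [← map_inv, ← map_mul, ← map_mul, ← map_mul]; exact ⟨_, htg, rfl⟩)
  rw [hmapc _ hE'Q, hcE] at key
  constructor
  · intro h8
    obtain ⟨e⟩ := key.1 (by omega)
    exact ⟨(QuotientGroup.quotientMulEquivOfEq hcore).trans e⟩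
  · intro h16
    obtain ⟨e⟩ := key.2 (by omega)
    exact ⟨(QuotientGroup.quotientMulEquivOfEq hcore).trans e⟩

end Data

end Cfsg.Agent.Solv.Amalgam
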