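import Mathlib
import Cfsg.Agent.Lib.Solv.Amalgam.Edge

/-!
# Both kinds are central at distance at least two, for edge groups of index three
-/

set_option autoImplicit false
set_option linter.style.haveILetI false

namespace Cfsg.Agent.Solv.Amalgam

universe u

variable {G : Type u} [Group G]

namespace Data

variable (X : Data G)

/-- The edge group has index three on both sides. -/
def Three : Prop := ∀ i, X.T.relIndex (X.P i) = 3

variable {X} (h3 : X.Three)
include h3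

theorem Tv_relIndex {v d : X.Vtx} (h : X.Adj d v) : (X.Tv d v).relIndex (X.St d) = 3 := by
  obtain ⟨g, i, rfl, rfl⟩ := h
  rw [Tv_vtx, St_vtx, cnj, cnj,
    Subgroup.relIndex_map_map_of_injective _ _ (MulAut.conj g).injective]
  exact h3 i

/-- Two different edge groups at a vertex generate the stabiliser. -/
theorem Tv_gen {v d : X.Vtx} (h : X.Adj d v) {q : G} (hq : q ∈ X.St d) (hqT : q ∉ X.Tv d v) {H : Subgroup G}
    (hT : X.Tv d v ≤ H) (hqH : q ∈ H) : X.St d ≤ H := by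
  have h1 := Subgroup.relIndex_mul_relIndex (X.Tv d v) (H ⊓ X.St d) (X.St d) (le_inf hT inf_le_left)
    inf_le_right
  rw [Tv_relIndex h3 h] at h1
  rcases (Nat.dvd_prime Nat.prime_three).1 (Dvd.intro _ h1) with e | e
  · exact absurd ((Subgroup.relIndex_eq_one.1 e) ⟨hqH, hq⟩) hqT
  · rw [e] at h1
    have h2 : (H ⊓ X.St d).relIndex (X.St d) = 1 := by omega
    exact (Subgroup.relIndex_eq_one.1 h2).trans inf_le_left

omit h3 in
/-- An element moving the edge group of one neighbour lies in the edge group of no other. -/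
theorem eq_of_fix {α v d : X.Vtx} (hα : X.Adj d α) (hv : X.Adj d v) {q : G} (hq : q ∈ X.Tv d α)
    (hqd : q ∉ X.Qv d) (hqv : q ∈ X.Tv d v) : v = α := by
  obtain ⟨h, hh, rfl⟩ := exists_act_nbr hα hv
  obtain ⟨g, i, rfl, rfl⟩ := hα
  have hle : X.Tv (X.vtx i g) (X.vtx (!i) g) ≤ X.Tv (X.vtx i g) (X.act h (X.vtx (!i) g)) := by
    refine Tv_le_of_mem ⟨g, i, rfl, rfl⟩ (Qv_le_Tv hv) hq hqd hqv
  have hh' : g⁻¹ * h * g ∈ X.P i := by rwa [St_vtx, mem_cnj] at hh
  have hT : g⁻¹ * h * g ∈ X.T := by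
    have hinv := (X.dih i).self _ (inv_mem hh') fun t ht => by
      have h1 := hle (show g * t * g⁻¹ ∈ X.Tv (X.vtx i g) (X.vtx (!i) g) by rw [Tv_vtx]; exact cnj_conj_mem.2 ht)
      have e : X.Tv (X.vtx i g) (X.act h (X.vtx (!i) g)) = cnj h (X.Tv (X.vtx i g) (X.vtx (!i) g)) := by
        rw [← Tv_act, mem_St_iff.1 hh]
      rw [e, Tv_vtx, cnj_cnj, mem_cnj] at h1
      convert h1 using 1
      group
    simpa [mul_assoc] using inv_mem hinv
  refine mem_St_iff.1 ((show X.Tv (X.vtx i g) (X.vtx (!i) g) ≤ X.St (X.vtx (!i) g) from inf_le_right) ?_)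
  rw [Tv_vtx, mem_cnj]
  exact hT

variable (hX : X.Noncentral) {b : ℕ} (hb : X.Near b)
include hX hb

/-- If the other kind is not central, the start of a critical walk is impossible. -/
theorem no_gap {f : ℕ → X.Vtx} (hb2 : 2 ≤ b) (hf : X.Crit b f) (hB : ¬ X.Cen (!(f 0).1)) : False := by
  have hadj : X.Adj (f 0) (f 1) := hf.1 0 (by omega)
  have hlast : X.Adj (f b) (f (b - 1)) := by
    have := hf.1 (b - 1) (by omega)
    rw [show b - 1 + 1 = b by omega] at this
    exact adj_symm this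
  have hprev : X.Adj (f (b - 2)) (f (b - 1)) := by
    have := hf.1 (b - 2) (by omega)
    rwa [show b - 2 + 1 = b - 1 by omega] at this
  have hne : ∀ i : Bool, i ≠ (f 0).1 → i = !(f 0).1 := fun i h => by
    revert h; cases i <;> cases (f 0).1 <;> simp
  have htb : (f b).1 = (f 0).1 := by
    by_contra h
    have h1 := cen_start hX hb hb2 (crit_symm hX hb (by omega) hf)
    simp only [Nat.sub_zero] at h1
    rw [hne _ h] at h1
    exact hB h1
  have htw : (f (b - 2)).1 = (f 0).1 := by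
    have e1 := adj_type hprev
    have e2 := adj_type hlast
    rw [e1, htb] at e2
    exact Bool.not_inj e2
  obtain ⟨x, hx, hxT, hxQ⟩ := exists_x hX hb (by omega) hf
  obtain ⟨c, -, hc, hc'⟩ := crit_R hX hb (by omega) hf
  have hcZ : c ∈ X.Zv (f 0) := Rv_le hX hadj ((hc c).2 (Or.inr rfl))
  obtain ⟨d, hd, hgen⟩ := exists_generic hadj
  have hI : X.Zv d ≤ X.Qv (f (b - 1)) := by
    by_contra hI
    have hg : X.Crit b (X.cons d f) := ⟨walk_le (walk_cons (adj_symm hd) hf.1) (by omega), by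
      rw [show b = (b - 1) + 1 by omega]; exact hI⟩
    have h1 : X.Cen d.1 := cen_start hX hb hb2 hg
    rw [adj_type hd] at h1
    exact hB h1
  have hxβ : x ∈ X.Qv (f 1) := by
    have h1 := hb (fun k => f (b - k)) (b - 1) (by omega) (walk_le (walk_rev hf.1) (by omega))
    simp only [Nat.sub_zero, show b - (b - 1) = 1 by omega] at h1
    exact h1 hx
  -- moving by the transvection
  have hmove : ∀ z ∈ X.Qv (f (b - 1)), x⁻¹ * z * x⁻¹⁻¹ * z⁻¹ ∈ X.Zv (f 0) := by
    intro z hz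
    have h1 : x⁻¹ * z * x⁻¹⁻¹ * z⁻¹ ∈ X.Rv (f b) (f (b - 1)) := Subgroup.subset_closure
      ⟨x⁻¹, inv_mem hx, z, by rw [Tv_comm]; exact Qv_le_Tv (adj_symm hlast) hz, rfl⟩
    rcases (hc' _).1 h1 with e | e <;> rw [e]
    · exact one_mem _
    · exact hcZ
  have hcm : ∀ {e z : G}, e ∈ X.Qv (f 0) → z ∈ X.Qv (f (b - 1)) → e * z = z * e →
      x * e * x⁻¹ * z = z * (x * e * x⁻¹) := by
    intro e z he hz hez
    have h1 : e * (x⁻¹ * z * x) = x⁻¹ * z * x * e := by
      have e' : x⁻¹ * z * x = (x⁻¹ * z * x⁻¹⁻¹ * z⁻¹) * z := by group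
      rw [e']
      exact Commute.mul_right (Zv_central hX (hmove z hz) he) hez
    calc x * e * x⁻¹ * z = x * (e * (x⁻¹ * z * x)) * x⁻¹ := by group
      _ = x * (x⁻¹ * z * x * e) * x⁻¹ := by rw [h1]
      _ = _ := by group
  -- the intersection is normal
  haveI := X.St_finite (f 0)
  set D := X.Qv (f 0) ⊓ X.Qv d with hDdef
  haveI : Finite D := Finite.of_injective _
    (Subgroup.inclusion_injective (show D ≤ X.St (f 0) from inf_le_left.trans ((Qv_le_Tv hd).trans inf_le_left)))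
  have hxn : x ∈ Subgroup.normalizer (D : Set G) := by
    refine mem_normalizer_of_finite fun e he => ?_
    have h1 : x * e * x⁻¹ ∈ X.Qv (f 0) := Qv_normal hxT.1 he.1
    exact ⟨h1, Tv_cent hX (adj_symm hd) ((Tv_comm (f 0) d) ▸ Qv_le_Tv hd h1) fun z hz =>
      hcm he.1 (hI hz) (Zv_central hX hz he.2)⟩
  have hTn : X.Tv (f 0) d ≤ Subgroup.normalizer (D : Set G) := fun t ht =>
    mem_normalizer_of_finite fun e he => ⟨Qv_normal ht.1 he.1, Qv_normal ht.2 he.2⟩
  have hStn := St_le_of_generic hadj hd hgen hxT hxQ hxn hTn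
  have hall : ∀ u, X.Adj (f 0) u → X.Qv (f 0) ⊓ X.Qv u = D := by
    intro u hu
    obtain ⟨h, hh, rfl⟩ := exists_act_nbr hd hu
    calc X.Qv (f 0) ⊓ X.Qv (X.act h d) = cnj h D := by
          rw [hDdef, cnj_inf, ← Qv_act, ← Qv_act, mem_St_iff.1 hh]
      _ = D := cnj_eq_of_mem_normalizer (hStn hh)
  have hprop : ∀ w u u', X.Adj w u → X.Adj w u' → w.1 = (f 0).1 → X.Qv w ⊓ X.Qv u ≤ X.Qv u' := by
    intro w u u' hu hu' ht
    obtain ⟨g, rfl, rfl⟩ := exists_act_edge hd hu ht.symm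
    obtain ⟨a, ha, rfl⟩ := exists_act_nbr hu hu'
    intro e he
    have h1 : g⁻¹ * e * g ∈ X.Qv (X.act (g⁻¹ * a * g) d) := by
      have hadj' : X.Adj (f 0) (X.act (g⁻¹ * a * g) d) := by
        have h2 := adj_act hu' g⁻¹
        rwa [act_act, act_act, act_act, inv_mul_cancel, act_one] at h2
      have := hall _ hadj'
      rw [Qv_act, Qv_act] at he
      have h3 : g⁻¹ * e * g ∈ D := ⟨mem_cnj.1 he.1, mem_cnj.1 he.2⟩
      rw [← this] at h3
      exact h3.2
    rw [Qv_act, mem_cnj] at h1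
    rw [act_act, Qv_act, mem_cnj]
    convert h1 using 1
    group
  -- an element of the core moving the other neighbours
  obtain ⟨q, hq, hqd⟩ := SetLike.not_le_iff_exists.1 (Qv_not_le hd)
  have hqT : q ∈ X.Tv d (f 0) := (Tv_comm (f 0) d) ▸ Qv_le_Tv hd hq
  have hcrit : ∀ v, X.Adj v d → ¬ X.Zv v ≤ X.Qv (f (b - 1)) → X.Crit b (X.cons v (X.cons d f)) := by
    intro v hv hn
    refine ⟨walk_le (walk_cons hv (walk_cons (adj_symm hd) hf.1)) (by omega), fun hle => hn fun z hz => ?_⟩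
    have h1 := hle hz
    rw [show b = (b - 2) + 1 + 1 by omega] at h1
    change z ∈ X.Qv (f (b - 2)) at h1
    rcases Nat.lt_or_ge b 3 with h | h
    · obtain rfl : b = 2 := by omega
      exact hprop (f 0) d (f 1) hd hadj rfl ⟨h1, hb (X.cons v fun _ => d) 1 (by omega) (fun k hk => by
        obtain rfl : k = 0 := by omega
        exact hv) hz⟩
    · have hu : X.Adj (f (b - 2)) (f (b - 3)) := by
        have := hf.1 (b - 3) (by omega)
        rw [show b - 3 + 1 = b - 2 by omega] at this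
        exact adj_symm this
      refine hprop _ _ _ hu hprev htw ⟨h1, ?_⟩
      have h2 := hb (X.cons v (X.cons d f)) (b - 1) (by omega)
        (walk_le (walk_cons hv (walk_cons (adj_symm hd) hf.1)) (by omega)) hz
      rw [show b - 1 = (b - 3) + 1 + 1 by omega] at h2
      exact h2
  have hpair : ∀ v, X.Adj v d → v = f 0 ∨ X.Zv v ≤ X.Qv (f (b - 1)) ∨
      X.Zv (X.act q⁻¹ v) ≤ X.Qv (f (b - 1)) := by
    intro v hv
    by_contra hcon
    push Not at hcon
    obtain ⟨hvα, h1, h2⟩ := hcon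
    have hv' : X.Adj (X.act q⁻¹ v) d := by
      have := adj_act hv q⁻¹
      rwa [mem_St_iff.1 (inv_mem hqT.1)] at this
    have hg1 := hcrit v hv h1
    have hg2 := hcrit _ hv' h2
    obtain ⟨c1, -, hc1, hc1'⟩ := crit_R hX hb (by omega) hg1
    obtain ⟨c2, -, hc2, hc2'⟩ := crit_R hX hb (by omega) hg2
    have hend : ∀ v' : X.Vtx, X.cons v' (X.cons d f) b = f (b - 2) := fun v' => by
      conv_lhs => rw [show b = (b - 2) + 1 + 1 by omega]
      rfl
    have hend' : X.cons v (X.cons d f) (b - 1) = X.cons (X.act q⁻¹ v) (X.cons d f) (b - 1) := by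
      rcases Nat.lt_or_ge b 3 with h | h
      · rw [show b - 1 = 1 by omega]; rfl
      · rw [show b - 1 = (b - 3) + 1 + 1 by omega]; rfl
    rw [hend, hend'] at hc1'
    rw [hend] at hc2'
    change ∀ r, r ∈ X.Rv v d ↔ _ at hc1
    change ∀ r, r ∈ X.Rv (X.act q⁻¹ v) d ↔ _ at hc2
    have hsame : X.Rv v d = X.Rv (X.act q⁻¹ v) d := by
      ext r
      rw [hc1, ← hc1', hc2', ← hc2]
    have hqfix : ∀ r ∈ X.Rv v d, q * r = r * q := by
      intro r hr
      have hq1 : q * r * q⁻¹ ∈ X.Rv v d := by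
        have : X.Rv v d = cnj q (X.Rv (X.act q⁻¹ v) d) := by
          rw [← Rv_act, act_act, mul_inv_cancel, act_one, mem_St_iff.1 hqT.1]
        rw [this]
        exact cnj_conj_mem.2 (hsame ▸ hr)
      rcases (hc1 r).1 hr with e | e
      · rw [e, mul_one, one_mul]
      rcases (hc1 _).1 hq1 with e' | e'
      · rw [show r = 1 from conj_eq_one_iff.1 e', mul_one, one_mul]
      · rw [← e] at e'
        exact mul_inv_eq_iff_eq_mul.1 e'
    refine hB ?_
    rw [← adj_type hd]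
    refine cen_of_edge (adj_symm hv) fun r hr a ha => ?_
    have hqv : q ∉ X.Tv d v := fun h => hvα (eq_of_fix (adj_symm hd) (adj_symm hv) hqT hqd h)
    exact Subgroup.mem_centralizer_singleton_iff.1 (Tv_gen h3 (adj_symm hv) hqT.1 hqv
      (fun t ht => Subgroup.mem_centralizer_singleton_iff.2 (Rv_T hX hv hr ((Tv_comm d v) ▸ ht)))
      (Subgroup.mem_centralizer_singleton_iff.2 (hqfix r hr)) ha)
  -- the part in all cores around
  let E : Subgroup G :=
    { carrier := {e | e ∈ X.Qv d ∧ ∀ v, X.Adj v d → e ∈ X.Qv v}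
      one_mem' := ⟨one_mem _, fun v _ => one_mem _⟩
      mul_mem' := fun {a a'} ha ha' => ⟨mul_mem ha.1 ha'.1, fun v hv => mul_mem (ha.2 v hv) (ha'.2 v hv)⟩
      inv_mem' := fun {a} ha => ⟨inv_mem ha.1, fun v hv => inv_mem (ha.2 v hv)⟩ }
  have hEd : ∀ a ∈ X.St d, ∀ e ∈ E, a * e * a⁻¹ ∈ E := by
    intro a ha e he
    refine ⟨Qv_normal ha he.1, fun v hv => ?_⟩
    have h1 := he.2 _ (adj_act_of_mem hv (inv_mem ha))
    rwa [Qv_act, mem_cnj, inv_inv] at h1
  have hED : E ≤ D := fun e he => ⟨he.2 _ hd, he.1⟩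
  have hkey : ∀ e ∈ D, (∀ v, X.Adj v d → X.Zv v ≤ X.Qv (f (b - 1)) → ∀ z ∈ X.Zv v, e * z = z * e) →
      (∀ v, X.Adj v d → X.Zv v ≤ X.Qv (f (b - 1)) → ∀ z ∈ X.Zv v, q⁻¹ * e * q * z = z * (q⁻¹ * e * q)) →
      e ∈ E := by
    intro e he h1 h2
    refine ⟨he.2, fun v hv => ?_⟩
    have hmem : ∀ {e'}, e' ∈ X.Qv d → ∀ w, X.Adj w d → (∀ z ∈ X.Zv w, e' * z = z * e') → e' ∈ X.Qv w :=
      fun he' w hw hz => Tv_cent hX hw ((Tv_comm d w) ▸ Qv_le_Tv (adj_symm hw) he') hz
    rcases hpair v hv with rfl | hle | hle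
    · exact he.1
    · exact hmem he.2 v hv (h1 v hv hle)
    · have hv' : X.Adj (X.act q⁻¹ v) d := adj_act_of_mem hv (inv_mem hqT.1)
      have he' : q⁻¹ * e * q ∈ X.Qv d := by
        have := Qv_normal (inv_mem hqT.1) he.2
        rwa [inv_inv] at this
      have h3' := hmem he' _ hv' (h2 _ hv' hle)
      rw [Qv_act, mem_cnj, inv_inv] at h3'
      convert h3' using 1
      group
  have hδ : q⁻¹ * x⁻¹ * q * x ∈ D := by
    rw [← hall (f 1) hadj]
    refine Subgroup.mem_inf.2 ⟨?_, ?_⟩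
    · have h1 := Qv_normal (inv_mem hxT.1) hq
      rw [inv_inv] at h1
      rw [show q⁻¹ * x⁻¹ * q * x = q⁻¹ * (x⁻¹ * q * x) by group]
      exact mul_mem (inv_mem hq) h1
    · have h1 := Qv_normal (inv_mem (Qv_le_St_nbr hadj hq)) (inv_mem hxβ)
      rw [inv_inv] at h1
      exact mul_mem h1 hxβ
  have hxE : ∀ e ∈ E, x * e * x⁻¹ ∈ E := by
    intro e he
    have heD := hED he
    have hmove' : ∀ e' ∈ E, ∀ v, X.Adj v d → X.Zv v ≤ X.Qv (f (b - 1)) →
        ∀ z ∈ X.Zv v, x * e' * x⁻¹ * z = z * (x * e' * x⁻¹) := fun e' he' v hv hle z hz =>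
      hcm (hED he').1 (hle hz) (Zv_central hX hz (he'.2 v hv))
    refine hkey _ ((Subgroup.mem_normalizer_iff.1 hxn e).1 heD) (hmove' e he) fun v hv hle z hz => ?_
    have h1 : q⁻¹ * e * q ∈ E := by
      have := hEd _ (inv_mem hqT.1) e he
      rwa [inv_inv] at this
    have h2 : (q⁻¹ * x⁻¹ * q * x)⁻¹ * (q⁻¹ * e * q) * (q⁻¹ * x⁻¹ * q * x) ∈ E := by
      have := hEd _ (inv_mem ((Qv_le_Tv (adj_symm hd) hδ.2).1)) _ h1
      rwa [inv_inv] at this
    have h3' := hmove' _ h2 v hv hle z hz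
    convert h3' using 1 <;> group
  haveI : Finite E := Finite.of_injective _
    (Subgroup.inclusion_injective (hED.trans inf_le_left |>.trans ((Qv_le_Tv hd).trans inf_le_left)))
  have hEn : X.St (f 0) ≤ Subgroup.normalizer (E : Set G) := by
    refine St_le_of_generic hadj hd hgen hxT hxQ (mem_normalizer_of_finite hxE) fun t ht => ?_
    exact mem_normalizer_of_finite fun e he => hEd t ht.2 e he
  have hbot : E = ⊥ := edge_faithful hd (hED.trans (inf_le_left.trans (Qv_le_Tv hd)))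
    (fun a ha n hn => (Subgroup.mem_normalizer_iff.1 (hEn ha) n).1 hn) hEd
  obtain ⟨⟨r, hr⟩, hr1⟩ := Subgroup.ne_bot_iff_exists_ne_one.1 (Rv_ne_bot hX (adj_symm hd))
  have hrZ := Rv_le hX (adj_symm hd) hr
  have hrE : r ∈ E := ⟨Zv_le hX d hrZ, fun v hv => Zv_le_nbr hX hb hb2 (adj_symm hv) hrZ⟩
  rw [hbot, Subgroup.mem_bot] at hrE
  exact hr1 (Subtype.ext hrE)

omit hb in
/-- Edge groups of index three: the modules leave the opposite cores. -/
theorem edge_noncentral_three (i : Bool) : ¬ X.V i ≤ X.Q (!i) := by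
  obtain ⟨b, hb1, hb, f, hf⟩ := exists_crit hX
  have hb_one : b = 1 := by
    by_contra hne
    have hb2 : 2 ≤ b := by omega
    have h0 := cen_start hX hb hb2 hf
    by_cases hB : X.Cen (!(f 0).1)
    · have hC : ∀ j, X.Cen j := fun j => by
        have : j = (f 0).1 ∨ j = !(f 0).1 := by cases j <;> cases (f 0).1 <;> simp
        rcases this with rfl | rfl
        · exact h0
        · exact hB
      rcases Nat.lt_or_ge b 3 with h | h
      · obtain rfl : b = 2 := by omega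
        exact b_ne_two hX hC hb hf
      · exact b_le_two hX hb hC h hf
    · exact no_gap h3 hX hb hb2 hf hB
  subst hb_one
  have hr := (crit_symm hX hb le_rfl hf).2
  simp only [Nat.sub_zero, Nat.sub_self] at hr
  obtain ⟨g, j, e0, e1⟩ := hf.1 0 (by omega)
  have h1 := hf.2
  rw [e0, show f 1 = X.vtx (!j) g from e1, Zv_vtx, Qv_vtx, cnj_le_cnj] at h1
  rw [e0, show f 1 = X.vtx (!j) g from e1, Zv_vtx, Qv_vtx, cnj_le_cnj] at hr
  have : i = j ∨ i = !j := by cases i <;> cases j <;> simp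
  rcases this with rfl | rfl
  · exact h1
  · rwa [Bool.not_not]

end Data

end Cfsg.Agent.Solv.Amalgam
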