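import Mathlib
import Cfsg.Prelude.Def_Amalgam
import Cfsg.Prelude.Def_PLocal
import Cfsg.Agent.Lib.Solv.Amalgam.Dihedral
import Cfsg.Agent.Lib.Solv.Amalgam.Final
import Cfsg.Agent.Lib.Solv.Amalgam.Gap

/-!
# Amalgams of two groups with symmetric quotients of degree three
-/

set_option autoImplicit false
set_option linter.style.haveILetI false

open Cfsg

namespace Cfsg.Agent.Solv.Amalgam

universe u

variable {G : Type u} [Group G]

def dihThreeFun : DihedralGroup 3 → Equiv.Perm (Fin 3)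
  | DihedralGroup.r i => finRotate 3 ^ i.val
  | DihedralGroup.sr i => Equiv.swap 0 1 * finRotate 3 ^ i.val

theorem dihThree_mul : ∀ a b, dihThreeFun (a * b) = dihThreeFun a * dihThreeFun b := by decide

theorem dihThree_iso : Nonempty (Equiv.Perm (Fin 3) ≃* DihedralGroup 3) :=
  ⟨(MulEquiv.ofBijective (MonoidHom.mk' dihThreeFun dihThree_mul) (by decide)).symm⟩

theorem sym_three (P₁ P₂ : Subgroup G) [Finite ↥P₁] [Finite ↥P₂] (hgen : P₁ ⊔ P₂ = ⊤) (T : Subgroup G)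
    (hT : T = P₁ ⊓ P₂)
    (h₁ : ∀ P ∈ ({P₁, P₂} : Set (Subgroup G)),
      P ⊓ Subgroup.centralizer (Cfsg.pCoreOf 2 P : Set G) ≤ Cfsg.pCoreOf 2 P)
    (h₂ : ∀ P ∈ ({P₁, P₂} : Set (Subgroup G)), ∃ S : Sylow 2 ↥P, (S : Subgroup ↥P) = T.subgroupOf P)
    (h₃ : ∀ N : Subgroup G, N.Normal → N ≤ T → N = ⊥)
    (h₄ : ∀ P ∈ ({P₁, P₂} : Set (Subgroup G)), Nonempty (↥P ⧸ Cfsg.pCore 2 ↥P ≃* Equiv.Perm (Fin 3)))
    (h₅ : ∀ P ∈ ({P₁, P₂} : Set (Subgroup G)), ¬ P ≤ Subgroup.centralizer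
      (Cfsg.omegaOne 2 (T ⊓ Subgroup.centralizer (T : Set G)) : Set G)) :
    (Nonempty (↥P₁ ≃* Equiv.Perm (Fin 4)) ∧ Nonempty (↥P₂ ≃* Equiv.Perm (Fin 4))) ∨
      (Nonempty (↥P₁ ≃* Multiplicative (ZMod 2) × Equiv.Perm (Fin 4)) ∧
        Nonempty (↥P₂ ≃* Multiplicative (ZMod 2) × Equiv.Perm (Fin 4))) := by
  classical
  haveI : Fact (Nat.Prime 2) := ⟨Nat.prime_two⟩
  haveI hcn : ∀ (K : Subgroup G), (oddCore ↥K).Normal := fun K => Cfsg.Agent.Solv.pPrimeCore_normal 2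
  have hT1 : T ≤ P₁ := hT ▸ inf_le_left
  haveI : Finite T := Finite.of_injective _ (Subgroup.inclusion_injective hT1)
  let P : Bool → Subgroup G := fun i => cond i P₂ P₁
  have hmem : ∀ i, P i ∈ ({P₁, P₂} : Set (Subgroup G)) := fun i => by cases i <;> simp [P]
  haveI hfin : ∀ i, Finite ↥(P i) := fun i => by cases i <;> assumption
  have hTP : ∀ i, T ≤ P i := fun i => by cases i; exacts [hT1, hT ▸ inf_le_right]
  have hp : IsPGroup 2 T := by
    obtain ⟨S, hS⟩ := h₂ P₁ (by simp)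
    have := S.2
    rw [hS] at this
    exact this.of_equiv (Subgroup.subgroupOfEquivOfLe hT1)
  obtain ⟨e3⟩ := dihThree_iso
  have hidx : ∀ i, ¬ 2 ∣ T.relIndex (P i) := fun i => by
    obtain ⟨S, hS⟩ := h₂ _ (hmem i)
    have := S.not_dvd_index
    rwa [hS] at this
  have hdih : ∀ i, Dih (P i) T (Cfsg.pCoreOf 2 (P i)) := fun i => by
    obtain ⟨e⟩ := h₄ _ (hmem i)
    exact dih_of_iso (P i) T (hTP i) hp (hidx i) (n := 3) (by norm_num) (e.trans e3)
  have hnormal : ∀ N : Subgroup G, N ≤ T → (∀ i, ∀ g ∈ P i, ∀ a ∈ N, g * a * g⁻¹ ∈ N) → N = ⊥ := by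
    intro N hN hn
    haveI : Finite N := Finite.of_injective _ (Subgroup.inclusion_injective hN)
    have h : P₁ ⊔ P₂ ≤ Subgroup.normalizer (N : Set G) := sup_le
      (fun g hg => mem_normalizer_of_finite (hn false g hg)) (fun g hg => mem_normalizer_of_finite (hn true g hg))
    rw [hgen, top_le_iff] at h
    exact h₃ N (Subgroup.normalizer_eq_top_iff.1 h) hN
  have hQn : ∀ i, ∀ g ∈ P i, ∀ a ∈ Cfsg.pCoreOf 2 (P i), g * a * g⁻¹ ∈ Cfsg.pCoreOf 2 (P i) :=
    fun i g hg a ha => (Subgroup.mem_normalizer_iff.1 ((hdih i).norm hg) a).1 ha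
  have hne : Cfsg.pCoreOf 2 P₁ ≠ Cfsg.pCoreOf 2 P₂ := by
    intro h
    have hb := hnormal _ (hdih false).Q_le fun i g hg a ha => by
      cases i
      · exact hQn false g hg a ha
      · have := hQn true g hg a (h ▸ ha)
        exact h.symm ▸ this
    obtain ⟨g, hg, hgT⟩ := (hdih false).proper
    refine hgT (h₁ P₁ (by simp) ⟨hT1 hg, Subgroup.mem_centralizer_iff.2 fun a ha => ?_⟩)
    rw [show Cfsg.pCoreOf 2 P₁ = ⊥ from hb] at ha
    rw [Subgroup.mem_bot.1 ha, one_mul, mul_one]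
  let X : Data G :=
    { P := P
      Q := fun i => Cfsg.pCoreOf 2 (P i)
      T := T
      fin := inferInstance
      finP := hfin
      pgroup := hp
      dih := hdih
      ne := hne
      faithful := hnormal }
  have h3 : X.Three := by
    intro i
    obtain ⟨e⟩ := h₄ _ (hmem i)
    have h1 : Nat.card ↥(P i) = _ := Subgroup.card_eq_card_quotient_mul_card_subgroup (Cfsg.pCore 2 ↥(P i))
    rw [Nat.card_congr e.toEquiv, Nat.card_perm, Nat.card_fin] at h1
    have hQc : Nat.card ↥(Cfsg.pCoreOf 2 (P i)) = Nat.card ↥(Cfsg.pCore 2 ↥(P i)) :=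
      (Nat.card_congr (Subgroup.equivMapOfInjective _ (P i).subtype (P i).subtype_injective).toEquiv).symm
    have h2 : Nat.card T = 2 * Nat.card ↥(Cfsg.pCore 2 ↥(P i)) := by
      rw [← hQc]
      exact card_eq_two_mul (hdih i).Q_le (hdih i).proper (hdih i).two
    have h6 := (T.subgroupOf (P i)).card_mul_index
    rw [Nat.card_congr (Subgroup.subgroupOfEquivOfLe (hTP i)).toEquiv, h1, h2] at h6
    simp only [Nat.factorial] at h6
    show (T.subgroupOf (P i)).index = 3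
    exact Nat.eq_of_mul_eq_mul_left (show 0 < 2 * Nat.card ↥(Cfsg.pCore 2 ↥(P i)) from Nat.mul_pos two_pos Nat.card_pos)
      (h6.trans (by ring))
  have hX : X.Noncentral := by
    refine ⟨fun i z hz => h₁ _ (hmem i) ⟨hTP i hz.1, Subgroup.mem_centralizer_iff.2 fun q hq =>
      hz.2.2 q ((hdih i).Q_le hq)⟩, fun i => ?_⟩
    by_contra h
    push Not at h
    refine h₅ _ (hmem i) fun g hg => ?_
    refine Subgroup.mem_centralizer_iff.2 fun z hz => ?_
    rw [Cfsg.omegaOne] at hz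
    induction hz using Subgroup.closure_induction with
    | mem z hz =>
      obtain ⟨⟨hzT, hzC⟩, hz2⟩ := hz
      rw [pow_two] at hz2
      exact (h g hg z ⟨hzT, hz2, fun t ht => Subgroup.mem_centralizer_iff.1 hzC t ht⟩).symm
    | one => rw [one_mul, mul_one]
    | mul a b _ _ ha hb => exact (Commute.mul_left ha hb)
    | inv a _ ha => exact (Commute.inv_left ha)
  have hedge := Data.edge_noncentral_three h3 hX
  have hcore : ∀ i, oddCore ↥(P i) = ⊥ := by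
    intro i
    refine le_bot_iff.1 (sSup_le ?_)
    rintro N ⟨hNn, hNc⟩ x hx
    have hc : (x : G) ∈ Cfsg.pCoreOf 2 (P i) := by
      refine h₁ _ (hmem i) ⟨x.2, Subgroup.mem_centralizer_iff.2 ?_⟩
      rintro _ ⟨q, hq, rfl⟩
      haveI := Cfsg.Agent.Solv.pCore_normal (G := ↥(P i)) 2
      have h1 : q * x * q⁻¹ * x⁻¹ ∈ N := mul_mem (hNn.conj_mem x hx q) (inv_mem hx)
      have h2 : q * x * q⁻¹ * x⁻¹ ∈ Cfsg.pCore 2 ↥(P i) := by
        rw [show q * x * q⁻¹ * x⁻¹ = q * (x * q⁻¹ * x⁻¹) by group]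
        exact mul_mem hq ((Cfsg.Agent.Solv.pCore_normal (G := ↥(P i)) 2).conj_mem _ (inv_mem hq) x)
      obtain ⟨k, hk⟩ := (Cfsg.Agent.Solv.pCore_isPGroup (G := ↥(P i)) 2).exists_card_eq
      have h3' := (Cfsg.pCore 2 ↥(P i)).orderOf_dvd_natCard h2
      rw [hk] at h3'
      have h5 : q * x * q⁻¹ * x⁻¹ = 1 := orderOf_eq_one_iff.1
        (Nat.eq_one_of_dvd_coprimes (Nat.Coprime.pow_left k hNc.symm) h3' (N.orderOf_dvd_natCard h1))
      have h6 : q * x = x * q := by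
        calc q * x = q * x * q⁻¹ * x⁻¹ * (x * q) := by group
          _ = x * q := by rw [h5, one_mul]
      exact congrArg Subtype.val h6
    obtain ⟨q, hq, hqx⟩ := hc
    obtain ⟨k, hk⟩ := (Cfsg.Agent.Solv.pCore_isPGroup (G := ↥(P i)) 2).exists_card_eq
    have h1 := (Cfsg.pCore 2 ↥(P i)).orderOf_dvd_natCard hq
    rw [hk, show q = x from Subtype.ext hqx] at h1
    exact orderOf_eq_one_iff.1
      (Nat.eq_one_of_dvd_coprimes (Nat.Coprime.pow_left k hNc.symm) h1 (N.orderOf_dvd_natCard hx))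
  have hiso : ∀ i, Nonempty (↥(P i) ≃* ↥(P i) ⧸ oddCore ↥(P i)) := fun i =>
    ⟨((QuotientGroup.quotientMulEquivOfEq (hcore i)).trans QuotientGroup.quotientBot).symm⟩
  obtain ⟨a1⟩ := hiso false
  obtain ⟨a2⟩ := hiso true
  rcases Data.card_T hX hedge with h | h
  · obtain ⟨b1⟩ := (Data.side_iso hX hedge false).1 h
    obtain ⟨b2⟩ := (Data.side_iso hX hedge true).1 h
    exact Or.inl ⟨⟨a1.trans b1⟩, ⟨a2.trans b2⟩⟩
  · obtain ⟨b1⟩ := (Data.side_iso hX hedge false).2 h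
    obtain ⟨b2⟩ := (Data.side_iso hX hedge true).2 h
    exact Or.inr ⟨⟨(a1.trans b1).trans MulEquiv.prodComm⟩, ⟨(a2.trans b2).trans MulEquiv.prodComm⟩⟩

end Cfsg.Agent.Solv.Amalgam
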