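import Mathlib
import Cfsg.Agent.Lib.Solv.Amalgam.Dihedral
import Cfsg.Agent.Lib.Solv.Amalgam.Final

/-!
# A dihedral subgroup and an outer element normalizing its Sylow 2-subgroup
-/

set_option autoImplicit false
set_option linter.style.haveILetI false

open Cfsg
open Pointwise

namespace Cfsg.Agent.Solv.Amalgam

universe u

variable {G : Type u} [Group G] [Finite G]

theorem klein_prod : IsKleinFour (Multiplicative (ZMod 2) × Multiplicative (ZMod 2)) := by
  refine ⟨by simp, Nat.dvd_antisymm (Monoid.exponent_dvd_of_forall_pow_eq_one (by decide)) ?_⟩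
  have h := Monoid.order_dvd_exponent
    ((Multiplicative.ofAdd 1, 1) : Multiplicative (ZMod 2) × Multiplicative (ZMod 2))
  haveI : Fact (Nat.Prime 2) := ⟨Nat.prime_two⟩
  rwa [orderOf_eq_prime (p := 2) (by decide) (by decide)] at h

theorem four_of_central {H : Type u} [Group H] [Finite H] (S : Sylow 2 H) (h4 : Nat.card S = 4)
    (hsq : ∀ s : H, s ∈ (S : Subgroup H) → s * s = 1)
    (hN : Subgroup.normalizer ((S : Subgroup H) : Set H) ≤ Subgroup.centralizer ((S : Subgroup H) : Set H)) :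
    Nonempty (H ⧸ oddCore H ≃* Multiplicative (ZMod 2) × Multiplicative (ZMod 2)) := by
  haveI : Fact (Nat.Prime 2) := ⟨Nat.prime_two⟩
  set f := MonoidHom.transferSylow S hN with hf
  have hc := MonoidHom.ker_transferSylow_isComplement' S hN
  have hodd : ¬ 2 ∣ Nat.card f.ker := MonoidHom.not_dvd_card_ker_transferSylow S hN
  have hsurj : Function.Surjective f := by
    rw [← MonoidHom.range_eq_top]
    refine Subgroup.eq_top_of_card_eq _ ?_
    rw [← Subgroup.index_ker]
    exact hc.symm.index_eq_card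
  have hcore : oddCore H = f.ker := by
    refine le_antisymm (sSup_le ?_) (le_sSup ⟨inferInstance, (Nat.coprime_two_right.2 (Nat.odd_iff.2 (by omega)))⟩)
    rintro N ⟨-, hNc⟩ x hx
    rw [MonoidHom.mem_ker]
    have h1 : orderOf (f x) ∣ Nat.card N := (orderOf_map_dvd f x).trans (N.orderOf_dvd_natCard hx)
    have h2 : orderOf (f x) ∣ 2 := orderOf_dvd_of_pow_eq_one (Subtype.ext (by rw [pow_two]; exact hsq _ (f x).2))
    exact orderOf_eq_one_iff.1 (Nat.eq_one_of_dvd_coprimes hNc h1 h2)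
  obtain ⟨x, hx, hx1⟩ : ∃ x : S, x ∈ (⊤ : Subgroup S) ∧ x ≠ 1 := by
    haveI : Nontrivial S := Finite.one_lt_card_iff_nontrivial.1 (by omega)
    obtain ⟨x, hx⟩ := exists_ne (1 : S)
    exact ⟨x, trivial, hx⟩
  haveI : IsKleinFour S := ⟨h4, Nat.dvd_antisymm
    (Monoid.exponent_dvd_of_forall_pow_eq_one fun g => Subtype.ext (by rw [pow_two]; exact hsq _ g.2))
    (by
      have := Monoid.order_dvd_exponent x
      rwa [orderOf_eq_prime (p := 2) (Subtype.ext (by rw [pow_two]; exact hsq _ x.2)) hx1] at this)⟩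
  haveI := klein_prod
  obtain ⟨e⟩ := IsKleinFour.nonempty_mulEquiv (G₁ := S) (G₂ := Multiplicative (ZMod 2) × Multiplicative (ZMod 2))
  exact ⟨((QuotientGroup.quotientMulEquivOfEq hcore).trans
    (QuotientGroup.quotientKerEquivOfSurjective f hsurj)).trans e⟩

theorem outer_two (H P : Subgroup G) (hO : Cfsg.pCore 2 ↥H ≠ ⊥) {n : ℕ} (hn : n ≠ 0)
    (e : ↥H ⧸ Cfsg.pCore 2 ↥H ≃* DihedralGroup n) (hPH : P ≤ H) (hP : IsPGroup 2 P)
    (hPsyl : ¬ 2 ∣ P.relIndex H) (y : G) (hy2 : y * y ∈ P ⊔ Subgroup.centralizer (P : Set G))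
    (hyN : cnj y P = P)
    (hyQ : ∀ Q : Subgroup G, Q ≤ P → (Q.subgroupOf H).Normal → cnj y Q = Q → Q = ⊥) :
    (Nat.card P = 4 ∨ Nat.card P = 8 ∨ Nat.card P = 16) ∧
    (Nonempty (↥H ⧸ Cfsg.oddCore ↥H ≃* Multiplicative (ZMod 2) × Multiplicative (ZMod 2)) ∨
     Nonempty (↥H ⧸ Cfsg.oddCore ↥H ≃* Equiv.Perm (Fin 4)) ∨
     Nonempty (↥H ⧸ Cfsg.oddCore ↥H ≃* Equiv.Perm (Fin 4) × Multiplicative (ZMod 2))) := by
  haveI : Fact (Nat.Prime 2) := ⟨Nat.prime_two⟩
  set Q := (Cfsg.pCore 2 ↥H).map H.subtype with hQ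
  have hd1 : Dih H P Q := dih_of_iso H P hPH hP hPsyl hn e
  have hQn : ∀ g ∈ H, ∀ q ∈ Q, g * q * g⁻¹ ∈ Q := fun g hg q hq =>
    (Subgroup.mem_normalizer_iff.1 (hd1.norm hg) q).1 hq
  -- the other side
  have hd2 : Dih (cnj y H) P (cnj y Q) := by
    have hT : cnj y P = P := hyN
    have hm : ∀ {A : Subgroup G} {a}, a ∈ cnj y A → y⁻¹ * a * y ∈ A := fun h => mem_cnj.1 h
    have hmP : ∀ {a}, a ∈ P → y⁻¹ * a * y ∈ P := fun {a} h => mem_cnj.1 (hT.symm ▸ h)
    have hb : ∀ {A : Subgroup G} {a}, y⁻¹ * a * y ∈ A → a ∈ cnj y A := fun h => mem_cnj.2 h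
    refine ⟨hT ▸ cnj_mono y hd1.Q_le, hT ▸ cnj_mono y hd1.T_le, ?_, ?_, ?_, ?_, ?_, ?_⟩
    · intro g hg
      refine mem_normalizer_of_finite fun a ha => hb ?_
      have := hQn _ (hm hg) _ (hm ha)
      convert this using 1
      group
    · obtain ⟨t, ht, htQ⟩ := hd1.proper
      exact ⟨y * t * y⁻¹, hT ▸ cnj_conj_mem.2 ht, by rw [cnj_conj_mem]; exact htQ⟩
    · intro s hs t ht hsQ htQ
      refine hb ?_
      have := hd1.two _ (hmP hs) _ (hmP ht) (fun h => hsQ (hb h)) (fun h => htQ (hb h))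
      convert this using 1
      group
    · intro g hg hc
      have h1 := hd1.self _ (hm hg) fun t ht => by
        have := hmP (hc (y * t * y⁻¹) (hT ▸ cnj_conj_mem.2 ht))
        convert this using 1
        group
      have h2 := (cnj_conj_mem (g := y)).2 h1
      rw [hT] at h2
      convert h2 using 1
      group
    · obtain ⟨g, hg, hgen⟩ := hd1.gen
      refine ⟨y * g * y⁻¹, cnj_conj_mem.2 hg, ?_⟩
      conv_rhs => rw [← hgen]
      show P ⊔ cnj (y * g * y⁻¹) P = cnj y (P ⊔ cnj g P)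
      conv_rhs => rw [cnj, Subgroup.map_sup, ← cnj, ← cnj, hT, cnj_cnj]
      congr 1
      conv_lhs => rw [← hT, cnj_cnj, inv_mul_cancel_right]
    · intro h hh
      obtain ⟨g, hg, hgT, ⟨N, hN, hgN⟩, hinv⟩ := hd1.rot _ (hm hh)
      refine ⟨y * g * y⁻¹, cnj_conj_mem.2 hg, ?_, ⟨N, hN, by rw [conj_pow]; exact cnj_conj_mem.2 hgN⟩, fun t ht htQ => hb ?_⟩
      · have := (cnj_conj_mem (g := y)).2 hgT
        rw [hT] at this
        convert this using 1
        group
      · have := hinv _ (hmP ht) fun h => htQ (hb h)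
        convert this using 1
        group
  -- squares of the element
  have hyy : ∀ A : Subgroup G, A ≤ P → (∀ g ∈ H, ∀ a ∈ A, g * a * g⁻¹ ∈ A) → cnj (y * y) A = A := by
    intro A hA hn
    refine cnj_eq_of_mem_normalizer ((sup_le ?_ ?_ : P ⊔ Subgroup.centralizer (P : Set G) ≤ _) hy2)
    · exact fun p hp => Subgroup.mem_normalizer_fintype fun a ha => hn p (hPH hp) a ha
    · exact fun c hc => Subgroup.mem_normalizer_fintype fun a ha => by
        rw [← Subgroup.mem_centralizer_iff.1 hc a (hA ha), mul_inv_cancel_right]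
        exact ha
  have hfaith : ∀ N : Subgroup G, N ≤ P → (∀ g ∈ H, ∀ a ∈ N, g * a * g⁻¹ ∈ N) →
      (∀ g ∈ cnj y H, ∀ a ∈ N, g * a * g⁻¹ ∈ N) → N = ⊥ := by
    intro N hN h1 h2
    set M := N ⊔ cnj y N with hM
    have hMy : cnj y M = M := by
      rw [hM, cnj, Subgroup.map_sup, ← cnj, ← cnj, cnj_cnj, hyy N hN h1, sup_comm]
    have hbot : M = ⊥ := by
      refine hyQ M (sup_le hN (hyN ▸ cnj_mono y hN)) ⟨fun a ha g => ?_⟩ hMy
      show (g : G) * a * (g : G)⁻¹ ∈ M
      refine (show M ≤ M.comap (MulAut.conj (g : G)).toMonoidHom from sup_le ?_ ?_) ha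
      · exact fun b hb => (le_sup_left : N ≤ M) (h1 g g.2 b hb)
      · intro b hb
        refine (le_sup_right : cnj y N ≤ M) ?_
        show (g : G) * b * (g : G)⁻¹ ∈ cnj y N
        have hb' : y * b * y⁻¹ ∈ N := by
          rw [← hyy N hN h1, mem_cnj]
          have := mem_cnj.1 hb
          convert this using 1
          group
        have h3 := h2 (y * g * y⁻¹) (cnj_conj_mem.2 g.2) _ hb'
        rw [mem_cnj]
        rw [← hyy N hN h1, mem_cnj] at h3
        convert h3 using 1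
        group
    exact le_bot_iff.1 (hbot ▸ le_sup_left)
  have hQP := hd1.Q_le
  have hne : Q ≠ cnj y Q := by
    intro h
    have := hyQ Q hQP ⟨fun a ha g => hQn g g.2 a ha⟩ h.symm
    exact hO ((Subgroup.map_eq_bot_iff_of_injective _ H.subtype_injective).1 this)
  let X : Data G :=
    { P := fun i => Bool.rec H (cnj y H) i
      Q := fun i => Bool.rec Q (cnj y Q) i
      T := P
      fin := inferInstance
      finP := fun i => inferInstance
      pgroup := hP
      dih := fun i => by cases i; exacts [hd1, hd2]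
      ne := hne
      faithful := fun N hN h => hfaith N hN (h false) (h true) }
  have hZy : ∀ z, z ∈ X.Z → y * z * y⁻¹ ∈ X.Z ∧ y⁻¹ * z * y ∈ X.Z := by
    intro z hz
    obtain ⟨hzT, hz2, hzc⟩ := hz
    have hc1 : ∀ {a}, a ∈ P → y⁻¹ * a * y ∈ P := fun {a} h => mem_cnj.1 (hyN.symm ▸ h)
    have hc2 : ∀ {a}, a ∈ P → y * a * y⁻¹ ∈ P := fun {a} h => hyN ▸ cnj_conj_mem.2 h
    refine ⟨⟨hc2 hzT, by rw [conj_mul, hz2, mul_one, mul_inv_cancel], fun t ht => ?_⟩,
      ⟨hc1 hzT, ?_, fun t ht => ?_⟩⟩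
    · calc t * (y * z * y⁻¹) = y * ((y⁻¹ * t * y) * z) * y⁻¹ := by group
        _ = y * (z * (y⁻¹ * t * y)) * y⁻¹ := by rw [hzc _ (hc1 ht)]
        _ = _ := by group
    · calc y⁻¹ * z * y * (y⁻¹ * z * y) = y⁻¹ * (z * z) * y := by group
        _ = 1 := by rw [hz2, mul_one, inv_mul_cancel]
    · calc t * (y⁻¹ * z * y) = y⁻¹ * ((y * t * y⁻¹) * z) * y := by group
        _ = y⁻¹ * (z * (y * t * y⁻¹)) * y := by rw [hzc _ (hc2 ht)]
        _ = _ := by group
  by_cases hZle : X.Z ⊆ (Q : Set G)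
  · -- the amalgam
    have hnc : ∀ i, ∃ g ∈ X.P i, ∃ z ∈ X.Z, g * z ≠ z * g := by
      have hnc0 : ∃ g ∈ H, ∃ z ∈ X.Z, g * z ≠ z * g := by
        by_contra h
        push Not at h
        obtain ⟨z, hz, hz1⟩ := X.Z_nontrivial
        have hbot : Subgroup.closure X.Z = ⊥ := by
          refine X.faithful _ ((Subgroup.closure_le _).2 fun a ha => ha.1) fun i g hg a ha => ?_
          refine (Subgroup.closure_le ((Subgroup.closure X.Z).comap (MulAut.conj g).toMonoidHom)).2 ?_ ha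
          intro a ha
          show g * a * g⁻¹ ∈ Subgroup.closure X.Z
          have hfix : g * a * g⁻¹ = a := by
            cases i
            · rw [h g hg a ha, mul_inv_cancel_right]
            · have h1 := h _ (mem_cnj.1 hg) _ (hZy a ha).2
              calc g * a * g⁻¹ = y * ((y⁻¹ * g * y) * (y⁻¹ * a * y)) * y⁻¹ * g⁻¹ := by group
                _ = y * ((y⁻¹ * a * y) * (y⁻¹ * g * y)) * y⁻¹ * g⁻¹ := by rw [h1]
                _ = a := by group
          rw [hfix]
          exact Subgroup.subset_closure ha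
        exact hz1 (Subgroup.mem_bot.1 (hbot ▸ Subgroup.subset_closure hz))
      intro i
      obtain ⟨g, hg, z, hz, hne⟩ := hnc0
      cases i
      · exact ⟨g, hg, z, hz, hne⟩
      · refine ⟨y * g * y⁻¹, cnj_conj_mem.2 hg, y * z * y⁻¹, (hZy z hz).1, fun e' => hne ?_⟩
        rw [conj_mul, conj_mul] at e'
        exact mul_left_cancel (mul_right_cancel e')
    have hX : X.Noncentral := ⟨fun i => by
      cases i
      · exact hZle
      · exact fun z hz => mem_cnj.2 (hZle (hZy z hz).2), hnc⟩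
    -- the element exchanges the modules
    have hV : cnj y (X.V false) = X.V true := by
      rw [cnj, Data.V, Data.V, MonoidHom.map_closure]
      congr 1
      ext a
      constructor
      · rintro ⟨_, ⟨g, hg, z, hz, rfl⟩, rfl⟩
        refine ⟨y * g * y⁻¹, cnj_conj_mem.2 hg, _, (hZy z hz).1, ?_⟩
        show y * (g * z * g⁻¹) * y⁻¹ = _
        group
      · rintro ⟨g, hg, z, hz, rfl⟩
        refine ⟨_, ⟨y⁻¹ * g * y, mem_cnj.1 hg, _, (hZy z hz).2, rfl⟩, ?_⟩
        show y * _ * y⁻¹ = _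
        group
    have hV0 : X.V false ≤ P := (Data.V_le hX false).trans hQP
    have hV' : cnj y (X.V true) = X.V false := by
      rw [← hV, cnj_cnj, hyy _ hV0 fun g hg a ha => X.V_conj hg ha]
    have hR : ∀ {i j}, cnj y (X.V i) = X.V j → cnj y (X.R i) = X.R j := by
      intro i j hij
      rw [cnj, Data.R, Data.R, MonoidHom.map_closure]
      congr 1
      ext a
      constructor
      · rintro ⟨_, ⟨v, hv, t, ht, rfl⟩, rfl⟩
        refine ⟨y * v * y⁻¹, hij ▸ cnj_conj_mem.2 hv, y * t * y⁻¹, show y * t * y⁻¹ ∈ P from hyN ▸ cnj_conj_mem.2 ht, ?_⟩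
        show y * (v * t * v⁻¹ * t⁻¹) * y⁻¹ = _
        group
      · rintro ⟨v, hv, t, ht, rfl⟩
        refine ⟨_, ⟨y⁻¹ * v * y, mem_cnj.1 (hij.symm ▸ hv), y⁻¹ * t * y, show y⁻¹ * t * y ∈ P from mem_cnj.1 (hyN.symm ▸ ht), rfl⟩, ?_⟩
        show y * _ * y⁻¹ = _
        group
    have hbase : ∀ i, X.Adj (X.vtx i 1) (X.vtx (!i) 1) := fun i => ⟨1, i, rfl, rfl⟩
    have hbaseR : ∀ i, X.Rv (X.vtx (!i) 1) (X.vtx i 1) = X.R (!i) := fun i => by
      have := X.Rv_vtx 1 (!i)
      rwa [Bool.not_not, cnj_one] at this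
    have hCen : ∀ i, X.Cen i ↔ ∀ r ∈ X.R (!i), ∀ a ∈ X.P i, a * r = r * a := by
      intro i
      refine ⟨fun h r hr a ha => h _ _ (hbase i) rfl r (by rw [hbaseR]; exact hr) a (by
        rw [Data.St_vtx, cnj_one]; exact ha), fun h => ?_⟩
      refine Data.cen_of_edge (hbase i) fun r hr a ha => h r (by rwa [hbaseR] at hr) a ?_
      rwa [Data.St_vtx, cnj_one] at ha
    have hS : X.SymHyp := by
      intro i hi
      rw [hCen] at hi ⊢
      intro r hr a ha
      rw [Bool.not_not] at hr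
      cases i
      · have hr' : r ∈ cnj y (X.R true) := by rw [hR hV']; exact hr
        have h1 := hi _ (mem_cnj.1 hr') _ (mem_cnj.1 ha)
        calc a * r = y * ((y⁻¹ * a * y) * (y⁻¹ * r * y)) * y⁻¹ := by group
          _ = y * ((y⁻¹ * r * y) * (y⁻¹ * a * y)) * y⁻¹ := by rw [h1]
          _ = _ := by group
      · have hr' : y * r * y⁻¹ ∈ X.R false := by
          rw [← hR hV']
          exact cnj_conj_mem.2 hr
        have h1 := hi _ hr' _ ((cnj_conj_mem (g := y)).2 ha)
        rw [conj_mul, conj_mul] at h1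
        exact mul_left_cancel (mul_right_cancel h1)
    have hedge := Data.edge_noncentral hX hS
    obtain ⟨h8, h16⟩ := Data.side_iso hX hedge false
    rcases Data.card_T hX hedge with h | h
    · exact ⟨Or.inr (Or.inl h), Or.inr (Or.inl (h8 h))⟩
    · exact ⟨Or.inr (Or.inr h), Or.inr (Or.inr (h16 h))⟩
  · -- a central involution outside the core
    obtain ⟨z, hz, hzQ⟩ := Set.not_subset.1 hZle
    have hC : ∀ (K : Subgroup G) (R : Subgroup G), Dih K P R → ∀ w ∈ X.Z, w ∉ R →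
        ∀ A : Subgroup G, A ≤ R → (∀ t ∈ P, ∀ a ∈ A, t * a * t⁻¹ ∈ A) → ∀ g ∈ K, ∀ a ∈ A, g * a * g⁻¹ ∈ A := by
      intro K R hd w hw hwR A hA hAn g hg a ha
      have hle : K ≤ R ⊔ Subgroup.centralizer (R : Set G) := by
        refine hd.le_of_mem (t := w) ?_ le_sup_left hw.1 hwR ((le_sup_right : Subgroup.centralizer (R : Set G) ≤ _)
          (Subgroup.mem_centralizer_iff.2 fun q hq => hw.2.2 q (hd.Q_le hq)))
        intro h hh b hb
        refine (show R ⊔ Subgroup.centralizer (R : Set G) ≤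
          (R ⊔ Subgroup.centralizer (R : Set G)).comap (MulAut.conj h).toMonoidHom from sup_le ?_ ?_) hb
        · exact fun q hq => (le_sup_left : R ≤ _) ((Subgroup.mem_normalizer_iff.1 (hd.norm hh) q).1 hq)
        · intro c hc
          refine (le_sup_right : Subgroup.centralizer (R : Set G) ≤ _) (Subgroup.mem_centralizer_iff.2 fun q hq => ?_)
          have h1 := Subgroup.mem_centralizer_iff.1 hc _ ((Subgroup.mem_normalizer_iff.1 (hd.norm (inv_mem hh)) q).1 hq)
          rw [inv_inv] at h1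
          show q * (h * c * h⁻¹) = h * c * h⁻¹ * q
          calc q * (h * c * h⁻¹) = h * ((h⁻¹ * q * h) * c) * h⁻¹ := by group
            _ = h * (c * (h⁻¹ * q * h)) * h⁻¹ := by rw [h1]
            _ = _ := by group
      have hn : R ⊔ Subgroup.centralizer (R : Set G) ≤ Subgroup.normalizer (A : Set G) := sup_le
        (fun q hq => Subgroup.mem_normalizer_fintype fun b hb => hAn q (hd.Q_le hq) b hb)
        fun c hc => Subgroup.mem_normalizer_fintype fun b hb => by
          rw [← Subgroup.mem_centralizer_iff.1 hc b (hA hb), mul_inv_cancel_right]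
          exact hb
      exact (Subgroup.mem_normalizer_iff.1 (hn (hle hg)) a).1 ha
    have hD : Q ⊓ cnj y Q = ⊥ := by
      have hDn : ∀ t ∈ P, ∀ a ∈ Q ⊓ cnj y Q, t * a * t⁻¹ ∈ Q ⊓ cnj y Q := fun t ht a ha =>
        ⟨hQn t (hPH ht) a ha.1, (Subgroup.mem_normalizer_iff.1 (hd2.norm (hd2.T_le ht)) a).1 ha.2⟩
      refine hfaith _ (inf_le_left.trans hQP) (hC H Q hd1 z hz hzQ _ inf_le_left hDn)
        (hC _ _ hd2 _ (hZy z hz).1 (fun h => hzQ ?_) _ inf_le_right hDn)
      exact cnj_conj_mem.1 h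
    have hPQ : Nat.card P = 2 * Nat.card Q := card_eq_two_mul hQP hd1.proper hd1.two
    have hQ2 : Nat.card Q = 2 := by
      have h1 : Nat.card Q ≤ 2 * Nat.card ↥(Q ⊓ cnj y Q) := card_le_two_mul inf_le_left fun a ha b hb ha' hb' =>
        ⟨Q.mul_mem (Q.inv_mem ha) hb, hd2.two a (hQP ha) b (hQP hb) (fun h => ha' ⟨ha, h⟩) (fun h => hb' ⟨hb, h⟩)⟩
      rw [hD, Subgroup.card_bot] at h1
      have h2 : 1 < Nat.card Q := (Subgroup.one_lt_card_iff_ne_bot _).2 fun h =>
        hO ((Subgroup.map_eq_bot_iff_of_injective _ H.subtype_injective).1 h)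
      omega
    refine ⟨Or.inl (by omega), Or.inl ?_⟩
    -- every element is an involution
    have hqq : ∀ q ∈ Q, q * q = 1 := fun q hq => by
      have := pow_card_eq_one' (x := (⟨q, hq⟩ : Q))
      rw [hQ2, pow_two] at this
      exact congrArg Subtype.val this
    have hdec : ∀ s ∈ P, ∃ q ∈ Q, s = q ∨ s = z * q := by
      intro s hs
      by_cases hsQ : s ∈ Q
      · exact ⟨s, hsQ, Or.inl rfl⟩
      · exact ⟨z⁻¹ * s, hd1.two z hz.1 s hs hzQ hsQ, Or.inr (mul_inv_cancel_left z s).symm⟩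
    have hQc : ∀ q ∈ Q, ∀ q' ∈ Q, q * q' = q' * q := by
      intro q hq q' hq'
      haveI : IsCyclic Q := isCyclic_of_prime_card (p := 2) hQ2
      exact congrArg Subtype.val (IsCyclic.commGroup.mul_comm (⟨q, hq⟩ : Q) ⟨q', hq'⟩)
    have hPc : ∀ s ∈ P, ∀ s' ∈ P, s * s' = s' * s := by
      intro s hs s' hs'
      obtain ⟨q, hq, hsq⟩ := hdec s hs
      obtain ⟨q', hq', hsq'⟩ := hdec s' hs'
      have c1 : Commute q q' := hQc q hq q' hq'
      have cz : ∀ {p}, p ∈ P → Commute p z := fun hp => hz.2.2 _ hp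
      rcases hsq with rfl | rfl <;> rcases hsq' with rfl | rfl
      · exact c1
      · exact (cz (hQP hq)).mul_right c1
      · exact (Commute.mul_left (cz (hQP hq')).symm c1)
      · exact Commute.mul_left ((cz hz.1).mul_right (cz (hQP hq')).symm) ((cz (hQP hq)).mul_right c1)
    have hPsq : ∀ s ∈ P, s * s = 1 := by
      intro s hs
      obtain ⟨q, hq, rfl | rfl⟩ := hdec s hs
      · exact hqq _ hq
      · calc z * q * (z * q) = z * (q * z) * q := by group
          _ = (z * z) * (q * q) := by rw [hz.2.2 q (hQP hq)]; group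
          _ = 1 := by rw [hz.2.1, hqq q hq, one_mul]
    have hp' : IsPGroup 2 (P.subgroupOf H) := hP.of_equiv (Subgroup.subgroupOfEquivOfLe hPH).symm
    refine four_of_central (hp'.toSylow hPsyl) ?_ (fun s hs => Subtype.ext (hPsq _ hs)) ?_
    · show Nat.card (P.subgroupOf H) = 4
      rw [Nat.card_congr (Subgroup.subgroupOfEquivOfLe hPH).toEquiv]
      omega
    · intro g hg
      have hgP : (g : G) ∈ P := hd1.self g g.2 fun t ht => (Subgroup.mem_normalizer_iff.1 hg ⟨t, hPH ht⟩).1 ht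
      exact Subgroup.mem_centralizer_iff.2 fun s hs => Subtype.ext (hPc s hs g hgP)

end Cfsg.Agent.Solv.Amalgam
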